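import Groth.Agent.WQ7.Free
import Mathlib.RingTheory.Etale.Locus
import Mathlib.RingTheory.Smooth.Fiber
import Mathlib.RingTheory.Kaehler.Basic
import Mathlib.RingTheory.Flat.Stability

/-!
A finite group action with trivial inertia above a prime is étale near that prime.
-/

set_option autoImplicit false
universe u w

namespace Groth.Agent.MiscTwoH99

variable {R C : Type u} [CommRing R] [CommRing C] [Algebra R C]
  {G : Type w} [Group G] [MulSemiringAction G C] [SMulCommClass G R C]

omit [SMulCommClass G R C] in
/-- If the delta function scaled by `r` is a combination of orbit functions, `r ^ 2` kills every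
derivation. -/
theorem sq_smul_derivation_eq_zero [Fintype G] [DecidableEq G] [Algebra.IsInvariant R C G]
    {r : R} {l : ℕ} (x y : Fin l → C)
    (hδ : ∀ g : G, ∑ k, x k * (g • y k) = if g = 1 then algebraMap R C r else 0)
    (hdual : ∀ a : C, r • a = ∑ k, (∑ g : G, g • (a * x k)) * y k)
    {M : Type u} [AddCommGroup M] [Module C M] [Module R M] [IsScalarTower R C M]
    (D : Derivation R C M) (b : C) : r ^ 2 • D b = 0 := by
  have ht : ∀ a k, D (∑ g : G, g • (a * x k)) = 0 := fun a k => by
    obtain ⟨c, hc⟩ := Algebra.IsInvariant.isInvariant (A := R) (G := G) (∑ g : G, g • (a * x k)) fun h => by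
      rw [Finset.smul_sum]
      exact Fintype.sum_equiv (Equiv.mulLeft h) _ _ fun g => (mul_smul h g _).symm
    rw [← hc, D.map_algebraMap]
  let ω : G → M := fun g => ∑ k, (g • x k) • D (y k)
  have hD : ∀ a, r • D a = ∑ g : G, (g • a) • ω g := fun a => by
    rw [← D.map_smul, hdual, map_sum]
    simp only [Derivation.leibniz, ht, smul_zero, add_zero]
    simp only [ω, Finset.sum_smul, Finset.smul_sum, smul_smul, ← smul_mul']
    exact Finset.sum_comm
  have h1 : ∑ g : G, ω g = 0 := by
    have := hD 1
    simp only [smul_one, one_smul, Derivation.map_one_eq_zero, smul_zero] at this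
    exact this.symm
  have h2 : ∀ a c : C, ∑ g : G, ((g • a - a) * (g • c - c)) • ω g = 0 := fun a c => by
    have e : r • D (a * c) = a • (r • D c) + c • (r • D a) := by
      rw [D.leibniz, smul_add, smul_comm r a, smul_comm r c]
    rw [hD, hD, hD] at e
    simp only [sub_mul, mul_sub, sub_smul, Finset.sum_sub_distrib, mul_smul, ← Finset.smul_sum, h1,
      smul_zero, sub_zero, smul_mul'] at *
    rw [e]
    simp only [Finset.smul_sum, smul_smul, ← Finset.sum_add_distrib, ← Finset.sum_sub_distrib]
    refine Finset.sum_eq_zero fun g _ => ?_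
    rw [mul_comm (g • a) c]
    abel
  have h3 : ∑ g : G, ((algebraMap R C r) * (g • b - b)) • ω g = 0 := by
    have h := Finset.sum_eq_zero (s := (Finset.univ : Finset (Fin l))) fun k _ =>
      show x k • ∑ g : G, ((g • y k - y k) * (g • b - b)) • ω g = 0 by rw [h2, smul_zero]
    simp only [Finset.smul_sum, smul_smul, ← mul_assoc] at h
    rw [Finset.sum_comm] at h
    simp only [← Finset.sum_smul, ← Finset.sum_mul, mul_sub (x _), Finset.sum_sub_distrib] at h
    have hx : ∑ k, x k * y k = algebraMap R C r := by simpa using hδ 1
    simp only [hδ, hx] at h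
    rw [← neg_eq_zero, ← h, ← Finset.sum_neg_distrib]
    refine Finset.sum_congr rfl fun g _ => ?_
    split_ifs with hg
    · subst hg; simp
    · rw [zero_sub, neg_mul, neg_smul]
  rw [pow_two, mul_smul, hD, ← algebraMap_smul C r, Finset.smul_sum]
  simp only [mul_sub, sub_smul, Finset.sum_sub_distrib, ← Finset.smul_sum, h1, smul_zero,
    sub_zero] at h3
  simpa only [smul_smul] using h3

/-- Trivial inertia above `q` gives étaleness above an element outside `q`. -/
theorem exists_etale_away [Finite G] [IsNoetherianRing R] [FaithfulSMul R C] [Module.Finite R C]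
    [Algebra.IsInvariant R C G] (q : Ideal R) [q.IsPrime]
    (h : ∀ Q : Ideal C, Q.IsPrime → Q.comap (algebraMap R C) = q → Q.inertia G = ⊥) :
    ∃ r ∉ q, Algebra.Etale R (Localization.Away (algebraMap R C r)) := by
  classical
  let := Fintype.ofFinite G
  have : Algebra.IsIntegral R C := Algebra.IsIntegral.of_finite R C
  obtain ⟨r, hr, hmem⟩ := WQ7.exists_delta (R := R) (A := C) (G := G) q h
  replace hmem : Pi.single (1 : G) (algebraMap R C r) ∈
      WQ7.orbitSpan (H := G) (⊤ : Subalgebra R C) := by convert hmem
  obtain ⟨l, x, f, hsum⟩ := Submodule.mem_span_set'.mp hmem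
  have hf := fun k => (f k).2
  choose y hy using hf
  have hval : ∀ g : G, ∑ k, x k * (g • (y k : C)) = if g = 1 then algebraMap R C r else 0 := fun g => by
    have := congrFun hsum g
    simp only [Finset.sum_apply, Pi.smul_apply, smul_eq_mul] at this
    rw [Pi.single_apply] at this
    rw [← this]
    exact Finset.sum_congr rfl fun k _ => by rw [← hy k]
  have hdual : ∀ a : C, r • a = ∑ k, (∑ g : G, g • (a * x k)) * (y k : C) := fun a => by
    simp only [Finset.sum_mul]
    rw [Finset.sum_comm]
    calc r • a = ∑ g : G, (g • a) * (g • ∑ k, x k * (g⁻¹ • (y k : C))) := by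
          rw [Finset.sum_eq_single (1 : G) (fun g _ hg => by rw [hval, if_neg (by simpa using hg),
            smul_zero, mul_zero]) (fun h => absurd (Finset.mem_univ _) h)]
          rw [hval, if_pos inv_one, one_smul, one_smul, Algebra.smul_def, mul_comm]
      _ = _ := Finset.sum_congr rfl fun g _ => by
          simp [Finset.smul_sum, Finset.mul_sum, smul_mul', mul_assoc]
  refine ⟨r, hr, ?_⟩
  let S : Submonoid R := Submonoid.powers r
  let A' := Localization.Away (algebraMap R C r)
  let R' := Localization S
  haveI : IsLocalization (Algebra.algebraMapSubmonoid C S) A' := by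
    rw [Algebra.algebraMapSubmonoid_powers]; infer_instance
  choose t0 ht0 using fun k a => Algebra.IsInvariant.isInvariant (A := R) (G := G)
    (∑ g : G, g • (a * x k)) fun h => by
      rw [Finset.smul_sum]
      exact Fintype.sum_equiv (Equiv.mulLeft h) _ _ fun g => (mul_smul h g _).symm
  let t : Fin l → C →ₗ[R] R := fun k => {
    toFun := t0 k
    map_add' := fun a b => FaithfulSMul.algebraMap_injective R C (by
      simp only [map_add, ht0, add_mul, smul_add, Finset.sum_add_distrib])
    map_smul' := fun c a => FaithfulSMul.algebraMap_injective R C (by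
      simp only [RingHom.id_apply, smul_eq_mul, map_mul, ht0, Finset.mul_sum]
      exact Finset.sum_congr rfl fun g _ => by rw [smul_mul_assoc, smul_comm, Algebra.smul_def]) }
  have htx : ∀ a k, algebraMap R C (t k a) = ∑ g : G, g • (a * x k) := fun a k => ht0 k a
  have hrA' : IsUnit (algebraMap R A' r) := by
    rw [IsScalarTower.algebraMap_apply R C A']
    exact IsLocalization.Away.algebraMap_isUnit _
  let fl := (IsScalarTower.toAlgHom R C A').toLinearMap
  haveI : IsLocalizedModule S fl := isLocalizedModule_iff_isLocalization.mpr inferInstance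
  let g₀ : C →ₗ[R] (Fin l → R') := LinearMap.pi fun j => (Algebra.linearMap R R').comp (t j)
  have hunit : ∀ s : S, IsUnit (algebraMap R (Module.End R (Fin l → R')) s) := fun s => by
    obtain ⟨u, hu⟩ := IsLocalization.map_units R' s
    rw [Module.End.isUnit_iff]
    refine Function.bijective_iff_has_inverse.mpr ⟨fun w i => (↑u⁻¹ : R') * w i, fun w => ?_, fun w => ?_⟩
    · funext i
      simp [Algebra.smul_def, ← hu]
    · funext i
      simp [Algebra.smul_def, ← hu]
  let u : A' →ₗ[R] (Fin l → R') := IsLocalizedModule.lift S fl g₀ hunit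
  let φ : R' →ₐ[R] A' := IsLocalization.liftAlgHom (M := S) (f := Algebra.ofId R A') (fun s => by
    obtain ⟨n, hn⟩ := s.2
    show IsUnit (algebraMap R A' (s : R))
    rw [← hn, map_pow]
    exact hrA'.pow n)
  let v : (Fin l → R') →ₗ[R] A' := ∑ j : Fin l,
    (LinearMap.mulRight R (algebraMap C A' (y j) * (↑hrA'.unit⁻¹ : A'))).comp
      (φ.toLinearMap.comp (LinearMap.proj j))
  have hvu : v.comp u = LinearMap.id := by
    refine IsLocalizedModule.ext S fl (IsLocalizedModule.map_units fl) (LinearMap.ext fun a => ?_)
    show v (u (fl a)) = fl a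
    rw [show u (fl a) = g₀ a from IsLocalizedModule.lift_apply S fl g₀ hunit a]
    simp only [v, LinearMap.sum_apply, LinearMap.comp_apply, LinearMap.proj_apply,
      LinearMap.mulRight_apply, AlgHom.toLinearMap_apply]
    have h1 : ∀ j, φ (g₀ a j) = algebraMap C A' (∑ g : G, g • (a * x j)) := fun j => by
      show φ (algebraMap R R' (t j a)) = _
      rw [AlgHom.commutes, IsScalarTower.algebraMap_apply R C A', htx]
    simp only [h1, ← mul_assoc, ← Finset.sum_mul, ← map_mul, ← map_sum]
    rw [← hdual a, Units.mul_inv_eq_iff_eq_mul, Algebra.smul_def, map_mul,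
      ← IsScalarTower.algebraMap_apply, mul_comm]
    rfl
  haveI : Module.Flat R R' := IsLocalization.flat R' S
  haveI : Module.Flat R (Fin l → R') :=
    Module.Flat.of_linearEquiv (DirectSum.linearEquivFunOnFintype R (Fin l) (fun _ => R')).symm
  haveI : Module.Flat R A' := Module.Flat.of_retract u v hvu
  haveI : Algebra.FormallyUnramified R A' := by
    rw [Algebra.formallyUnramified_iff]
    have key : ∀ c : C, KaehlerDifferential.D R A' (algebraMap C A' c) = 0 := fun c => by
      have h0 := sq_smul_derivation_eq_zero (fun k => x k) (fun k => (y k : C)) hval hdual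
        ((KaehlerDifferential.D R A').compAlgebraMap C) c
      rw [← algebraMap_smul A' (r ^ 2), map_pow] at h0
      exact (hrA'.pow 2).smul_eq_zero.1 h0
    refine subsingleton_of_forall_eq 0 fun ω => ?_
    have hω : ω ∈ Submodule.span A' (Set.range (KaehlerDifferential.D R A')) := by
      rw [KaehlerDifferential.span_range_derivation]; trivial
    refine Submodule.span_induction ?_ rfl (fun a b _ _ ha hb => by rw [ha, hb, add_zero])
      (fun a b _ hb => by rw [hb, smul_zero]) hω
    rintro _ ⟨z, rfl⟩
    obtain ⟨⟨c, s⟩, hs⟩ := IsLocalization.surj (Submonoid.powers (algebraMap R C r)) z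
    have hd := congrArg (KaehlerDifferential.D R A') hs
    rw [Derivation.leibniz, key, key, smul_zero, zero_add] at hd
    exact (IsLocalization.map_units A' s).smul_eq_zero.1 hd
  haveI : Algebra.FinitePresentation R C := Algebra.FinitePresentation.of_finiteType.mp inferInstance
  haveI : Algebra.FinitePresentation C A' :=
    IsLocalization.Away.finitePresentation (algebraMap R C r)
  haveI : Algebra.FinitePresentation R A' := Algebra.FinitePresentation.trans R C A'
  exact Algebra.Etale.of_formallyUnramified_of_flat

end Groth.Agent.MiscTwoH99
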