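import Groth.Agent.Hartogs.Basic
import Groth.Agent.SchDenseLib.Hom
import Groth.Agent.SchDenseLib.FlatNoeth
import Mathlib.RingTheory.Regular.Flat

/-!
# Extension of morphisms into a scheme affine over the base across points of depth at least two
-/

universe u

open CategoryTheory AlgebraicGeometry TopologicalSpace CategoryTheory.Limits

namespace Groth.Agent.MiscTwoH99

open RingTheory.Sequence in
/-- Depth does not drop along a flat local homomorphism. -/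
lemma depth_le_of_flat_local {A B : Type u} [CommRing A] [CommRing B] [IsLocalRing A] [IsLocalRing B]
    (φ : A →+* B) (hφ : φ.Flat) [IsLocalHom φ] : LocCoh.depth A A ≤ LocCoh.depth B B := by
  algebraize [φ]
  have hne : ∀ (R : Type u) [CommRing R] [IsLocalRing R],
      IsLocalRing.maximalIdeal R • (⊤ : Submodule R R) ≠ ⊤ := fun R _ _ => by
    simpa [Submodule.top_toAddSubmonoid, Ideal.mul_top] using
      (IsLocalRing.maximalIdeal.isMaximal R).ne_top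
  unfold LocCoh.depth LocCoh.idealDepth
  rw [if_neg (hne A), if_neg (hne B)]
  refine iSup₂_le fun rs hrs => ?_
  refine le_iSup₂_of_le (rs.map φ) ⟨IsWeaklyRegular.of_flat hrs.1, ?_⟩ (by simp)
  simp only [List.mem_map]
  rintro _ ⟨r, hr, rfl⟩
  exact map_nonunit φ r (hrs.2 r hr)

/-- Depth of stalks does not drop along a flat morphism. -/
lemma depth_stalk_le_of_flat {X S : Scheme.{u}} (g : X ⟶ S) [Flat g] (x : X) :
    LocCoh.depth (S.presheaf.stalk (g x)) (S.presheaf.stalk (g x)) ≤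
      LocCoh.depth (X.presheaf.stalk x) (X.presheaf.stalk x) :=
  depth_le_of_flat_local (g.stalkMap x).hom (Flat.stalkMap g x)

variable {X Y S : Scheme.{u}}

/-- An open with depth at least two outside is schematically dense. -/
lemma isSchematicallyDense_of_depth [IsLocallyNoetherian X] (O : X.Opens)
    (hO : ∀ x : X, x ∉ O → (2 : ℕ∞) ≤ LocCoh.depth (X.presheaf.stalk x) (X.presheaf.stalk x)) :
    CInt.IsSchematicallyDense O :=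
  fun V => (Hartogs.restrict_bijective O hO V).1

/-- Restriction of the piece `H` of an extension to an arbitrary scheme over the piece. -/
lemma comp_restrict {P X' : Scheme.{u}} (ι : X' ⟶ X) (O : X.Opens)
    (g : (O : Scheme.{u}) ⟶ Y) (H : X' ⟶ Y) (hH : (ι ⁻¹ᵁ O).ι ≫ H = (ι ∣_ O) ≫ g)
    (m : P ⟶ X') (p : P ⟶ X) (hp : m ≫ ι = p) :
    (p ⁻¹ᵁ O).ι ≫ m ≫ H = (p ∣_ O) ≫ g := by
  subst hp
  rw [morphismRestrict_comp]
  exact ((morphismRestrict_ι_assoc m (ι ⁻¹ᵁ O) H).symm.trans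
    (congrArg (fun t => (m ∣_ ι ⁻¹ᵁ O) ≫ t) hH)).trans (Category.assoc _ _ _).symm

/-- A morphism to a scheme affine over `S` extends uniquely across points of depth at least two. -/
theorem existsUnique_extension [IsLocallyNoetherian X] (O : X.Opens)
    (hO : ∀ x : X, x ∉ O → (2 : ℕ∞) ≤ LocCoh.depth (X.presheaf.stalk x) (X.presheaf.stalk x))
    (q : X ⟶ S) (z : Y ⟶ S) [IsAffineHom z]
    (g : (O : Scheme.{u}) ⟶ Y) (hg : g ≫ z = O.ι ≫ q) :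
    ∃! h : X ⟶ Y, h ≫ z = q ∧ O.ι ≫ h = g := by
  have hdense := isSchematicallyDense_of_depth O hO
  refine existsUnique_of_exists_of_unique ?_ fun h₁ h₂ e₁ e₂ =>
    SchDenseLib.hom_ext hdense z h₁ h₂ (e₁.1.trans e₂.1.symm) (e₁.2.trans e₂.2.symm)
  have piece : ∀ V : S.affineOpens, ∃ H : ((q ⁻¹ᵁ V.1 : X.Opens) : Scheme.{u}) ⟶ Y,
      H ≫ z = (q ⁻¹ᵁ V.1).ι ≫ q ∧
        ((q ⁻¹ᵁ V.1).ι ⁻¹ᵁ O).ι ≫ H = ((q ⁻¹ᵁ V.1).ι ∣_ O) ≫ g := by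
    intro V
    let a := (q ⁻¹ᵁ V.1).ι
    have : IsAffine (z ⁻¹ᵁ V.1 : Scheme.{u}) := V.2.preimage z
    have : IsAffine (V.1 : Scheme.{u}) := V.2
    have hO' : ∀ x : ((q ⁻¹ᵁ V.1 : X.Opens) : Scheme.{u}), x ∉ a ⁻¹ᵁ O → (2 : ℕ∞) ≤
        LocCoh.depth (((q ⁻¹ᵁ V.1 : X.Opens) : Scheme.{u}).presheaf.stalk x)
          (((q ⁻¹ᵁ V.1 : X.Opens) : Scheme.{u}).presheaf.stalk x) := fun x hx =>
      (hO (a x) hx).trans (depth_stalk_le_of_flat a x)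
    have e : ((a ∣_ O) ≫ g) ≫ z = (a ⁻¹ᵁ O).ι ≫ a ≫ q := by
      rw [Category.assoc, hg, morphismRestrict_ι_assoc]
    have hrange : Set.range ((a ∣_ O) ≫ g) ⊆ Set.range (z ⁻¹ᵁ V.1).ι := by
      rw [Scheme.Opens.range_ι]
      rintro _ ⟨x, rfl⟩
      show z (((a ∣_ O) ≫ g) x) ∈ V.1
      rw [show z (((a ∣_ O) ≫ g) x) = q (a ((a ⁻¹ᵁ O).ι x)) from
        congrArg (fun m : (a ⁻¹ᵁ O : Scheme.{u}) ⟶ S => m x) e]
      exact ((a ⁻¹ᵁ O).ι x).2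
    let g' := IsOpenImmersion.lift (z ⁻¹ᵁ V.1).ι ((a ∣_ O) ≫ g) hrange
    obtain ⟨H, hH, -⟩ := Hartogs.existsUnique_extension (a ⁻¹ᵁ O) hO' g'
    refine ⟨H ≫ (z ⁻¹ᵁ V.1).ι, ?_, ?_⟩
    · have h' : H ≫ (z ∣_ V.1) = (q ∣_ V.1) := by
        refine (Hartogs.existsUnique_extension (a ⁻¹ᵁ O) hO'
          ((a ⁻¹ᵁ O).ι ≫ (q ∣_ V.1))).unique ?_ rfl
        rw [← cancel_mono V.1.ι, Category.assoc, Category.assoc, Category.assoc,
          morphismRestrict_ι, morphismRestrict_ι, reassoc_of% hH]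
        exact (IsOpenImmersion.lift_fac_assoc _ _ hrange z).trans e
      rw [Category.assoc, ← morphismRestrict_ι, ← Category.assoc, h', morphismRestrict_ι]
    · rw [reassoc_of% hH]
      exact IsOpenImmersion.lift_fac _ _ hrange
  choose H hHz hHO using piece
  have hcov : IsOpenCover (fun V : S.affineOpens => q ⁻¹ᵁ V.1) := by
    rw [IsOpenCover, eq_top_iff]
    intro x _
    obtain ⟨V, hV, hxV, -⟩ := Opens.isBasis_iff_nbhd.1 S.isBasis_affineOpens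
      (show q x ∈ (⊤ : S.Opens) from trivial)
    exact Opens.mem_iSup.2 ⟨⟨V, hV⟩, hxV⟩
  let 𝒰 : X.OpenCover := X.openCoverOfIsOpenCover _ hcov
  have compat : ∀ V W : S.affineOpens,
      pullback.fst (q ⁻¹ᵁ V.1).ι (q ⁻¹ᵁ W.1).ι ≫ H V =
        pullback.snd (q ⁻¹ᵁ V.1).ι (q ⁻¹ᵁ W.1).ι ≫ H W := by
    intro V W
    let p := pullback.fst (q ⁻¹ᵁ V.1).ι (q ⁻¹ᵁ W.1).ι ≫ (q ⁻¹ᵁ V.1).ι
    refine SchDenseLib.hom_ext (SchDenseLib.preimage_of_isLocallyNoetherian p O hdense) z _ _ ?_ ?_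
    · rw [Category.assoc, Category.assoc, hHz, hHz, ← Category.assoc, ← Category.assoc,
        pullback.condition]
    · rw [comp_restrict _ O g (H V) (hHO V) _ p rfl,
        comp_restrict _ O g (H W) (hHO W) _ p pullback.condition.symm]
  refine ⟨𝒰.glueMorphisms H compat, ?_, ?_⟩
  · refine 𝒰.hom_ext _ _ fun V => ?_
    exact ((Category.assoc _ _ _).symm.trans
      (congrArg (· ≫ z) (𝒰.ι_glueMorphisms H compat V))).trans (hHz V)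
  · refine (Scheme.openCoverOfIsOpenCover (O : Scheme.{u}) _
      (hcov.comap ⟨O.ι, O.ι.continuous⟩)).hom_ext _ _ fun V => ?_
    show (O.ι ⁻¹ᵁ (q ⁻¹ᵁ V.1)).ι ≫ O.ι ≫ _ = _
    rw [← morphismRestrict_ι_assoc O.ι]
    have e1 : (q ⁻¹ᵁ V.1).ι ≫ 𝒰.glueMorphisms H compat = H V := 𝒰.ι_glueMorphisms H compat V
    rw [e1]
    let c : (O.ι ⁻¹ᵁ (q ⁻¹ᵁ V.1) : Scheme.{u}) ⟶ (((q ⁻¹ᵁ V.1).ι ⁻¹ᵁ O : _) : Scheme.{u}) :=
      IsOpenImmersion.lift ((q ⁻¹ᵁ V.1).ι ⁻¹ᵁ O).ι (O.ι ∣_ (q ⁻¹ᵁ V.1)) (by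
        rw [Scheme.Opens.range_ι]
        rintro _ ⟨x, rfl⟩
        show (q ⁻¹ᵁ V.1).ι ((O.ι ∣_ (q ⁻¹ᵁ V.1)) x) ∈ O
        rw [show (q ⁻¹ᵁ V.1).ι ((O.ι ∣_ (q ⁻¹ᵁ V.1)) x) = O.ι ((O.ι ⁻¹ᵁ (q ⁻¹ᵁ V.1)).ι x) from
          congrArg (fun m : (O.ι ⁻¹ᵁ (q ⁻¹ᵁ V.1) : Scheme.{u}) ⟶ X => m x) (morphismRestrict_ι _ _)]
        exact ((O.ι ⁻¹ᵁ (q ⁻¹ᵁ V.1)).ι x).2)
    have hc : c ≫ ((q ⁻¹ᵁ V.1).ι ⁻¹ᵁ O).ι = O.ι ∣_ (q ⁻¹ᵁ V.1) := IsOpenImmersion.lift_fac _ _ _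
    have hc2 : c ≫ ((q ⁻¹ᵁ V.1).ι ∣_ O) = (O.ι ⁻¹ᵁ (q ⁻¹ᵁ V.1)).ι := by
      rw [← cancel_mono O.ι, Category.assoc, morphismRestrict_ι, reassoc_of% hc, morphismRestrict_ι]
    rw [← hc, Category.assoc]
    exact ((congrArg (c ≫ ·) (hHO V)).trans (Category.assoc _ _ _).symm).trans (congrArg (· ≫ g) hc2)

end Groth.Agent.MiscTwoH99
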