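import Groth.Agent.DescLib.AffineDesc
import Groth.Agent.H23.FFDescent
import Mathlib.CategoryTheory.MorphismProperty.Descent
import Mathlib.AlgebraicGeometry.Morphisms.QuasiSeparated
import Mathlib.Topology.Spectral.Prespectral
import Groth.Agent.DescLib.SigmaLocal
import Groth.Prelude.Def_QuotSh
import Groth.Prelude.Def_CGrpSh
import Mathlib.CategoryTheory.Sites.Subcanonical

/-! A sheaf over a scheme which becomes an affine scheme after an fppf covering is affine. -/

universe u

set_option autoImplicit false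
set_option backward.isDefEq.respectTransparency false
set_option backward.isDefEq.respectTransparency.types false

open CategoryTheory Limits Opposite AlgebraicGeometry Desc

namespace Groth.Agent.MiscTwoH99.AffSheafDesc

variable {S : Scheme.{u}}

/-- A flat, locally finitely presented surjection generates a covering sieve. -/
theorem singleton_mem {A B : Over S} (p : A ⟶ B) [Flat p.left] [LocallyOfFinitePresentation p.left]
    [Surjective p.left] :
    Sieve.generate (Presieve.singleton p) ∈ QuotSh.J Scheme.fppfPrecoverage S B := by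
  rw [GrothendieckTopology.mem_over_iff]
  refine GrothendieckTopology.superset_covering _ ?_
    (Precoverage.generate_mem_toGrothendieck
      (Scheme.Hom.singleton_mem_fppfPrecoverage p.left))
  rw [Sieve.generate_le_iff]
  rintro _ _ ⟨⟩
  rw [Sieve.overEquiv_iff]
  exact ⟨A, Over.homMk (𝟙 _) (by simp), p, Presieve.singleton_self p, Over.OverMorphism.ext (Category.id_comp _)⟩

/-- Morphisms to a scheme are determined on such a covering. -/
theorem hom_ext {A B C : Over S} (p : A ⟶ B) [Flat p.left] [LocallyOfFinitePresentation p.left]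
    [Surjective p.left] {f g : B ⟶ C} (h : p ≫ f = p ≫ g) : f = g := by
  have hy : Presieve.IsSheaf (QuotSh.J Scheme.fppfPrecoverage S) (yoneda.obj C) :=
    GrothendieckTopology.Subcanonical.isSheaf_of_isRepresentable _
  have hs := (Presieve.isSheafFor_iff_generate (Presieve.singleton p)).mpr (hy _ (singleton_mem p))
  exact hs.isSeparatedFor.ext fun _ _ hk => by cases hk; exact h

/-- Quasi-compactness descends along flat, locally finitely presented surjections. -/
theorem descendsAlong_quasiCompact : MorphismProperty.DescendsAlong (@QuasiCompact : MorphismProperty Scheme.{u})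
    (@Surjective ⊓ @Flat ⊓ @LocallyOfFinitePresentation : MorphismProperty Scheme.{u}) := by
  refine ⟨fun {A X Y Z a b f g} h ⟨⟨hs, hfl⟩, hfp⟩ ha => quasiCompact_iff_forall_isAffineOpen.mpr fun V hV => ?_⟩
  haveI : Surjective f := hs
  haveI : Flat f := hfl
  haveI : LocallyOfFinitePresentation f := hfp
  haveI : QuasiCompact a := ha
  obtain ⟨K, hK, hKV⟩ := IsOpenMap.exists_opens_image_eq_of_prespectralSpace f.continuous f.isOpenMap
    (fun y _ => f.surjective y) V.isOpen hV.isCompact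
  have h2 : (g ⁻¹ᵁ V : Set Y) = b '' (a ⁻¹' K) := by
    ext y
    constructor
    · intro hy
      obtain ⟨x, hx, hxy⟩ : g y ∈ f '' K := hKV ▸ hy
      obtain ⟨c, hc1, hc2⟩ := Scheme.Pullback.exists_preimage_pullback x y hxy
      refine ⟨h.isoPullback.inv c, ?_, ?_⟩
      · show a (h.isoPullback.inv c) ∈ K
        rw [← Scheme.Hom.comp_apply, h.isoPullback_inv_fst, hc1]
        exact hx
      · rw [← Scheme.Hom.comp_apply, h.isoPullback_inv_snd, hc2]
    · rintro ⟨c, hc, rfl⟩
      show g (b c) ∈ V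
      rw [← Scheme.Hom.comp_apply, ← h.w, Scheme.Hom.comp_apply, ← SetLike.mem_coe, ← hKV]
      exact Set.mem_image_of_mem _ hc
  rw [h2]
  exact (a.isCompact_preimage hK).image b.continuous

/-- Affine morphisms descend along flat, locally finitely presented surjections. -/
theorem isAffineHom_descends {A X Y Z : Scheme.{u}} {a : A ⟶ X} {b : A ⟶ Y} {f : X ⟶ Z} {g : Y ⟶ Z}
    [Surjective g] [Flat g] [LocallyOfFinitePresentation g] (h : IsPullback a b f g) (hb : IsAffineHom b) :
    IsAffineHom f := by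
  haveI := descendsAlong_quasiCompact.{u}
  let Q : MorphismProperty Scheme.{u} := @Surjective ⊓ @Flat ⊓ @LocallyOfFinitePresentation
  have hQ : Q g := ⟨⟨‹_›, ‹_›⟩, ‹_›⟩
  haveI : QuasiCompact f := MorphismProperty.of_isPullback_of_descendsAlong (Q := Q) h.flip hQ
    (inferInstance : QuasiCompact b)
  haveI : QuasiSeparated f := by
    have h1 : MorphismProperty.diagonal @QuasiCompact b :=
      quasiSeparated_eq_diagonal_is_quasiCompact.{u} ▸ (inferInstance : QuasiSeparated b)
    have h2 := MorphismProperty.of_isPullback_of_descendsAlong (P := MorphismProperty.diagonal @QuasiCompact)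
      (Q := Q) h.flip hQ h1
    rwa [← quasiSeparated_eq_diagonal_is_quasiCompact] at h2
  haveI : IsAffineHom (pullback.snd f g) := by
    rw [← h.isoPullback_inv_snd]
    infer_instance
  exact H23.FFDescent.isAffineHom_of_baseChange f g

variable (F : (Over S)ᵒᵖ ⥤ Type u) {W W' Z' : Over S} (q : W' ⟶ W) (z : Z' ⟶ W') (el : F.obj (op Z'))

/-- Two points of the chart give the same element. -/
def Rel {T : Scheme.{u}} (v w : T ⟶ Z'.left) : Prop :=
  w ≫ Z'.hom = v ≫ Z'.hom ∧ ∀ (c : T ⟶ S) (h₁ : v ≫ Z'.hom = c) (h₂ : w ≫ Z'.hom = c),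
    F.map (Over.homMk v h₁ : Over.mk c ⟶ Z').op el = F.map (Over.homMk w h₂ : Over.mk c ⟶ Z').op el

variable {F el}

theorem rel_iff {T : Over S} (v w : T ⟶ Z') : Rel F el v.left w.left ↔ F.map v.op el = F.map w.op el := by
  obtain ⟨Tl, ⟨⟨⟩⟩, Th⟩ := T
  constructor
  · intro h
    exact h.2 Th (Over.w v) (Over.w w)
  · intro h
    refine ⟨(Over.w w).trans (Over.w v).symm, fun c h₁ h₂ => ?_⟩
    obtain rfl : Th = c := (Over.w v).symm.trans h₁
    exact h

theorem rel_symm {T : Scheme.{u}} {v w : T ⟶ Z'.left} (h : Rel F el v w) : Rel F el w v :=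
  ⟨h.1.symm, fun c h₁ h₂ => (h.2 c h₂ h₁).symm⟩

theorem rel_trans {T : Scheme.{u}} {v w x : T ⟶ Z'.left} (h : Rel F el v w) (h' : Rel F el w x) : Rel F el v x :=
  ⟨h'.1.trans h.1, fun c h₁ h₃ => (h.2 c h₁ (h.1.trans h₁)).trans (h'.2 c (h.1.trans h₁) h₃)⟩

theorem rel_refl {T : Scheme.{u}} (v : T ⟶ Z'.left) : Rel F el v v :=
  ⟨rfl, fun _ _ _ => rfl⟩

theorem rel_comp {T T' : Scheme.{u}} {v w : T ⟶ Z'.left} (h : Rel F el v w) (g : T' ⟶ T) :
    Rel F el (g ≫ v) (g ≫ w) := by
  let g' : Over.mk (g ≫ v ≫ Z'.hom) ⟶ Over.mk (v ≫ Z'.hom) := Over.homMk g rfl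
  exact (rel_iff (g' ≫ Over.homMk v rfl) (g' ≫ Over.homMk w h.1)).mpr (by
    rw [op_comp, op_comp, Functor.map_comp_apply, Functor.map_comp_apply, h.2 _ rfl h.1])

variable (η : F ⟶ yoneda.obj W)

/-- A sheaf which is an affine scheme over a covering of `W` is an affine scheme over `W`. -/
theorem exists_representableBy (hF : Presieve.IsSheaf (QuotSh.J Scheme.fppfPrecoverage S) F)
    [Flat q.left] [LocallyOfFinitePresentation q.left] [Surjective q.left] [IsAffineHom z.left]
    (hel : η.app (op Z') el = z ≫ q)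
    (huniv : ∀ (T : Over S) (x : T ⟶ W') (φ : F.obj (op T)), η.app (op T) φ = x ≫ q →
      ∃! w : T ⟶ Z', w ≫ z = x ∧ F.map w.op el = φ) :
    ∃ (Z : Over S) (j : Z ⟶ W) (e : F.RepresentableBy Z), IsAffineHom j.left ∧
      ∀ (T : Over S) (w : T ⟶ Z), η.app (op T) (e.homEquiv w) = w ≫ j := by
  have hη : ∀ {T T' : Over S} (t : T' ⟶ T) (φ : F.obj (op T)), η.app (op T') (F.map t.op φ) = t ≫ η.app (op T) φ :=
    fun t φ => NatTrans.naturality_apply η t.op φ
  have hrelq : ∀ {T : Scheme.{u}} (v w : T ⟶ Z'.left), Rel F el v w → w ≫ z.left ≫ q.left = v ≫ z.left ≫ q.left := by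
    intro T v w h
    have h2 := congrArg (fun φ => η.app (op _) φ) (h.2 _ rfl h.1)
    simp only [hη, hel] at h2
    exact (congrArg Over.Hom.left h2).symm
  have hex : ∀ {T : Scheme.{u}} (v : T ⟶ Z'.left) (x₁ : T ⟶ W'.left), x₁ ≫ q.left = v ≫ z.left ≫ q.left →
      ∃! w : T ⟶ Z'.left, w ≫ z.left = x₁ ∧ Rel F el v w := by
    intro T v x₁ h
    let T' : Over S := Over.mk (v ≫ Z'.hom)
    let v' : T' ⟶ Z' := Over.homMk v rfl
    let x' : T' ⟶ W' := Over.homMk x₁ (by
      show x₁ ≫ W'.hom = v ≫ Z'.hom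
      rw [← Over.w q, ← Category.assoc, h, Category.assoc, Category.assoc, Over.w q, Over.w z])
    obtain ⟨w, ⟨hw1, hw2⟩, hu⟩ := huniv T' x' (F.map v'.op el) (by
      rw [hη, hel]; exact Over.OverMorphism.ext h.symm)
    refine ⟨w.left, ⟨congrArg Over.Hom.left hw1, (rel_iff v' w).mpr hw2.symm⟩, fun w' hw' => ?_⟩
    exact congrArg Over.Hom.left (hu (Over.homMk w' hw'.2.1)
      ⟨Over.OverMorphism.ext hw'.1, ((rel_iff v' (Over.homMk w' hw'.2.1)).mp hw'.2).symm⟩)
  have hv : ∀ {T : Scheme.{u}} {x₀ x₁ : T ⟶ W'.left} (h : x₀ ≫ q.left = x₁ ≫ q.left)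
      (v : Lifts (Over.mk z.left) x₀), x₁ ≫ q.left = v.1 ≫ z.left ≫ q.left := fun h v => by
    rw [← h, ← Category.assoc]
    exact congrArg (· ≫ q.left) v.2.symm
  let φ₁ : ∀ {T : Scheme.{u}} (x₀ x₁ : T ⟶ W'.left), x₀ ≫ q.left = x₁ ≫ q.left →
      Lifts (Over.mk z.left) x₀ → Lifts (Over.mk z.left) x₁ :=
    fun x₀ x₁ h v => ⟨(hex v.1 x₁ (hv h v)).choose, (hex v.1 x₁ (hv h v)).choose_spec.1.1⟩
  have hφ₁ : ∀ {T : Scheme.{u}} (x₀ x₁ : T ⟶ W'.left) (h : x₀ ≫ q.left = x₁ ≫ q.left)
      (v : Lifts (Over.mk z.left) x₀), Rel F el v.1 (φ₁ x₀ x₁ h v).1 :=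
    fun x₀ x₁ h v => (hex v.1 x₁ (hv h v)).choose_spec.1.2
  have hφu : ∀ {T : Scheme.{u}} (x₀ x₁ : T ⟶ W'.left) (h : x₀ ≫ q.left = x₁ ≫ q.left)
      (v : Lifts (Over.mk z.left) x₀) (w : Lifts (Over.mk z.left) x₁), Rel F el v.1 w.1 → φ₁ x₀ x₁ h v = w :=
    fun x₀ x₁ h v w hw => Subtype.ext ((hex v.1 x₁ (hv h v)).choose_spec.2 w.1 ⟨w.2, hw⟩).symm
  let D : SchDDFam (fun _ : PUnit.{u + 1} => q.left) :=
    { obj := fun _ => Over.mk z.left
      φ := fun T i j x₀ x₁ h =>
        { toFun := φ₁ x₀ x₁ h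
          invFun := φ₁ x₁ x₀ h.symm
          left_inv := fun v => hφu x₁ x₀ h.symm _ v (rel_symm (hφ₁ x₀ x₁ h v))
          right_inv := fun v => hφu x₀ x₁ h _ v (rel_symm (hφ₁ x₁ x₀ h.symm v)) }
      φ_natural := fun T T' g i j x₀ x₁ h y₀ y₁ hy₀ hy₁ h' v v' hv' => by
        refine congrArg Subtype.val (hφu y₀ y₁ h' v' ⟨g ≫ (φ₁ x₀ x₁ h v).1, ?_⟩ ?_)
        · rw [Category.assoc]
          exact (congrArg (g ≫ ·) (φ₁ x₀ x₁ h v).2).trans hy₁
        · rw [hv']
          exact rel_comp (hφ₁ x₀ x₁ h v) g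
      φ_self := fun T i x v => hφu x x rfl v v (rel_refl _)
      φ_comp := fun T i j k x₀ x₁ x₂ h₀₁ h₁₂ v =>
        (hφu x₀ x₂ (h₀₁.trans h₁₂) v _ (rel_trans (hφ₁ x₀ x₁ h₀₁ v) (hφ₁ x₁ x₂ h₁₂ _))).symm }
  obtain ⟨U, ⟨I⟩⟩ : D.IsEffective := by
    refine DescLib.effective_of_affine_case @IsAffineHom (DescLib.prop_sigmaMap' @IsAffineHom)
      (fun X S p _ _ _ _ D (hD : IsAffineHom D.obj.hom) =>
        haveI : IsAffine D.obj.left := isAffine_of_isAffineHom D.obj.hom
        DescLib.effective_affine p D) (fun _ : PUnit.{u + 1} => q.left) ?_ D fun _ => ‹IsAffineHom z.left›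
    rw [Presieve.ofArrows_pUnit]
    exact Scheme.fppfPrecoverage_le_fpqcPrecoverage _ (Scheme.Hom.singleton_mem_fppfPrecoverage q.left)
  let a : Z'.left ⟶ pullback q.left U.hom := (I.inv.hom PUnit.unit).left
  let b : pullback q.left U.hom ⟶ Z'.left := (I.hom.hom PUnit.unit).left
  have hab : a ≫ b = 𝟙 _ :=
    congrArg Over.Hom.left (congrArg (fun m : D ⟶ D => m.hom PUnit.unit) I.inv_hom_id)
  have hba : b ≫ a = 𝟙 _ :=
    congrArg Over.Hom.left (congrArg (fun m => (SchDDFam.Hom.hom m) PUnit.unit) I.hom_inv_id)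
  let r : Z'.left ⟶ U.left := a ≫ pullback.snd q.left U.hom
  have ha : a ≫ pullback.fst q.left U.hom = z.left := Over.w (I.inv.hom PUnit.unit)
  have hpb : IsPullback z.left r q.left U.hom :=
    (IsPullback.of_hasPullback q.left U.hom).of_iso (⟨b, a, hba, hab⟩) (Iso.refl _) (Iso.refl _) (Iso.refl _)
      (by rw [Iso.refl_hom, Category.comp_id]; show _ = b ≫ z.left; rw [← ha, ← Category.assoc b, hba, Category.id_comp])
      (by rw [Iso.refl_hom, Category.comp_id]; show _ = b ≫ r; rw [← Category.assoc b, hba, Category.id_comp])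
      (by simp) (by simp)
  have hrel : ∀ {T : Scheme.{u}} (v w : T ⟶ Z'.left), Rel F el v w → v ≫ r = w ≫ r := by
    intro T v w h
    have hvw : (v ≫ z.left) ≫ q.left = (w ≫ z.left) ≫ q.left := by
      rw [Category.assoc, Category.assoc, hrelq v w h]
    have h1 : φ₁ (v ≫ z.left) (w ≫ z.left) hvw ⟨v, rfl⟩ = ⟨w, rfl⟩ :=
      hφu (v ≫ z.left) (w ≫ z.left) hvw ⟨v, rfl⟩ ⟨w, rfl⟩ h
    have h2 := I.inv.comm (i := PUnit.unit) (j := PUnit.unit) (v ≫ z.left) (w ≫ z.left) hvw ⟨v, rfl⟩
      ⟨v ≫ a, (Category.assoc _ _ _).trans (congrArg (v ≫ ·) ha)⟩ rfl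
    have h3 := congrArg (· ≫ pullback.snd q.left U.hom) h2
    have h4 : (D.φ (i := PUnit.unit) (j := PUnit.unit) (v ≫ z.left) (w ≫ z.left) hvw ⟨v, rfl⟩).1 = w :=
      congrArg Subtype.val h1
    rw [h4] at h3
    simp only [toDDFam, canonicalDDFam, Equiv.coe_fn_mk, canMapFam_val, pullback.lift_snd, Category.assoc] at h3
    exact h3
  have hrel' : ∀ {T : Scheme.{u}} (v w : T ⟶ Z'.left), v ≫ r = w ≫ r → Rel F el v w := by
    intro T v w h
    have hvw : (v ≫ z.left) ≫ q.left = (w ≫ z.left) ≫ q.left := by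
      rw [Category.assoc, Category.assoc, hpb.w, ← Category.assoc, h, Category.assoc]
    have h1 := hφ₁ (v ≫ z.left) (w ≫ z.left) hvw ⟨v, rfl⟩
    have h2 : (φ₁ (v ≫ z.left) (w ≫ z.left) hvw ⟨v, rfl⟩).1 = w :=
      hpb.hom_ext (φ₁ (v ≫ z.left) (w ≫ z.left) hvw ⟨v, rfl⟩).2 ((hrel _ _ h1).symm.trans h)
    rwa [h2] at h1
  let Z : Over S := Over.mk (U.hom ≫ W.hom)
  let j : Z ⟶ W := Over.homMk U.hom rfl
  let r' : Z' ⟶ Z := Over.homMk r (by
    show r ≫ U.hom ≫ W.hom = _
    rw [← Category.assoc, ← hpb.w, Category.assoc, Over.w q, Over.w z])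
  haveI : Flat r'.left := MorphismProperty.of_isPullback (P := @Flat) hpb ‹_›
  haveI : LocallyOfFinitePresentation r'.left :=
    MorphismProperty.of_isPullback (P := @LocallyOfFinitePresentation) hpb ‹_›
  haveI : Surjective r'.left := MorphismProperty.of_isPullback (P := @Surjective) hpb ‹_›
  obtain ⟨el₀, hel₀, -⟩ := Presieve.isSheafFor_singleton.mp
    ((Presieve.isSheafFor_iff_generate _).mpr (hF _ (singleton_mem r'))) el fun {T} p₁ p₂ h =>
      (rel_iff p₁ p₂).mp (hrel' _ _ (congrArg Over.Hom.left h))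
  have hj : η.app (op Z) el₀ = j := hom_ext r' (by
    rw [← hη, hel₀, hel]; exact Over.OverMorphism.ext hpb.w)
  have hjaff : IsAffineHom U.hom := by
    exact isAffineHom_descends (hpb.flip) ‹IsAffineHom z.left›
  have hbij : ∀ T : Over S, Function.Bijective (fun w : T ⟶ Z => F.map w.op el₀) := by
    intro T
    have key : ∀ (φ : F.obj (op T)), ∃! w : T ⟶ Z, F.map w.op el₀ = φ := by
      intro φ
      let t : T ⟶ W := η.app (op T) φ
      let P : Over S := Over.mk (pullback.fst t.left q.left ≫ T.hom)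
      let p : P ⟶ T := Over.homMk (pullback.fst t.left q.left) rfl
      let x : P ⟶ W' := Over.homMk (pullback.snd t.left q.left) (by
        show _ ≫ W'.hom = pullback.fst t.left q.left ≫ T.hom
        rw [← Over.w q, ← Category.assoc, ← pullback.condition, Category.assoc, Over.w t])
      haveI : Flat p.left := inferInstanceAs (Flat (pullback.fst t.left q.left))
      haveI : LocallyOfFinitePresentation p.left :=
        inferInstanceAs (LocallyOfFinitePresentation (pullback.fst t.left q.left))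
      haveI : Surjective p.left := inferInstanceAs (Surjective (pullback.fst t.left q.left))
      obtain ⟨w, ⟨hw1, hw2⟩, hwu⟩ := huniv P x (F.map p.op φ) (by
        rw [hη]; exact Over.OverMorphism.ext pullback.condition)
      obtain ⟨zT, hzT, -⟩ := Presieve.isSheafFor_singleton.mp
        ((Presieve.isSheafFor_iff_generate _).mpr
          ((GrothendieckTopology.Subcanonical.isSheaf_of_isRepresentable (yoneda.obj Z) :
            Presieve.IsSheaf (QuotSh.J Scheme.fppfPrecoverage S) _) _ (singleton_mem p)))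
        (w ≫ r') fun {V} p₁ p₂ h => by
          show p₁ ≫ w ≫ r' = p₂ ≫ w ≫ r'
          refine Over.OverMorphism.ext ?_
          have hr : Rel F el (p₁ ≫ w).left (p₂ ≫ w).left := (rel_iff _ _).mpr (by
            rw [op_comp, op_comp, Functor.map_comp_apply, Functor.map_comp_apply, hw2, ← Functor.map_comp_apply,
              ← Functor.map_comp_apply, ← op_comp, ← op_comp, h])
          have h5 := hrel _ _ hr
          simp only [Over.comp_left, Category.assoc] at h5 ⊢
          exact h5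
      refine ⟨zT, ?_, fun z₁ hz₁ => ?_⟩
      · refine ((Presieve.isSheafFor_iff_generate _).mpr (hF _ (singleton_mem p))).isSeparatedFor.ext
          fun V k hk => ?_
        cases hk
        have h6 : p ≫ zT = w ≫ r' := hzT
        rw [← Functor.map_comp_apply, ← op_comp, h6, op_comp, Functor.map_comp_apply, hel₀]
        exact hw2
      · refine hom_ext p (Eq.trans ?_ (hzT : p ≫ zT = w ≫ r').symm)
        have ht : z₁ ≫ j = t := by
          show _ = η.app (op T) φ
          rw [← hj, ← hη, hz₁]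
        let w₁ : P ⟶ Z' := Over.homMk (hpb.lift x.left (p ≫ z₁).left (by
            show pullback.snd t.left q.left ≫ q.left = (p.left ≫ z₁.left) ≫ U.hom
            rw [← pullback.condition, Category.assoc]
            exact (congrArg (fun m : T ⟶ W => p.left ≫ m.left) ht).symm)) (by
          rw [← Over.w z, ← Category.assoc, hpb.lift_fst]
          exact Over.w x)
        have h7 : w₁ ≫ r' = p ≫ z₁ := Over.OverMorphism.ext (hpb.lift_snd _ _ _)
        have h8 : w₁ = w := hwu w₁ ⟨Over.OverMorphism.ext (hpb.lift_fst _ _ _), by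
          rw [← hel₀, ← Functor.map_comp_apply, ← op_comp, h7, op_comp, Functor.map_comp_apply, hz₁]⟩
        rw [← h7, h8]
    exact ⟨fun w₁ w₂ h => (key _).unique h rfl, fun φ => ⟨(key φ).choose, (key φ).choose_spec.1⟩⟩
  exact ⟨Z, j, { homEquiv := fun {T} => Equiv.ofBijective _ (hbij T)
                 homEquiv_comp := fun a b => Functor.map_comp_apply F b.op a.op el₀ }, hjaff,
    fun T w => (hη w el₀).trans (congrArg (w ≫ ·) hj)⟩

end Groth.Agent.MiscTwoH99.AffSheafDesc
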