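import Mathlib

/-! A Zariski sheaf on schemes over a base covered by representable open subfunctors is representable. -/

universe u

open CategoryTheory Limits Opposite AlgebraicGeometry

namespace Groth.Agent.MiscTwoH99.RepGlue

variable {S : Scheme.{u}} (F : (Over S)ᵒᵖ ⥤ Type u)

/-- Restriction along a morphism of schemes. -/
noncomputable abbrev res {T T' : Scheme.{u}} {s : T ⟶ S} (g : T' ⟶ T) {s' : T' ⟶ S} (w : g ≫ s = s') :
    F.obj (op (Over.mk s)) ⟶ F.obj (op (Over.mk s')) :=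
  F.map (Over.homMk g w : Over.mk s' ⟶ Over.mk s).op

/-- The functor on schemes: a structure morphism and an element. -/
noncomputable def tot : Scheme.{u}ᵒᵖ ⥤ Type u where
  obj T := Σ s : unop T ⟶ S, F.obj (op (Over.mk s))
  map {T T'} g := TypeCat.ofHom fun p => ⟨g.unop ≫ p.1, res F g.unop rfl p.2⟩
  map_id T := ConcreteCategory.hom_ext _ _ fun ⟨s, p⟩ => by
    have key : ∀ (s' : unop T ⟶ S) (h : 𝟙 _ ≫ s = s'), s' = s → (⟨s', res F (𝟙 _) h p⟩ : Σ s : unop T ⟶ S, F.obj (op (Over.mk s))) = ⟨s, p⟩ := by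
      rintro s' h rfl
      rw [Sigma.mk.injEq]
      refine ⟨rfl, heq_of_eq ?_⟩
      show F.map (𝟙 (Over.mk s')).op p = p
      rw [op_id, Functor.map_id_apply]
    exact key _ rfl (Category.id_comp _)
  map_comp {T T' T''} g g' := ConcreteCategory.hom_ext _ _ fun ⟨s, p⟩ => by
    have key : ∀ (s'' : unop T'' ⟶ S) (h : g'.unop ≫ g.unop ≫ s = s'') (s₃ : unop T'' ⟶ S)
        (h₃ : (g'.unop ≫ g.unop) ≫ s = s₃), s₃ = s'' →
        (⟨s₃, res F (g'.unop ≫ g.unop) h₃ p⟩ : Σ s : unop T'' ⟶ S, F.obj (op (Over.mk s))) =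
          ⟨s'', res F g'.unop h (res F g.unop rfl p)⟩ := by
      rintro s'' h s₃ h₃ rfl
      rw [Sigma.mk.injEq]
      refine ⟨rfl, heq_of_eq ?_⟩
      rw [← Functor.map_comp_apply, ← op_comp]
      rfl
    exact key _ rfl _ rfl (Category.assoc _ _ _)

variable {F}

theorem tot_ext {T : Scheme.{u}} {p q : (tot F).obj (op T)} (h : p.1 = q.1)
    (h2 : res F (𝟙 T) (by simp [h]) p.2 = q.2) : p = q := by
  obtain ⟨s, p⟩ := p
  obtain ⟨s', q⟩ := q
  obtain rfl : s = s' := h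
  refine Sigma.ext rfl (heq_of_eq ?_)
  rw [← h2]
  show p = F.map (𝟙 (Over.mk s)).op p
  rw [op_id, Functor.map_id_apply]

theorem tot_snd_eq {T : Scheme.{u}} {s : T ⟶ S} {p q : F.obj (op (Over.mk s))}
    (h : (⟨s, p⟩ : (tot F).obj (op T)) = ⟨s, q⟩) : p = q :=
  eq_of_heq (Sigma.mk.inj_iff.mp h).2

theorem tot_map {T T' : Scheme.{u}} (g : T' ⟶ T) (p : (tot F).obj (op T)) :
    (tot F).map g.op p = ⟨g ≫ p.1, res F g rfl p.2⟩ := rfl

theorem isSheaf_tot (hs : ∀ (T : Over S) (𝒱 : Scheme.OpenCover.{u + 1} T.left), (Presieve.ofArrows _ (fun i =>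
      (Over.homMk (𝒱.f i) rfl : Over.mk (𝒱.f i ≫ T.hom) ⟶ T))).IsSheafFor F) :
    Presieve.IsSheaf Scheme.zariskiTopology (tot F) := by
  rw [Precoverage.isSheaf_toGrothendieck_iff_of_isStableUnderBaseChange]
  intro Y R hR
  obtain ⟨(𝒱 : Scheme.OpenCover Y), rfl⟩ := Scheme.exists_cover_of_mem_pretopology hR
  show (Presieve.ofArrows 𝒱.X 𝒱.f).IsSheafFor _
  rw [Presieve.isSheafFor_arrows_iff]
  intro x hx
  let s : Y ⟶ S := Scheme.Cover.glueMorphisms 𝒱 (fun i => (x i).1) fun i j =>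
    congrArg Sigma.fst (hx i j _ (pullback.fst (𝒱.f i) (𝒱.f j)) (pullback.snd _ _) pullback.condition)
  have hs1 : ∀ i, 𝒱.f i ≫ s = (x i).1 := fun i => Scheme.Cover.ι_glueMorphisms _ _ _ i
  let y : ∀ i, F.obj (op (Over.mk (𝒱.f i ≫ s))) := fun i => res F (𝟙 _) (by rw [hs1, Category.id_comp]) (x i).2
  have hy : ∀ i, x i = ⟨𝒱.f i ≫ s, y i⟩ := fun i => tot_ext (hs1 i).symm rfl
  have hc : Presieve.Arrows.Compatible F (fun i =>
      (Over.homMk (𝒱.f i) rfl : Over.mk (𝒱.f i ≫ s) ⟶ Over.mk s)) y := by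
    intro i j Z gi gj hg
    have hw : gi.left ≫ 𝒱.f i = gj.left ≫ 𝒱.f j := congrArg Over.Hom.left hg
    have h := hx i j Z.left gi.left gj.left hw
    rw [hy i, hy j] at h
    obtain ⟨Zl, ⟨⟨⟩⟩, Zh⟩ := Z
    have hi : gi.left ≫ 𝒱.f i ≫ s = Zh := Over.w gi
    have hj : gj.left ≫ 𝒱.f j ≫ s = Zh := Over.w gj
    have e : ∀ (a b : Zl ⟶ S) (p : F.obj (op (Over.mk a))) (q : F.obj (op (Over.mk b))),
        (⟨a, p⟩ : (tot F).obj (op Zl)) = ⟨b, q⟩ → ∀ (ha : 𝟙 Zl ≫ a = Zh) (hb : 𝟙 Zl ≫ b = Zh),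
        res F (𝟙 Zl) ha p = res F (𝟙 Zl) hb q := by
      rintro a b p q h ha hb
      obtain ⟨rfl, h2⟩ := Sigma.mk.inj_iff.mp h
      rw [eq_of_heq h2]
    have h2 := e _ _ _ _ h ((Category.id_comp _).trans hi) ((Category.id_comp _).trans hj)
    simp only [← Functor.map_comp_apply, ← op_comp] at h2
    exact (congrArg (fun m => F.map (Quiver.Hom.op m) (y i)) (Over.OverMorphism.ext (Category.id_comp _).symm)).trans
      (h2.trans (congrArg (fun m => F.map (Quiver.Hom.op m) (y j)) (Over.OverMorphism.ext (Category.id_comp _))))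
  obtain ⟨t, ht, htu⟩ := (Presieve.isSheafFor_arrows_iff _ _).mp (hs (Over.mk s) 𝒱) y hc
  refine ⟨⟨s, t⟩, fun i => ?_, fun t' ht' => ?_⟩
  · rw [hy]
    exact congrArg (Sigma.mk (β := fun s => F.obj (op (Over.mk s))) _) (ht i)
  · obtain ⟨s', t'⟩ := t'
    obtain rfl : s' = s := Scheme.Cover.hom_ext 𝒱 _ _ fun i => (congrArg Sigma.fst (ht' i)).trans (hs1 i).symm
    rw [htu t' fun i => tot_snd_eq ((ht' i).trans (hy i))]

/-- A Zariski sheaf covered by representable open subfunctors is representable. -/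
theorem exists_representableBy (hs : ∀ (T : Over S) (𝒱 : Scheme.OpenCover.{u + 1} T.left), (Presieve.ofArrows _ (fun i =>
      (Over.homMk (𝒱.f i) rfl : Over.mk (𝒱.f i ≫ T.hom) ⟶ T))).IsSheafFor F)
    {ι : Type u} (Z : ι → Over S) (e : ∀ i, F.obj (op (Z i))) (O : ∀ (i : ι) (T : Over S), F.obj (op T) → T.left.Opens)
    (hinj : ∀ (i : ι) (T : Over S) (z z' : T ⟶ Z i), F.map z.op (e i) = F.map z'.op (e i) → z = z')
    (hO : ∀ (i : ι) (T : Over S) (φ : F.obj (op T)) (T' : Over S) (t : T' ⟶ T),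
      (∃ z : T' ⟶ Z i, F.map z.op (e i) = F.map t.op φ) ↔ Set.range t.left ⊆ O i T φ)
    (hcov : ∀ (T : Over S) (φ : F.obj (op T)), ⨆ i, O i T φ = ⊤) :
    ∃ Z₀ : Over S, Nonempty (F.RepresentableBy Z₀) := by
  let f : ∀ i, yoneda.obj (Z i).left ⟶ tot F := fun i => yonedaEquiv.symm ⟨(Z i).hom, e i⟩
  have hf : ∀ i, IsOpenImmersion.presheaf (f i) := by
    intro i
    refine MorphismProperty.relative.of_exists fun T g => ?_
    obtain ⟨⟨s, φ⟩, rfl⟩ := yonedaEquiv.symm.surjective g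
    let U := O i (Over.mk s) φ
    obtain ⟨z, hz⟩ := (hO i _ φ (Over.mk (U.ι ≫ s)) (Over.homMk U.ι rfl)).mpr (by
      rw [show (Over.homMk U.ι rfl : Over.mk (U.ι ≫ s) ⟶ Over.mk s).left = U.ι from rfl, Scheme.Opens.range_ι])
    have hfg : ∀ (W : Scheme.{u}) (a : W ⟶ (Z i).left) (b : W ⟶ T), (f i).app (op W) a =
        (yonedaEquiv.symm (⟨s, φ⟩ : (tot F).obj (op T))).app (op W) b ↔
        ∃ h : a ≫ (Z i).hom = b ≫ s, F.map (Over.homMk a h : Over.mk (b ≫ s) ⟶ Z i).op (e i) =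
          F.map (Over.homMk b rfl : Over.mk (b ≫ s) ⟶ Over.mk s).op φ := by
      intro W a b
      show (⟨a ≫ (Z i).hom, res F a rfl (e i)⟩ : (tot F).obj (op W)) = ⟨b ≫ s, res F b rfl φ⟩ ↔ _
      constructor
      · intro h
        refine ⟨congrArg Sigma.fst h, ?_⟩
        have e' : ∀ (c : W ⟶ S) (h₁ : a ≫ (Z i).hom = c) (q : F.obj (op (Over.mk c))),
            (⟨a ≫ (Z i).hom, res F a rfl (e i)⟩ : (tot F).obj (op W)) = ⟨c, q⟩ → res F a h₁ (e i) = q := by
          rintro c rfl q h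
          exact tot_snd_eq h
        exact e' _ (congrArg Sigma.fst h) _ h
      · rintro ⟨h, h2⟩
        refine tot_ext h ?_
        rw [← h2, ← Functor.map_comp_apply, ← op_comp]
        congr 2

    refine ⟨U.toScheme, yoneda.map z.left, U.ι, IsPullback.of_forall_isPullback_app fun ⟨W⟩ => ?_, inferInstance⟩
    rw [CategoryTheory.Limits.Types.isPullback_iff]
    refine ⟨?_, fun c c' h => ?_, fun a b h => ?_⟩
    · ext c
      refine (hfg W (c ≫ z.left) (c ≫ U.ι)).mpr ⟨by simp, ?_⟩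
      let c' : Over.mk ((c ≫ U.ι) ≫ s) ⟶ Over.mk (U.ι ≫ s) := Over.homMk c (Category.assoc _ _ _).symm
      have h2 := congrArg (fun q => F.map c'.op q) hz
      simp only [← Functor.map_comp_apply, ← op_comp] at h2
      exact h2
    · exact (cancel_mono U.ι).mp h.2
    · obtain ⟨h1, h2⟩ := (hfg W a b).mp h
      have hr := (hO i _ φ _ (Over.homMk b rfl : Over.mk (b ≫ s) ⟶ Over.mk s)).mp ⟨_, h2⟩
      let l := IsOpenImmersion.lift U.ι b (by rw [Scheme.Opens.range_ι]; exact hr)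
      have hl : l ≫ U.ι = b := IsOpenImmersion.lift_fac _ _ _
      refine ⟨l, ?_, hl⟩
      show l ≫ z.left = a
      let l' : Over.mk (b ≫ s) ⟶ Over.mk (U.ι ≫ s) :=
        Over.homMk l (by show l ≫ U.ι ≫ s = b ≫ s; rw [← Category.assoc, hl])
      have hl' : l' ≫ Over.homMk U.ι rfl = (Over.homMk b rfl : Over.mk (b ≫ s) ⟶ Over.mk s) := Over.OverMorphism.ext hl
      have := hinj i _ (l' ≫ z) (Over.homMk a h1) (by
        rw [h2, op_comp, Functor.map_comp_apply, hz, ← Functor.map_comp_apply, ← op_comp, hl'])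
      exact congrArg Over.Hom.left this
  let Fs : Sheaf Scheme.zariskiTopology (Type u) := ⟨tot F, (isSheaf_iff_isSheaf_of_type _ _).mpr (isSheaf_tot hs)⟩
  haveI : Presheaf.IsLocallySurjective Scheme.zariskiTopology (Sigma.desc f) := by
    constructor
    intro T p
    obtain ⟨s, φ⟩ := p
    let 𝒱 := T.openCoverOfIsOpenCover (fun i => O i (Over.mk s) φ) (hcov (Over.mk s) φ)
    refine GrothendieckTopology.superset_covering _ ?_ 𝒱.mem_grothendieckTopology
    rw [Sieve.generate_le_iff]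
    rintro _ _ ⟨i⟩
    obtain ⟨z, hz⟩ := (hO i _ φ (Over.mk ((O i (Over.mk s) φ).ι ≫ s)) (Over.homMk (O i (Over.mk s) φ).ι rfl)).mpr
      (Scheme.Opens.range_ι _).subset
    refine ⟨(Sigma.ι (fun j => yoneda.obj (Z j).left) i).app _ z.left, ?_⟩
    have hd := ConcreteCategory.congr_hom
      (NatTrans.congr_app (Limits.Sigma.ι_desc f i) (op (𝒱.X i))) z.left
    refine hd.trans ?_
    refine tot_ext (Over.w z) ?_
    show res F (𝟙 _) _ (res F z.left rfl (e i)) = res F _ rfl φ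
    refine Eq.trans ?_ hz
    rw [← Functor.map_comp_apply, ← op_comp]
    congr 2

  let R := Scheme.LocalRepresentability.representableBy (F := Fs) hf
  let p : (tot F).obj (op _) := R.homEquiv (𝟙 _)
  suffices hbij : ∀ T : Over S, Function.Bijective (fun z : T ⟶ Over.mk p.1 => F.map z.op p.2) from
    ⟨Over.mk p.1, ⟨{ homEquiv := fun {T} => Equiv.ofBijective _ (hbij T)
                     homEquiv_comp := fun a b => Functor.map_comp_apply F b.op a.op p.2 }⟩⟩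
  intro T
  constructor
  · intro z z' h
    refine Over.OverMorphism.ext (R.homEquiv.injective ?_)
    rw [R.homEquiv_eq z.left, R.homEquiv_eq z'.left]
    refine tot_ext ((Over.w z).trans (Over.w z').symm) ?_
    obtain ⟨Tl, ⟨⟨⟩⟩, Th⟩ := T
    have hz := Over.w z'
    show res F (𝟙 _) _ (res F z.left rfl p.2) = res F z'.left rfl p.2
    have h2 := congrArg (fun q => F.map (Over.homMk (𝟙 Tl) ((Category.id_comp _).trans hz.symm) :
      Over.mk (z'.left ≫ p.1) ⟶ (⟨Tl, ⟨⟨⟩⟩, Th⟩ : Over S)).op q) h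
    simp only [← Functor.map_comp_apply, ← op_comp] at h2 ⊢
    convert h2 using 3
    · exact congrArg Quiver.Hom.op (Over.OverMorphism.ext rfl)
    · exact congrArg Quiver.Hom.op (Over.OverMorphism.ext (Category.id_comp _).symm)
  · intro φ
    obtain ⟨Tl, ⟨⟨⟩⟩, Th⟩ := T
    obtain ⟨z, hz⟩ := R.homEquiv.surjective (⟨Th, φ⟩ : (tot F).obj (op Tl))
    rw [R.homEquiv_eq z] at hz
    refine ⟨Over.homMk z (congrArg Sigma.fst hz), ?_⟩
    have e' : ∀ (c : Tl ⟶ S) (h₁ : z ≫ p.1 = c) (q : F.obj (op (Over.mk c))),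
        (⟨z ≫ p.1, res F z rfl p.2⟩ : (tot F).obj (op Tl)) = ⟨c, q⟩ → res F z h₁ p.2 = q := by
      rintro c rfl q h
      exact tot_snd_eq h
    exact e' Th (congrArg Sigma.fst hz) φ hz

end Groth.Agent.MiscTwoH99.RepGlue
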