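import Groth.Agent.LimitsH94.FPCrit
import Groth.Agent.AlgSpOne.LimStage
import Groth.Agent.H23.EqvUnr

/-! The morphism of representing schemes induced on functors of equivariant maps by a morphism locally of finite
presentation is locally of finite presentation. -/

universe u

open CategoryTheory CategoryTheory.Limits MonoidalCategory CartesianMonoidalCategory MonObj AlgebraicGeometry
open Magnet Opposite

set_option backward.isDefEq.respectTransparency false
set_option backward.isDefEq.respectTransparency.types false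

namespace Groth.Agent.MiscTwoH99.LfpRep

variable {S : Scheme.{u}}

section
variable {I : Type u} [SmallCategory I] [IsCofiltered I] (D : I ⥤ Over S) (c : Cone D)

/-- A product with a fixed object commutes with cofiltered limits. -/
noncomputable def isLimit_tensor (B : Over S) (hc : IsLimit ((Over.forget S).mapCone c)) :
    IsLimit ((Over.forget S).mapCone ((MonoidalCategory.tensorLeft B).mapCone c)) :=
  haveI : IsConnected I := IsCofiltered.isConnected I
  isLimitOfIsPullbackOfIsConnected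
    (F := (D ⋙ MonoidalCategory.tensorLeft B) ⋙ Over.forget S) (G := D ⋙ Over.forget S)
    { app := fun i => (snd B (D.obj i)).left
      naturality := fun i j g => (H23.EqvUnr.isPullback_whiskerLeft B (D.map g)).w }
    _ ((Over.forget S).mapCone c)
    { hom := (snd B c.pt).left
      w := fun i => (H23.EqvUnr.isPullback_whiskerLeft B (c.π.app i)).w.symm }
    (fun i => H23.EqvUnr.isPullback_whiskerLeft B (c.π.app i)) hc

end

theorem isAffine_tensor (B : Over S) [IsAffineHom B.hom] (T : Over S) [IsAffine T.left] : IsAffine (B ⊗ T).left := by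
  haveI : IsAffineHom (snd B T).left := inferInstanceAs (IsAffineHom (pullback.snd B.hom T.hom))
  exact isAffine_of_isAffineHom (snd B T).left

variable {I : Type u} [SmallCategory I] [IsCofiltered I]

/-- Lifting from a limit to a stage, along a morphism of finite presentation over the base. -/
theorem exists_lift_stage (D : I ⥤ Over S) (hA : ∀ i, IsAffine (D.obj i).left) (c : Cone D)
    (hc : IsLimit ((Over.forget S).mapCone c)) {X Y : Over S} (F : X ⟶ Y) [LocallyOfFinitePresentation F.left]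
    {i : I} (a : c.pt ⟶ X) (b : D.obj i ⟶ Y) (h : a ≫ F = c.π.app i ≫ b) :
    ∃ (k : I) (f : k ⟶ i) (g : D.obj k ⟶ X), g ≫ F = D.map f ≫ b ∧ c.π.app k ≫ g = a := by
  let p : pullback F.left b.left ⟶ (D ⋙ Over.forget S).obj i := pullback.snd _ _
  haveI : LocallyOfFinitePresentation p := inferInstanceAs (LocallyOfFinitePresentation (pullback.snd F.left b.left))
  obtain ⟨k, f, g, hg, hg'⟩ := AlgSpOne.LimStage.exists_lift_stage (D ⋙ Over.forget S) hA _ hc
    (i := i) p (pullback.lift a.left (c.π.app i).left (congrArg Over.Hom.left h))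
    (pullback.lift_snd _ _ _)
  have e : (g ≫ pullback.fst F.left b.left) ≫ F.left = (D.map f ≫ b).left := by
    rw [Category.assoc, pullback.condition, ← Category.assoc, hg]
    rfl
  refine ⟨k, f, Over.homMk (g ≫ pullback.fst F.left b.left) ?_, Over.OverMorphism.ext e, Over.OverMorphism.ext ?_⟩
  · rw [← Over.w F, ← Category.assoc, e]
    exact Over.w _
  · show (c.π.app k).left ≫ g ≫ pullback.fst _ _ = a.left
    rw [← Category.assoc]
    refine (congrArg (· ≫ pullback.fst F.left b.left) hg').trans ?_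
    exact pullback.lift_fst _ _ _

/-- Equalities on a limit hold at a stage, along a morphism of finite type over the base. -/
theorem exists_eq_stage (D : I ⥤ Over S) (hA : ∀ i, IsAffine (D.obj i).left) (c : Cone D)
    (hc : IsLimit ((Over.forget S).mapCone c)) {X Y : Over S} (F : X ⟶ Y) [LocallyOfFiniteType F.left]
    {k : I} (a b : D.obj k ⟶ X) (hF : a ≫ F = b ≫ F) (h : c.π.app k ≫ a = c.π.app k ≫ b) :
    ∃ (l : I) (g : l ⟶ k), D.map g ≫ a = D.map g ≫ b := by
  let p : pullback F.left (b ≫ F).left ⟶ (D ⋙ Over.forget S).obj k := pullback.snd _ _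
  haveI : LocallyOfFiniteType p := inferInstanceAs (LocallyOfFiniteType (pullback.snd F.left (b ≫ F).left))
  have hw : ∀ v : D.obj k ⟶ X, v ≫ F = b ≫ F → v.left ≫ F.left = 𝟙 (D.obj k).left ≫ (b ≫ F).left := fun v hv => by
    rw [Category.id_comp]
    exact congrArg Over.Hom.left hv
  obtain ⟨l, g, hg⟩ := AlgSpOne.LimStage.exists_eq_stage (D ⋙ Over.forget S) hA _ hc
    (i := k) p (𝟙 k)
    (pullback.lift a.left (𝟙 (D.obj k).left) (hw a hF))
    (pullback.lift b.left (𝟙 (D.obj k).left) (hw b rfl))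
    ((pullback.lift_snd _ _ _).trans ((D ⋙ Over.forget S).map_id k).symm)
    ((pullback.lift_snd _ _ _).trans ((D ⋙ Over.forget S).map_id k).symm) (by
      apply pullback.hom_ext
      · rw [Category.assoc, Category.assoc, pullback.lift_fst, pullback.lift_fst]
        exact congrArg Over.Hom.left h
      · rw [Category.assoc, Category.assoc, pullback.lift_snd, pullback.lift_snd])
  refine ⟨l, g, Over.OverMorphism.ext ?_⟩
  have := congrArg (· ≫ pullback.fst F.left (b ≫ F).left) hg
  simp only [Category.assoc, pullback.lift_fst] at this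
  exact this

variable {A B : Over S} [MonObj A] [IsAffineHom A.hom] [IsAffineHom B.hom]

/-- The morphism of representing schemes is locally of finite presentation. -/
theorem lfp_of_postcomp (ρ : MonAct A B) {X Y : Over S} (aX : MonAct A X) (aY : MonAct A Y) (F : X ⟶ Y)
    (hF : MonAct.IsEquivariant aX aY F) [LocallyOfFinitePresentation F.left] {ZX ZY : Over S}
    (eX : (MonAct.eqvHom ρ aX).RepresentableBy ZX) (eY : (MonAct.eqvHom ρ aY).RepresentableBy ZY) (j : ZX ⟶ ZY)
    (hj : ∀ (T : Over S) (z : T ⟶ ZX),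
      eY.homEquiv (z ≫ j) = (MonAct.eqvHom.postcomp ρ F hF).app (op T) (eX.homEquiv z)) :
    LocallyOfFinitePresentation j.left := by
  refine LimitsH94.locallyOfFinitePresentation_of_factor j.left fun O hO J _ _ _ D t c hc haff j₀ a ha => ?_
  let tV : D ⟶ (Functor.const Jᵒᵖ).obj ZY.left := t ≫ (Functor.const _).map O.ι
  let DS : Jᵒᵖ ⥤ Over S :=
    { obj := fun j => Over.mk (tV.app j ≫ ZY.hom)
      map := fun {j k} φ => Over.homMk (D.map φ) (by
        change D.map φ ≫ tV.app k ≫ ZY.hom = tV.app j ≫ ZY.hom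
        rw [← Category.assoc, tV.naturality φ]
        simp)
      map_id := fun j => Over.OverMorphism.ext (D.map_id j)
      map_comp := fun f g => Over.OverMorphism.ext (D.map_comp f g) }
  have hcomp : ∀ j : Jᵒᵖ, c.π.app j ≫ tV.app j = c.π.app j₀ ≫ tV.app j₀ := fun j => by
    obtain ⟨l, u, v, -⟩ := IsCofilteredOrEmpty.cone_objs j j₀
    rw [← c.w u, ← c.w v, Category.assoc, Category.assoc, tV.naturality u, tV.naturality v]
    simp
  let cS : Cone DS :=
    { pt := Over.mk (c.π.app j₀ ≫ tV.app j₀ ≫ ZY.hom)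
      π :=
        { app := fun j => Over.homMk (c.π.app j) (by
            change c.π.app j ≫ tV.app j ≫ ZY.hom = c.π.app j₀ ≫ tV.app j₀ ≫ ZY.hom
            rw [reassoc_of% (hcomp j)])
          naturality := fun j k φ => Over.OverMorphism.ext (by
            change 𝟙 _ ≫ c.π.app k = c.π.app j ≫ D.map φ
            rw [Category.id_comp, c.w φ]) } }
  have hcS : IsLimit ((Over.forget S).mapCone cS) := hc
  let tj : ∀ j, DS.obj j ⟶ ZY := fun j => Over.homMk (tV.app j) rfl
  have htj : ∀ {j k : Jᵒᵖ} (φ : j ⟶ k), DS.map φ ≫ tj k = tj j := fun {j k} φ =>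
    Over.OverMorphism.ext ((tV.naturality φ).trans (Category.comp_id _))
  have ha' : a ≫ j.left = c.π.app j₀ ≫ tV.app j₀ := ha
  let a' : cS.pt ⟶ ZX := Over.homMk a (by
    change a ≫ ZX.hom = c.π.app j₀ ≫ tV.app j₀ ≫ ZY.hom
    rw [← Over.w j, reassoc_of% ha'])
  have haj : a' ≫ j = cS.π.app j₀ ≫ tj j₀ := Over.OverMorphism.ext ha'
  let yv : ∀ j, B ⊗ DS.obj j ⟶ Y := fun j => (eY.homEquiv (tj j)).1
  have hyv : ∀ {j k : Jᵒᵖ} (φ : j ⟶ k), (B ◁ DS.map φ) ≫ yv k = yv j := fun {j k} φ => by
    show _ = (eY.homEquiv (tj j)).1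
    rw [← htj φ, eY.homEquiv_comp]
    rfl
  let x := (eX.homEquiv a').1
  have hx : x ≫ F = (B ◁ cS.π.app j₀) ≫ yv j₀ := by
    have h1 : (eY.homEquiv (a' ≫ j)).1 = x ≫ F := congrArg Subtype.val (hj _ a')
    rw [← h1, haj, eY.homEquiv_comp]
    rfl
  haveI hDA : ∀ i, IsAffine (DS.obj i).left := haff
  have hBA : ∀ i, IsAffine ((DS ⋙ tensorLeft B).obj i).left := fun i => isAffine_tensor B (DS.obj i)
  obtain ⟨k, φ, g, hgF, hgx⟩ := exists_lift_stage (DS ⋙ tensorLeft B) hBA _ (isLimit_tensor DS cS B hcS) F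
    (i := j₀) x (yv j₀) hx
  have hgF' : g ≫ F = yv k := hgF.trans (hyv φ)
  -- equivariance at a stage
  have hAA : ∀ i, IsAffine (((DS ⋙ tensorLeft B) ⋙ tensorLeft A).obj i).left := fun i => by
    haveI := hBA i
    exact isAffine_tensor A _
  have hyk : MonAct.IsEquivariant (ρ.prod (MonAct.trivial A (DS.obj k))) aY (yv k) := (eY.homEquiv (tj k)).2
  have hxe : MonAct.IsEquivariant (ρ.prod (MonAct.trivial A cS.pt)) aX x := (eX.homEquiv a').2
  have hgx' : (B ◁ cS.π.app k) ≫ g = x := hgx
  obtain ⟨l, ψ, hψ⟩ := exists_eq_stage ((DS ⋙ tensorLeft B) ⋙ tensorLeft A) hAA _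
    (isLimit_tensor (DS ⋙ tensorLeft B) _ A (isLimit_tensor DS cS B hcS)) F (k := k)
    ((ρ.prod (MonAct.trivial A (DS.obj k))).act ≫ g) ((A ◁ g) ≫ aX.act) (by
      rw [Category.assoc, hgF', hyk, Category.assoc, hF, ← MonoidalCategory.whiskerLeft_comp_assoc, hgF']) (by
      show (A ◁ (B ◁ cS.π.app k)) ≫ _ ≫ g = (A ◁ (B ◁ cS.π.app k)) ≫ (A ◁ g) ≫ aX.act
      rw [← MonAct.prod_trivial_act_whiskerLeft_assoc, hgx']
      refine hxe.trans ?_
      rw [← hgx', MonoidalCategory.whiskerLeft_comp_assoc])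
  have hgl : MonAct.IsEquivariant (ρ.prod (MonAct.trivial A (DS.obj l))) aX ((B ◁ DS.map ψ) ≫ g) := by
    show _ ≫ _ = _
    rw [MonAct.prod_trivial_act_whiskerLeft_assoc]
    refine hψ.trans ?_
    show (A ◁ (B ◁ DS.map ψ)) ≫ (A ◁ g) ≫ aX.act = _
    rw [MonoidalCategory.whiskerLeft_comp_assoc]
  let al : DS.obj l ⟶ ZX := eX.homEquiv.symm ⟨(B ◁ DS.map ψ) ≫ g, hgl⟩
  have hal : eX.homEquiv al = ⟨(B ◁ DS.map ψ) ≫ g, hgl⟩ := Equiv.apply_symm_apply _ _
  refine ⟨l, al.left, congrArg Over.Hom.left (show al ≫ j = tj l from eY.homEquiv.injective (Subtype.ext ?_)),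
    congrArg Over.Hom.left (show cS.π.app l ≫ al = a' from eX.homEquiv.injective (Subtype.ext ?_))⟩
  · refine (congrArg Subtype.val (hj _ al)).trans ?_
    rw [hal]
    show ((B ◁ DS.map ψ) ≫ g) ≫ F = _
    rw [Category.assoc, hgF']
    exact hyv ψ
  · rw [eX.homEquiv_comp, hal]
    show (B ◁ cS.π.app l) ≫ (B ◁ DS.map ψ) ≫ g = x
    rw [← MonoidalCategory.whiskerLeft_comp_assoc, cS.w, hgx']

end Groth.Agent.MiscTwoH99.LfpRep

namespace Groth.Agent.MiscTwoH99.LfpRep

open Magnet

theorem isAffineHom_AMonS (S : Scheme.{u}) (K : Type) [AddCommMonoid K] : IsAffineHom (AMonS S K).hom := by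
  haveI : IsAffineHom (AMon (ULift.{u} ℤ) K).hom := inferInstanceAs (IsAffineHom (Spec.map (CommRingCat.ofHom (algebraMap (ULift.{u} ℤ) (MonoidAlgebra (ULift.{u} ℤ) (Multiplicative K))))))
  haveI : IsAffineHom (pullback.snd (AMon (ULift.{u} ℤ) K).hom (Limits.IsTerminal.from specULiftZIsTerminal S)) :=
    MorphismProperty.pullback_snd _ _ ‹_›
  exact inferInstanceAs (IsAffineHom (pullback.snd (AMon (ULift.{u} ℤ) K).hom (Limits.IsTerminal.from specULiftZIsTerminal S)))

end Groth.Agent.MiscTwoH99.LfpRep
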