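import Mathlib

/-! Functions on products of affine schemes over a field, and the ideal cutting out the locus where
an element of `B ⊗ R` comes from `A ⊗ R`. -/

universe u

open CategoryTheory CategoryTheory.Limits MonoidalCategory CartesianMonoidalCategory AlgebraicGeometry TensorProduct

namespace Groth.Agent.MiscTwoH99.AffProd

/-- The locus where given elements of `B ⊗ R` lie in `A ⊗ R` is cut out by an ideal. -/
theorem exists_ideal_range {K A B R : Type u} [Field K] [CommRing A] [CommRing B] [CommRing R] [Algebra K A]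
    [Algebra K B] [Algebra K R] (ι : A →ₐ[K] B) (hι : Function.Injective ι) (s : Set (B ⊗[K] R)) :
    ∃ I : Ideal R, ∀ (R' : Type u) [CommRing R'] [Algebra K R'] (x : R →ₐ[K] R'),
      (∀ z ∈ s, Algebra.TensorProduct.map (AlgHom.id K B) x z ∈
        Set.range (Algebra.TensorProduct.map ι (AlgHom.id K R'))) ↔ I ≤ RingHom.ker x.toRingHom := by
  obtain ⟨r, hr⟩ := ι.toLinearMap.exists_leftInverse_of_injective (LinearMap.ker_eq_bot.mpr hι)
  let p : B →ₗ[K] B := LinearMap.id - ι.toLinearMap ∘ₗ r
  let b := Module.Free.chooseBasis K B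
  let c : ∀ (R' : Type u) [CommRing R'] [Algebra K R'], B ⊗[K] R' ≃ₗ[K] (_ →₀ R') :=
    fun R' _ _ => TensorProduct.equivFinsuppOfBasisLeft b
  refine ⟨Ideal.span {w | ∃ z ∈ s, ∃ j, w = c R (LinearMap.rTensor R p z) j}, fun R' _ _ x => ?_⟩
  have hnat : ∀ z j, c R' (LinearMap.rTensor R' p (Algebra.TensorProduct.map (AlgHom.id K B) x z)) j =
      x (c R (LinearMap.rTensor R p z) j) := by
    intro z j
    induction z using TensorProduct.induction_on with
    | zero => simp
    | tmul u v =>
      simp only [Algebra.TensorProduct.map_tmul, AlgHom.coe_id, id_eq, LinearMap.rTensor_tmul, c,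
        TensorProduct.equivFinsuppOfBasisLeft_apply_tmul_apply, map_smul]
    | add u v hu hv => simp only [map_add, Finsupp.add_apply, hu, hv]
  have hmem : ∀ y : B ⊗[K] R', y ∈ Set.range (Algebra.TensorProduct.map ι (AlgHom.id K R')) ↔
      LinearMap.rTensor R' p y = 0 := by
    intro y
    have hmap : ∀ w, Algebra.TensorProduct.map ι (AlgHom.id K R') w = LinearMap.rTensor R' ι.toLinearMap w := by
      intro w
      induction w using TensorProduct.induction_on with
      | zero => simp
      | tmul u v => simp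
      | add u v hu hv => simp only [map_add, hu, hv]
    constructor
    · rintro ⟨w, rfl⟩
      rw [hmap, ← LinearMap.rTensor_comp_apply]
      have h0 : p ∘ₗ ι.toLinearMap = 0 := by
        show (LinearMap.id - ι.toLinearMap ∘ₗ r) ∘ₗ ι.toLinearMap = 0
        rw [LinearMap.sub_comp, LinearMap.comp_assoc, hr, LinearMap.comp_id, LinearMap.id_comp, sub_self]
      rw [h0, LinearMap.rTensor_zero, LinearMap.zero_apply]
    · intro h
      refine ⟨LinearMap.rTensor R' r y, ?_⟩
      rw [hmap, ← LinearMap.rTensor_comp_apply]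
      rw [show p = LinearMap.id - ι.toLinearMap ∘ₗ r from rfl, LinearMap.rTensor_sub, LinearMap.sub_apply,
        LinearMap.rTensor_id, LinearMap.id_apply, sub_eq_zero] at h
      exact h.symm
  simp only [hmem, Ideal.span_le]
  constructor
  · rintro h _ ⟨z, hz, j, rfl⟩
    show x _ = 0
    rw [← hnat, h z hz, map_zero, Finsupp.zero_apply]
  · intro h z hz
    refine (c R').map_eq_zero_iff.mp (Finsupp.ext fun j => ?_)
    rw [hnat, Finsupp.zero_apply]
    exact h ⟨z, hz, j, rfl⟩

variable (k : Type u) [Field k]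

/-- The functions on the base, a field. -/
noncomputable abbrev Ko : Type u := Γ(Spec (CommRingCat.of k), ⊤)

/-- The field structure on the functions on the base. -/
noncomputable abbrev koField : Field (Ko k) :=
  (MulEquiv.isField (Field.toIsField k) (Scheme.ΓSpecIso (CommRingCat.of k)).commRingCatIsoToRingEquiv.toMulEquiv).toField

variable {k} {V V' W W' T T' : Over (Spec (CommRingCat.of k))}

/-- The algebra of functions. -/
noncomputable abbrev alg (W : Over (Spec (CommRingCat.of k))) : Algebra (Ko k) Γ(W.left, ⊤) :=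
  W.hom.appTop.hom.toAlgebra

attribute [local instance] alg

/-- The pullback map on functions. -/
noncomputable def gmap (f : V ⟶ W) : Γ(W.left, ⊤) →ₐ[Ko k] Γ(V.left, ⊤) :=
  { f.left.appTop.hom with
    commutes' := fun r => by
      show f.left.appTop (W.hom.appTop r) = V.hom.appTop r
      rw [← Over.w f, Scheme.Hom.comp_appTop]
      rfl }

@[simp] theorem gmap_apply (f : V ⟶ W) (a : Γ(W.left, ⊤)) : gmap f a = f.left.appTop a := rfl

instance isAffine_tensor [IsAffine W.left] [IsAffine T.left] : IsAffine (W ⊗ T).left :=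
  .of_isPullback (IsPullback.of_hasPullback W.hom T.hom)

/-- Functions on a product from functions on the factors. -/
noncomputable def tau (W T : Over (Spec (CommRingCat.of k))) :
    Γ(W.left, ⊤) ⊗[Ko k] Γ(T.left, ⊤) →ₐ[Ko k] Γ((W ⊗ T).left, ⊤) :=
  Algebra.TensorProduct.lift (gmap (fst W T)) (gmap (snd W T)) fun _ _ => Commute.all _ _

theorem tau_bijective (W T : Over (Spec (CommRingCat.of k))) [IsAffine W.left] [IsAffine T.left] :
    Function.Bijective (tau W T) := by
  have h := isPushout_appTop_of_isPullback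
    (IsPullback.of_hasPullback W.hom T.hom : IsPullback (fst W T).left (snd W T).left W.hom T.hom)
  let e := (CommRingCat.isPushout_tensorProduct (Ko k) Γ(W.left, ⊤) Γ(T.left, ⊤)).isoIsPushout _ _ h
  have he : ∀ z, tau W T z = e.hom z := by
    intro z
    induction z using TensorProduct.induction_on with
    | zero => simp
    | tmul a b =>
      have h1 := congrArg (fun q => q.hom a)
        ((CommRingCat.isPushout_tensorProduct (Ko k) Γ(W.left, ⊤) Γ(T.left, ⊤)).inl_isoIsPushout_hom _ _ h)
      have h2 := congrArg (fun q => q.hom b)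
        ((CommRingCat.isPushout_tensorProduct (Ko k) Γ(W.left, ⊤) Γ(T.left, ⊤)).inr_isoIsPushout_hom _ _ h)
      show tau W T (a ⊗ₜ b) = _
      have hab : (a ⊗ₜ[Ko k] b) = (a ⊗ₜ[Ko k] 1) * ((1 : Γ(W.left, ⊤)) ⊗ₜ[Ko k] b) := by
        rw [Algebra.TensorProduct.tmul_mul_tmul, _root_.mul_one, _root_.one_mul]
      rw [tau, Algebra.TensorProduct.lift_tmul, hab, map_mul]
      exact congrArg₂ (· * ·) h1.symm h2.symm
    | add u v hu hv => simp only [map_add, hu, hv]
  rw [show ⇑(tau W T) = ⇑e.hom.hom from funext he]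
  exact ConcreteCategory.bijective_of_isIso e.hom

theorem tau_natural (f : W' ⟶ W) (g : T' ⟶ T) (z : Γ(W.left, ⊤) ⊗[Ko k] Γ(T.left, ⊤)) :
    (f ⊗ₘ g).left.appTop (tau W T z) = tau W' T' (Algebra.TensorProduct.map (gmap f) (gmap g) z) := by
  induction z using TensorProduct.induction_on with
  | zero => simp
  | tmul a b =>
    simp only [tau, Algebra.TensorProduct.lift_tmul, Algebra.TensorProduct.map_tmul, gmap_apply, map_mul]
    congr 1
    · show ((f ⊗ₘ g) ≫ fst W T).left.appTop a = (fst W' T' ≫ f).left.appTop a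
      rw [tensorHom_fst]
    · show ((f ⊗ₘ g) ≫ snd W T).left.appTop b = (snd W' T' ≫ g).left.appTop b
      rw [tensorHom_snd]
  | add u v hu hv => simp only [map_add, hu, hv]

theorem injective_whiskerRight (f : W' ⟶ W) (T : Over (Spec (CommRingCat.of k))) [IsAffine W.left] [IsAffine W'.left]
    [IsAffine T.left] (hf : Function.Injective f.left.appTop) : Function.Injective (f ▷ T).left.appTop := by
  let _ := koField k
  rw [← tensorHom_id]
  intro x y hxy
  obtain ⟨x, rfl⟩ := (tau_bijective W T).2 x
  obtain ⟨y, rfl⟩ := (tau_bijective W T).2 y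
  rw [tau_natural, tau_natural] at hxy
  congr 1
  refine Module.Flat.rTensor_preserves_injective_linearMap (M := Γ(T.left, ⊤)) (gmap f).toLinearMap hf ?_
  have h : ∀ z, LinearMap.rTensor Γ(T.left, ⊤) (gmap f).toLinearMap z =
      Algebra.TensorProduct.map (gmap f) (gmap (𝟙 T)) z := by
    intro z
    induction z using TensorProduct.induction_on with
    | zero => simp
    | tmul a b => simp
    | add u v hu hv => simp only [map_add, hu, hv]
  rw [h, h]
  exact (tau_bijective W' T).1 hxy

theorem injective_whiskerLeft (f : T' ⟶ T) (W : Over (Spec (CommRingCat.of k))) [IsAffine W.left] [IsAffine T.left]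
    [IsAffine T'.left] (hf : Function.Injective f.left.appTop) : Function.Injective (W ◁ f).left.appTop := by
  let _ := koField k
  rw [← id_tensorHom]
  intro x y hxy
  obtain ⟨x, rfl⟩ := (tau_bijective W T).2 x
  obtain ⟨y, rfl⟩ := (tau_bijective W T).2 y
  rw [tau_natural, tau_natural] at hxy
  congr 1
  refine Module.Flat.lTensor_preserves_injective_linearMap (M := Γ(W.left, ⊤)) (gmap f).toLinearMap hf ?_
  have h : ∀ z, LinearMap.lTensor Γ(W.left, ⊤) (gmap f).toLinearMap z =
      Algebra.TensorProduct.map (gmap (𝟙 W)) (gmap f) z := by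
    intro z
    induction z using TensorProduct.induction_on with
    | zero => simp
    | tmul a b => simp
    | add u v hu hv => simp only [map_add, hu, hv]
  rw [h, h]
  exact (tau_bijective W T').1 hxy

/-- A ring map out of the functions of an affine scheme gives a morphism over the base. -/
theorem exists_hom [IsAffine W.left] (ψ : Γ(W.left, ⊤) →+* Γ(V.left, ⊤))
    (hψ : ∀ r, ψ (W.hom.appTop r) = V.hom.appTop r) : ∃ f : V ⟶ W, ∀ a, f.left.appTop a = ψ a := by
  let g : V.left ⟶ W.left := V.left.toSpecΓ ≫ Spec.map (CommRingCat.ofHom ψ) ≫ W.left.isoSpec.inv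
  haveI : IsIso W.left.isoSpec.hom.appTop := inferInstanceAs (IsIso (W.left.isoSpec.hom.app ⊤))
  have hinv : W.left.isoSpec.inv.appTop = (Scheme.ΓSpecIso Γ(W.left, ⊤)).inv ≫ 𝟙 _ := by
    rw [← cancel_mono W.left.isoSpec.hom.appTop, ← Scheme.Hom.comp_appTop, Iso.hom_inv_id]
    simp [Scheme.isoSpec_hom, Scheme.toSpecΓ_appTop]
  have hg : g.appTop = CommRingCat.ofHom ψ := by
    rw [Scheme.Hom.comp_appTop, Scheme.Hom.comp_appTop, hinv, Category.comp_id, ← Scheme.ΓSpecIso_inv_naturality,
      Category.assoc, Scheme.toSpecΓ_appTop]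
    exact (congrArg (_ ≫ ·) (Scheme.ΓSpecIso _).inv_hom_id).trans (Category.comp_id _)
  refine ⟨Over.homMk g (ext_of_isAffine ?_), fun a => congrArg (fun q => q.hom a) hg⟩
  show (g ≫ W.hom).appTop = _
  rw [Scheme.Hom.comp_appTop, hg]
  exact CommRingCat.hom_ext (RingHom.ext hψ)

/-- Morphisms into an affine scheme over the base are determined by their functions. -/
theorem hom_ext [IsAffine W.left] {f g : V ⟶ W} (h : ∀ a, f.left.appTop a = g.left.appTop a) : f = g :=
  Over.OverMorphism.ext (ext_of_isAffine (CommRingCat.hom_ext (RingHom.ext h)))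

/-- Cancelling a morphism injective on functions. -/
theorem cancel_of_injective [IsAffine T.left] {p : V ⟶ W} (hp : Function.Injective p.left.appTop) {f g : W ⟶ T}
    (h : p ≫ f = p ≫ g) : f = g :=
  hom_ext fun a => hp (congrArg (fun q : V ⟶ T => q.left.appTop a) h)

end Groth.Agent.MiscTwoH99.AffProd
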