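import Groth.Agent.SchDenseLib.Basic
import Mathlib.RingTheory.Ideal.AssociatedPrime.Localization

/-!
# An open containing all associated points is schematically dense
-/

universe u

open CategoryTheory AlgebraicGeometry TopologicalSpace

namespace Groth.Agent.MiscTwoH99

/-- On a locally Noetherian scheme, an open containing every associated point is schematically
dense. -/
theorem isSchematicallyDense_of_ass_mem {X : Scheme.{u}} [IsLocallyNoetherian X] (U : X.Opens)
    (hU : ∀ s : X, IsLocalRing.maximalIdeal (X.presheaf.stalk s) ∈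
        associatedPrimes (X.presheaf.stalk s) (X.presheaf.stalk s) → s ∈ U) :
    CInt.IsSchematicallyDense U := by
  refine SchDenseLib.of_local U fun V x hx => ?_
  obtain ⟨W, hW, hxW, hWV⟩ := Opens.isBasis_iff_nbhd.1 X.isBasis_affineOpens hx
  refine ⟨W, hWV, hxW, fun b hb => ?_⟩
  by_contra hb0
  have := IsLocallyNoetherian.component_noetherian (X := X) ⟨W, hW⟩
  obtain ⟨P, hP, hbP⟩ := exists_le_isAssociatedPrime_of_isNoetherianRing Γ(X, W) b hb0
  have hPp : P.IsPrime := hP.isPrime
  let p : PrimeSpectrum Γ(X, W) := ⟨P, hPp⟩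
  let y : X := hW.fromSpec p
  have hyW : y ∈ W := (hW.isoSpec.inv p).2
  let := TopCat.Presheaf.algebra_section_stalk X.presheaf (⟨y, hyW⟩ : W)
  have hloc : IsLocalization.AtPrime (X.presheaf.stalk y) P := hW.isLocalization_stalk' p hyW
  have hmax : (IsLocalRing.maximalIdeal (X.presheaf.stalk y)).comap
      (algebraMap Γ(X, W) (X.presheaf.stalk y)) = P :=
    IsLocalization.AtPrime.comap_maximalIdeal (X.presheaf.stalk y) P
  have hass : IsLocalRing.maximalIdeal (X.presheaf.stalk y) ∈
      associatedPrimes (X.presheaf.stalk y) (X.presheaf.stalk y) :=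
    Module.associatedPrimes.mem_associatedPrimes_of_comap_mem_associatedPrimes_of_isLocalizedModule
      P.primeCompl (Algebra.linearMap Γ(X, W) (X.presheaf.stalk y)) _ (hmax.symm ▸ hP)
  have hyWU : y ∈ W ⊓ U := ⟨hyW, hU y hass⟩
  have h0 : algebraMap Γ(X, W) (X.presheaf.stalk y) b = 0 := by
    show X.presheaf.germ W y hyW b = 0
    rw [← X.presheaf.germ_res_apply (homOfLE (inf_le_left : W ⊓ U ≤ W)) y hyWU b]
    exact (congrArg (X.presheaf.germ (W ⊓ U) y hyWU).hom hb).trans (map_zero _)
  obtain ⟨⟨s, hs⟩, hsb⟩ :=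
    (IsLocalization.map_eq_zero_iff P.primeCompl (X.presheaf.stalk y) b).1 h0
  refine hs (hbP ?_)
  simpa [Submodule.mem_colon_singleton, mul_comm] using hsb

end Groth.Agent.MiscTwoH99
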