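import Groth.Agent.MiscTwoH99.MagAvgRing
import Groth.Agent.RingPO.Affine
import Groth.Agent.H23.CharPts

/-! Averaging over a diagonalizable group morphisms to an arbitrary scheme which are invariant modulo a square
zero ideal. -/

universe u

open CategoryTheory CategoryTheory.Limits MonoidalCategory CartesianMonoidalCategory MonObj AlgebraicGeometry
open Magnet

namespace Groth.Agent.MiscTwoH99.MagAvg

open H23.CharPts

attribute [-instance] ULift.smulLeft

variable {S : Scheme.{u}} {C C' C₀ C₀' : Type u} [CommRing C] [CommRing C'] [CommRing C₀] [CommRing C₀']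
variable {K : Type} [AddCommMonoid K]

/-- An affine scheme over the base. -/
noncomputable abbrev W (str : Spec (CommRingCat.of C) ⟶ S) : Over S := Over.mk str

/-- A morphism of affine schemes over the base. -/
noncomputable abbrev hm {str : Spec (CommRingCat.of C) ⟶ S} {str' : Spec (CommRingCat.of C') ⟶ S} (f : C →+* C')
    (h : Spec.map (CommRingCat.ofHom f) ≫ str = str') : W str' ⟶ W str :=
  Over.homMk (Spec.map (CommRingCat.ofHom f)) h

theorem hm_comp {C'' : Type u} [CommRing C''] {str : Spec (CommRingCat.of C) ⟶ S}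
    {str' : Spec (CommRingCat.of C') ⟶ S} {str'' : Spec (CommRingCat.of C'') ⟶ S} (f : C →+* C') (g : C' →+* C'') (h h') :
    (hm g h' : W str'' ⟶ W str') ≫ (hm f h : W str' ⟶ W str) = hm (g.comp f) (by
      rw [CommRingCat.ofHom_comp, Spec.map_comp, Category.assoc, h, h']) := by
  refine Over.OverMorphism.ext ?_
  show Spec.map _ ≫ Spec.map _ = Spec.map _
  rw [← Spec.map_comp]
  rfl

theorem hm_congr {str : Spec (CommRingCat.of C) ⟶ S} {str' : Spec (CommRingCat.of C') ⟶ S} {f g : C →+* C'} (e : f = g)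
    (h) (h') : (hm f h : W str' ⟶ W str) = hm g h' := by subst e; rfl

theorem hom_sp_ext {T : Scheme.{u}} {R : CommRingCat.{u}} {f g : T ⟶ Spec R}
    (h : (Scheme.ΓSpecIso R).inv ≫ f.appTop = (Scheme.ΓSpecIso R).inv ≫ g.appTop) : f = g := by
  exact ext_of_isAffine ((cancel_epi _).mp h)

/-- The character of a point with values in an affine scheme. -/
noncomputable def chiR {str : Spec (CommRingCat.of C) ⟶ S} (x : W str ⟶ AMonS S K) : Multiplicative K →* C :=
  (Scheme.ΓSpecIso (CommRingCat.of C)).hom.hom.toMonoidHom.comp (chi x)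

theorem chiR_injective {str : Spec (CommRingCat.of C) ⟶ S} :
    Function.Injective (chiR : (W str ⟶ AMonS S K) → Multiplicative K →* C) := fun x y h =>
  chi_injective (MonoidHom.ext fun m =>
    (Scheme.ΓSpecIso (CommRingCat.of C)).commRingCatIsoToRingEquiv.injective (DFunLike.congr_fun h m))

theorem exists_chiR_eq {str : Spec (CommRingCat.of C) ⟶ S} (χ : Multiplicative K →* C) :
    ∃ x : W str ⟶ AMonS S K, chiR x = χ := by
  obtain ⟨x, hx⟩ := exists_chi_eq (S := S) (T := W str) (M := K)
    ((Scheme.ΓSpecIso (CommRingCat.of C)).inv.hom.toMonoidHom.comp χ)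
  refine ⟨x, MonoidHom.ext fun m => ?_⟩
  show (Scheme.ΓSpecIso (CommRingCat.of C)).hom (chi x m) = _
  rw [hx]
  exact (Scheme.ΓSpecIso (CommRingCat.of C)).commRingCatIsoToRingEquiv.apply_symm_apply (χ m)

theorem chiR_comp {str : Spec (CommRingCat.of C) ⟶ S} {str' : Spec (CommRingCat.of C') ⟶ S} (f : C →+* C') (h)
    (x : W str ⟶ AMonS S K) (m : Multiplicative K) :
    chiR ((hm f h : W str' ⟶ W str) ≫ x) m = f (chiR x m) := by
  show (Scheme.ΓSpecIso (CommRingCat.of C')).hom (chi ((hm f h : W str' ⟶ W str) ≫ x) m) =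
    f ((Scheme.ΓSpecIso (CommRingCat.of C)).hom (chi x m))
  rw [chi_comp]
  exact congrArg (fun q => q.hom (chi x m)) (Scheme.ΓSpecIso_naturality (CommRingCat.ofHom f))

theorem chiR_mul {str : Spec (CommRingCat.of C) ⟶ S} (x y : W str ⟶ AMonS S K) (m : Multiplicative K) :
    chiR (x * y) m = chiR x m * chiR y m := by
  show (Scheme.ΓSpecIso (CommRingCat.of C)).hom (chi (x * y) m) = _
  rw [chi_mul, map_mul]
  rfl

variable (K) in
/-- The spectrum of a monoid algebra. -/
noncomputable abbrev Q (str : Spec (CommRingCat.of C) ⟶ S) : Over S :=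
  W (Spec.map (CommRingCat.ofHom (MonoidAlgebra.singleOneRingHom : C →+* MonoidAlgebra C (Multiplicative K))) ≫ str)

/-- Its projection. -/
noncomputable abbrev qpr (str : Spec (CommRingCat.of C) ⟶ S) : Q K str ⟶ W str := hm _ rfl

/-- Its universal point. -/
noncomputable def qg (str : Spec (CommRingCat.of C) ⟶ S) : Q K str ⟶ AMonS S K :=
  (exists_chiR_eq (MonoidAlgebra.of C (Multiplicative K))).choose

theorem chiR_qg (str : Spec (CommRingCat.of C) ⟶ S) :
    chiR (qg (K := K) str) = MonoidAlgebra.of C (Multiplicative K) :=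
  (exists_chiR_eq (MonoidAlgebra.of C (Multiplicative K))).choose_spec

/-- The comparison with the product. -/
noncomputable def jQ (str : Spec (CommRingCat.of C) ⟶ S) : Q K str ⟶ AMonS S K ⊗ W str := lift (qg str) (qpr str)

theorem hom_Q_ext {str : Spec (CommRingCat.of C) ⟶ S} {T : Over S} {x y : T ⟶ Q K str}
    (h₁ : x ≫ qg str = y ≫ qg str) (h₂ : x ≫ qpr str = y ≫ qpr str) : x = y := by
  refine Over.OverMorphism.ext (hom_sp_ext (CommRingCat.hom_ext (MonoidAlgebra.ringHom_ext (fun r => ?_) fun m => ?_)))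
  · have e := congrArg (fun q => q.left.appTop.hom ((Scheme.ΓSpecIso (CommRingCat.of C)).inv r)) h₂
    have n := congrArg (fun q => q.hom r) (Scheme.ΓSpecIso_inv_naturality
      (CommRingCat.ofHom (MonoidAlgebra.singleOneRingHom : C →+* MonoidAlgebra C (Multiplicative K))))
    change x.left.appTop.hom _ = y.left.appTop.hom _
    refine ((congrArg x.left.appTop.hom n).trans ?_).trans (congrArg y.left.appTop.hom n).symm
    simp only [Over.comp_left, Scheme.Hom.comp_appTop] at e
    exact e
  · have hq : chi (qg str) m = (Scheme.ΓSpecIso (CommRingCat.of (MonoidAlgebra C (Multiplicative K)))).inv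
        (MonoidAlgebra.single m 1) := by
      rw [← MonoidAlgebra.of_apply, ← chiR_qg str]
      exact ((Scheme.ΓSpecIso _).commRingCatIsoToRingEquiv.symm_apply_apply _).symm
    have e : chi (x ≫ qg str) m = chi (y ≫ qg str) m := by rw [h₁]
    rw [chi_comp, chi_comp, hq] at e
    exact e

theorem isIso_jQ (str : Spec (CommRingCat.of C) ⟶ S) : IsIso (jQ (K := K) str) := by
  let T := AMonS S K ⊗ W str
  let c : C →+* Γ(T.left, ⊤) := (snd (AMonS S K) (W str)).left.appTop.hom.comp (Scheme.ΓSpecIso (CommRingCat.of C)).inv.hom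
  let r : MonoidAlgebra C (Multiplicative K) →+* Γ(T.left, ⊤) :=
    MonoidAlgebra.liftNCRingHom c (chi (fst (AMonS S K) (W str))) fun _ _ => Commute.all _ _
  have hr : ∀ z, r (MonoidAlgebra.singleOneRingHom z) = c z := fun z => by
    show r (MonoidAlgebra.single 1 z) = _
    refine (MonoidAlgebra.liftNCRingHom_single _ _ _ _ _).trans ?_
    rw [map_one, _root_.mul_one]
  have hv0 : (T.left.toSpecΓ ≫ Spec.map (CommRingCat.ofHom r)) ≫
      Spec.map (CommRingCat.ofHom (MonoidAlgebra.singleOneRingHom : C →+* MonoidAlgebra C (Multiplicative K))) =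
      (snd (AMonS S K) (W str)).left := by
    rw [Category.assoc, ← Spec.map_comp, show CommRingCat.ofHom (MonoidAlgebra.singleOneRingHom) ≫ CommRingCat.ofHom r =
      (Scheme.ΓSpecIso (CommRingCat.of C)).inv ≫ (snd (AMonS S K) (W str)).left.appTop from
        CommRingCat.hom_ext (RingHom.ext hr), Spec.map_comp, ← Scheme.toSpecΓ_naturality_assoc]
    simp
  let v : T ⟶ Q K str := Over.homMk (T.left.toSpecΓ ≫ Spec.map (CommRingCat.ofHom r)) (by
    show (T.left.toSpecΓ ≫ Spec.map (CommRingCat.ofHom r)) ≫ Spec.map _ ≫ str = T.hom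
    rw [← Category.assoc, hv0]
    exact Over.w (snd (AMonS S K) (W str)))
  have hv2 : v ≫ qpr str = snd _ _ := Over.OverMorphism.ext hv0
  have hv1 : v ≫ qg str = fst _ _ := by
    refine chi_injective (MonoidHom.ext fun m => ?_)
    rw [chi_comp]
    have hq : chi (qg str) m = (Scheme.ΓSpecIso (CommRingCat.of (MonoidAlgebra C (Multiplicative K)))).inv
        (MonoidAlgebra.single m 1) := by
      rw [← MonoidAlgebra.of_apply, ← chiR_qg str]
      exact ((Scheme.ΓSpecIso _).commRingCatIsoToRingEquiv.symm_apply_apply _).symm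
    rw [hq]
    have : (Scheme.ΓSpecIso (CommRingCat.of (MonoidAlgebra C (Multiplicative K)))).inv ≫ v.left.appTop =
        CommRingCat.ofHom r := by
      show _ ≫ (T.left.toSpecΓ ≫ Spec.map (CommRingCat.ofHom r)).appTop = _
      rw [Scheme.Hom.comp_appTop, ← Category.assoc, ← Scheme.ΓSpecIso_inv_naturality, Category.assoc,
        Scheme.toSpecΓ_appTop, Iso.inv_hom_id]
      exact Category.comp_id _
    refine (congrArg (fun q => q.hom (MonoidAlgebra.single m 1)) this).trans ?_
    show r (MonoidAlgebra.single m 1) = _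
    refine (MonoidAlgebra.liftNCRingHom_single _ _ _ _ _).trans ?_
    rw [map_one, _root_.one_mul]
  refine ⟨⟨v, hom_Q_ext ?_ ?_, ?_⟩⟩
  · rw [Category.assoc, hv1, jQ, lift_fst, Category.id_comp]
  · rw [Category.assoc, hv2, jQ, lift_snd, Category.id_comp]
  · rw [jQ, comp_lift, hv1, hv2, lift_fst_snd]

/-! ### The average -/

variable {M : Type} [AddCommGroup M] (str : Spec (CommRingCat.of C) ⟶ S) (π : C →+* C₀)

/-- The reduction. -/
noncomputable abbrev W₀ : Over S := W (Spec.map (CommRingCat.ofHom π) ≫ str)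

/-- The inclusion of the reduction. -/
noncomputable abbrev red : W₀ str π ⟶ W str := hm π rfl

variable (M) in
/-- The spectrum of the elements constant modulo the kernel. -/
noncomputable abbrev P : Over S := W (Spec.map (CommRingCat.ofHom (cst π (Multiplicative M))) ≫ str)

variable (M) in
/-- Its map from the product. -/
noncomputable abbrev al : Q M str ⟶ P M str π :=
  hm (rg π (Multiplicative M)).subtype (by rw [← Spec.map_comp_assoc]; rfl)

variable (hJ : ∀ a b : C, π a = 0 → π b = 0 → a * b = 0)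

variable (M) in
/-- The constant coefficient as a morphism. -/
noncomputable abbrev ep : W str ⟶ P M str π :=
  hm (eps (G := Multiplicative M) π hJ) (by
    rw [← Spec.map_comp_assoc, ← CommRingCat.ofHom_comp,
      show (eps (G := Multiplicative M) π hJ).comp (cst π (Multiplicative M)) = RingHom.id C from RingHom.ext (eps_cst π hJ)]
    exact (congrArg (· ≫ str) (Spec.map_id _)).trans (Category.id_comp _))

/-- `l` is the average of `Φ`. -/
def IsAvg {X : Over S} (Φ : AMonS S M ⊗ W str ⟶ X) (l : W str ⟶ X) : Prop :=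
  ∃ ψ : P M str π ⟶ X, al M str π ≫ ψ = jQ str ≫ Φ ∧ ep M str π hJ ≫ ψ = l

variable {str π hJ} {X Y : Over S} {Φ : AMonS S M ⊗ W str ⟶ X} {l : W str ⟶ X}

theorem qmap_aux {str' : Spec (CommRingCat.of C') ⟶ S} (f : C →+* C')
    (h : Spec.map (CommRingCat.ofHom f) ≫ str = str') :
    Spec.map (CommRingCat.ofHom (MonoidAlgebra.mapRingHom (Multiplicative K) f)) ≫ (Q K str).hom = (Q K str').hom := by
  show Spec.map _ ≫ Spec.map _ ≫ str = Spec.map _ ≫ str'
  rw [← h, ← Spec.map_comp_assoc, ← Spec.map_comp_assoc, ← CommRingCat.ofHom_comp, ← CommRingCat.ofHom_comp]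
  congr 3
  exact RingHom.ext fun c => MonoidAlgebra.mapRingHom_single f 1 c

theorem qg_congr {str' : Spec (CommRingCat.of C') ⟶ S} (f : C →+* C')
    (h : Spec.map (CommRingCat.ofHom f) ≫ str = str') :
    (hm (MonoidAlgebra.mapRingHom (Multiplicative K) f) (by
        rw [← h, ← Spec.map_comp_assoc, ← Spec.map_comp_assoc, ← CommRingCat.ofHom_comp, ← CommRingCat.ofHom_comp]
        congr 3
        exact RingHom.ext fun c => MonoidAlgebra.mapRingHom_single f 1 c) : Q K str' ⟶ Q K str) ≫ qg str = qg str' := by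
  refine chiR_injective (MonoidHom.ext fun m => ?_)
  rw [chiR_comp, chiR_qg, chiR_qg, MonoidAlgebra.of_apply, MonoidAlgebra.of_apply, MonoidAlgebra.mapRingHom_single, map_one]

theorem jQ_whiskerLeft {str' : Spec (CommRingCat.of C') ⟶ S} (f : C →+* C')
    (h : Spec.map (CommRingCat.ofHom f) ≫ str = str') (h') :
    jQ str' ≫ AMonS S K ◁ (hm f h : W str' ⟶ W str) =
      (hm (MonoidAlgebra.mapRingHom (Multiplicative K) f) h' : Q K str' ⟶ Q K str) ≫ jQ str := by
  rw [jQ, jQ, lift_whiskerLeft, comp_lift, qg_congr f h, hm_comp, hm_comp]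
  congr 1
  exact hm_congr (RingHom.ext fun c => (MonoidAlgebra.mapRingHom_single f 1 c).symm) _ _

theorem isFibreProd (hπ : Function.Surjective π) (G : Type) [CommMonoid G] :
    RingPO.IsFibreProd (MonoidAlgebra.mapRingHom G π) (MonoidAlgebra.singleOneRingHom : C₀ →+* MonoidAlgebra C₀ G)
      (rg π G).subtype (bet π) where
  surj := MonoidAlgebra.map_surjective π.toAddMonoidHom hπ
  comm z := by rw [bet_eq]; exact map_eq_of_mem π z.2
  ext z z' h _ := Subtype.ext h
  exists_of_eq b a h := ⟨⟨a, ⟨b, h.symm⟩⟩, rfl, by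
    rw [bet, RingHom.comp_apply, RingHom.comp_apply]
    exact (congrArg aug h).trans (aug_single 1 b)⟩

theorem exists_isAvg (hπ : Function.Surjective π) (Φ : AMonS S M ⊗ W str ⟶ X) (x : W₀ str π ⟶ X)
    (h : AMonS S M ◁ red str π ≫ Φ = snd _ _ ≫ x) : ∃ l, IsAvg str π hJ Φ l := by
  have hF := isFibreProd hπ (Multiplicative M)
  let q₀ : Q M (Spec.map (CommRingCat.ofHom π) ≫ str) ⟶ Q M str :=
    hm (MonoidAlgebra.mapRingHom (Multiplicative M) π) (qmap_aux π rfl)
  have h' : q₀ ≫ jQ str ≫ Φ = qpr (Spec.map (CommRingCat.ofHom π) ≫ str) ≫ x := by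
    rw [← Category.assoc, ← jQ_whiskerLeft π rfl _, Category.assoc, h, ← Category.assoc, jQ, lift_snd]
  obtain ⟨k, hk₁, hk₂⟩ := hF.exists_desc (jQ str ≫ Φ).left x.left (congrArg Over.Hom.left h')
  have hk : k ≫ X.hom = (P M str π).hom := by
    refine hF.hom_ext ?_ ?_
    · rw [← Category.assoc, hk₁, Over.w]
      exact (Over.w (al M str π)).symm
    · rw [← Category.assoc, hk₂, Over.w]
      show Spec.map _ ≫ str = Spec.map _ ≫ Spec.map _ ≫ str
      rw [← Spec.map_comp_assoc, ← CommRingCat.ofHom_comp]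
      congr 3
      refine RingHom.ext fun c => ((bet_eq π _).trans ?_).symm
      show π ((MonoidAlgebra.single (1 : Multiplicative M) c).coeff 1) = π c
      rw [MonoidAlgebra.coeff_single, Finsupp.single_eq_same]
  exact ⟨_, Over.homMk k hk, Over.OverMorphism.ext hk₁, rfl⟩

theorem IsAvg.unique (hπ : Function.Surjective π) {l' : W str ⟶ X} (h : IsAvg str π hJ Φ l) (h' : IsAvg str π hJ Φ l') :
    l = l' := by
  obtain ⟨ψ, hψ, rfl⟩ := h
  obtain ⟨ψ', hψ', rfl⟩ := h'
  congr 1
  have e : (al M str π).left ≫ ψ.left = (al M str π).left ≫ ψ'.left := congrArg Over.Hom.left (hψ.trans hψ'.symm)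
  refine Over.OverMorphism.ext ((isFibreProd hπ (Multiplicative M)).hom_ext e ?_)
  rw [bet, CommRingCat.ofHom_comp, Spec.map_comp, Category.assoc, Category.assoc]
  exact congrArg (_ ≫ ·) e

theorem IsAvg.red_comp (h : IsAvg str π hJ Φ l) : red str π ≫ l = lift 1 (red str π) ≫ Φ := by
  obtain ⟨ψ, hψ, rfl⟩ := h
  let a : W₀ str π ⟶ Q M str := hm ((aug).comp (MonoidAlgebra.mapRingHom (Multiplicative M) π)) (by
    rw [← Spec.map_comp_assoc, ← CommRingCat.ofHom_comp]
    congr 3
    exact RingHom.ext fun c => by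
      show aug (MonoidAlgebra.mapRingHom _ π (MonoidAlgebra.single 1 c)) = π c
      rw [MonoidAlgebra.mapRingHom_single, aug_single])
  have e1 : red str π ≫ ep M str π hJ = a ≫ al M str π := by
    rw [hm_comp, hm_comp]
    exact hm_congr (RingHom.ext fun f => (bet_eq π f).symm) _ _
  have e2 : a ≫ jQ str = lift 1 (red str π) := by
    rw [jQ, comp_lift]
    congr 1
    · refine chiR_injective (MonoidHom.ext fun m => ?_)
      rw [chiR_comp, chiR_qg]
      show aug (MonoidAlgebra.mapRingHom _ π (MonoidAlgebra.single m 1)) = _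
      rw [MonoidAlgebra.mapRingHom_single, aug_single, map_one]
      have h1 := chiR_mul (1 : W₀ str π ⟶ AMonS S M) 1 m
      rw [_root_.one_mul] at h1
      have hu : IsUnit (chiR (1 : W₀ str π ⟶ AMonS S M) m) := (Group.isUnit m).map _
      exact (hu.mul_left_cancel (by rw [_root_.mul_one]; exact h1.symm)).symm
    · rw [hm_comp]
      exact hm_congr (RingHom.ext fun c => by
        show aug (MonoidAlgebra.mapRingHom _ π (MonoidAlgebra.single 1 c)) = π c
        rw [MonoidAlgebra.mapRingHom_single, aug_single]) _ _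
  rw [← Category.assoc, e1, Category.assoc, hψ, ← Category.assoc, e2]

theorem IsAvg.comp (h : IsAvg str π hJ Φ l) (F : X ⟶ Y) : IsAvg str π hJ (Φ ≫ F) (l ≫ F) := by
  obtain ⟨ψ, hψ, rfl⟩ := h
  exact ⟨ψ ≫ F, by rw [reassoc_of% hψ], Category.assoc _ _ _ |>.symm⟩

theorem IsAvg.lift {Φ' : AMonS S M ⊗ W str ⟶ Y} {l' : W str ⟶ Y} (h : IsAvg str π hJ Φ l)
    (h' : IsAvg str π hJ Φ' l') : IsAvg str π hJ (CartesianMonoidalCategory.lift Φ Φ') (CartesianMonoidalCategory.lift l l') := by
  obtain ⟨ψ, hψ, rfl⟩ := h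
  obtain ⟨ψ', hψ', rfl⟩ := h'
  exact ⟨CartesianMonoidalCategory.lift ψ ψ', by rw [comp_lift, hψ, hψ', comp_lift], comp_lift _ _ _⟩

theorem isAvg_snd (y : W str ⟶ X) : IsAvg (M := M) str π hJ (snd _ _ ≫ y) y := by
  refine ⟨(hm (cst π (Multiplicative M)) rfl : P M str π ⟶ W str) ≫ y, ?_, ?_⟩
  · rw [← Category.assoc, ← Category.assoc, jQ, lift_snd, hm_comp]
    exact congrArg (· ≫ y) (hm_congr (RingHom.ext fun c => rfl) _ _)
  · rw [← Category.assoc, hm_comp, show (hm ((eps π hJ).comp (cst π (Multiplicative M))) _ : W str ⟶ W str) = 𝟙 _ from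
      Over.OverMorphism.ext (by
        show Spec.map (CommRingCat.ofHom _) = 𝟙 _
        rw [show (eps π hJ).comp (cst π (Multiplicative M)) = RingHom.id C from RingHom.ext (eps_cst π hJ)]
        exact Spec.map_id _), Category.id_comp]

theorem IsAvg.map {str' : Spec (CommRingCat.of C') ⟶ S} {π' : C' →+* C₀'}
    {hJ' : ∀ a b : C', π' a = 0 → π' b = 0 → a * b = 0} (h : IsAvg str π hJ Φ l) (f : C →+* C') (g : C₀ →+* C₀')
    (hfg : π'.comp f = g.comp π) (hf : Spec.map (CommRingCat.ofHom f) ≫ str = str') :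
    IsAvg str' π' hJ' (AMonS S M ◁ (hm f hf : W str' ⟶ W str) ≫ Φ) ((hm f hf : W str' ⟶ W str) ≫ l) := by
  obtain ⟨ψ, hψ, rfl⟩ := h
  have hmem : ∀ z : rg π (Multiplicative M),
      MonoidAlgebra.mapRingHom (Multiplicative M) f z.1 ∈ rg π' (Multiplicative M) := fun z =>
    ⟨g (bet π z), by
      show MonoidAlgebra.single 1 (g (bet π z)) =
        MonoidAlgebra.mapRingHom (Multiplicative M) π' (MonoidAlgebra.mapRingHom (Multiplicative M) f z.1)
      rw [bet_eq, ← MonoidAlgebra.mapRingHom_single (M := Multiplicative M) g,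
        ← map_eq_of_mem π z.2, ← RingHom.comp_apply, ← RingHom.comp_apply, ← MonoidAlgebra.mapRingHom_comp,
        ← MonoidAlgebra.mapRingHom_comp, hfg]⟩
  let p : rg π (Multiplicative M) →+* rg π' (Multiplicative M) :=
    ((MonoidAlgebra.mapRingHom (Multiplicative M) f).comp (rg π (Multiplicative M)).subtype).codRestrict _ hmem
  have hp : Spec.map (CommRingCat.ofHom p) ≫ Spec.map (CommRingCat.ofHom (cst π (Multiplicative M))) ≫ str =
      Spec.map (CommRingCat.ofHom (cst π' (Multiplicative M))) ≫ str' := by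
    rw [← hf, ← Spec.map_comp_assoc, ← Spec.map_comp_assoc, ← CommRingCat.ofHom_comp, ← CommRingCat.ofHom_comp]
    congr 3
    exact RingHom.ext fun c => Subtype.ext (MonoidAlgebra.mapRingHom_single f 1 c)
  refine ⟨(hm p hp : P M str' π' ⟶ P M str π) ≫ ψ, ?_, ?_⟩
  · rw [← Category.assoc (jQ str'), jQ_whiskerLeft f hf (qmap_aux f hf), Category.assoc, ← hψ, ← Category.assoc, ← Category.assoc,
      hm_comp, hm_comp]
    exact congrArg (· ≫ ψ) (hm_congr (RingHom.ext fun z => rfl) _ _)
  · rw [← Category.assoc, ← Category.assoc, hm_comp, hm_comp]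
    refine congrArg (· ≫ ψ) (hm_congr (RingHom.ext fun z => ?_) _ _)
    exact MonoidAlgebra.coeff_mapRingHom f z.1 1

theorem IsAvg.shift (h : IsAvg str π hJ Φ l) (s : W str ⟶ AMonS S M) :
    IsAvg str π hJ (CartesianMonoidalCategory.lift (fst _ _ * (snd _ _ ≫ s)) (snd _ _) ≫ Φ) l := by
  obtain ⟨ψ, hψ, rfl⟩ := h
  let χ := chiR s
  let t : Multiplicative M →* MonoidAlgebra C (Multiplicative M) :=
    { toFun := fun m => MonoidAlgebra.single m (χ m)
      map_one' := by rw [map_one]; rfl
      map_mul' := fun a b => by rw [MonoidAlgebra.single_mul_single, map_mul] }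
  let τ : MonoidAlgebra C (Multiplicative M) →+* MonoidAlgebra C (Multiplicative M) :=
    MonoidAlgebra.liftNCRingHom MonoidAlgebra.singleOneRingHom t fun _ _ => Commute.all _ _
  have hτ : ∀ m c, τ (MonoidAlgebra.single m c) = MonoidAlgebra.single m (c * χ m) := fun m c => by
    refine (MonoidAlgebra.liftNCRingHom_single _ _ _ _ _).trans ?_
    show MonoidAlgebra.single 1 c * MonoidAlgebra.single m (χ m) = _
    rw [MonoidAlgebra.single_mul_single, _root_.one_mul]
  have hcoeff : ∀ z m, (τ z).coeff m = z.coeff m * χ m := by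
    intro z m
    induction z using MonoidAlgebra.induction_linear with
    | zero => simp
    | add a b ha hb => simp only [map_add, MonoidAlgebra.coeff_add, Finsupp.add_apply, ha, hb, add_mul]
    | single a c =>
      rw [hτ, MonoidAlgebra.coeff_single, MonoidAlgebra.coeff_single]
      by_cases e : a = m
      · subst e; simp
      · simp [Finsupp.single_eq_of_ne (Ne.symm e)]
  have hmem : ∀ z : rg π (Multiplicative M), τ z.1 ∈ rg π (Multiplicative M) := fun z => by
    refine ⟨bet π z, ?_⟩
    refine MonoidAlgebra.coeff_injective (Finsupp.ext fun m => ?_)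
    have e := map_eq_of_mem π z.2
    have e' : π (z.1.coeff m) = (MonoidAlgebra.single (1 : Multiplicative M) (π (z.1.coeff 1))).coeff m := by
      rw [← e, MonoidAlgebra.coeff_mapRingHom]
    rw [MonoidAlgebra.coeff_mapRingHom, hcoeff, map_mul, e', bet_eq]
    by_cases h1 : (1 : Multiplicative M) = m
    · subst h1; simp
    · simp [Finsupp.single_eq_of_ne (Ne.symm h1)]
  let p : rg π (Multiplicative M) →+* rg π (Multiplicative M) :=
    (τ.comp (rg π (Multiplicative M)).subtype).codRestrict _ hmem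
  have h1 : ∀ c, τ (MonoidAlgebra.single 1 c) = MonoidAlgebra.single 1 c := fun c => by rw [hτ, map_one, _root_.mul_one]
  have hp : Spec.map (CommRingCat.ofHom p) ≫ Spec.map (CommRingCat.ofHom (cst π (Multiplicative M))) ≫ str =
      Spec.map (CommRingCat.ofHom (cst π (Multiplicative M))) ≫ str := by
    rw [← Spec.map_comp_assoc, ← CommRingCat.ofHom_comp]
    congr 3
    exact RingHom.ext fun c => Subtype.ext (h1 c)
  have hq : Spec.map (CommRingCat.ofHom τ) ≫ (Q M str).hom = (Q M str).hom := by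
    show Spec.map _ ≫ Spec.map _ ≫ str = _
    rw [← Spec.map_comp_assoc, ← CommRingCat.ofHom_comp]
    congr 3
    exact RingHom.ext h1
  have e : jQ str ≫ CartesianMonoidalCategory.lift (fst _ _ * (snd _ _ ≫ s)) (snd _ _) =
      (hm τ hq : Q M str ⟶ Q M str) ≫ jQ str := by
    rw [comp_lift, MonObj.comp_mul, jQ, lift_fst, lift_snd_assoc, lift_snd, comp_lift, hm_comp]
    congr 1
    · refine chiR_injective (MonoidHom.ext fun m => ?_)
      rw [chiR_mul, chiR_comp, chiR_comp, chiR_qg]
      show _ = τ (MonoidAlgebra.single m 1)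
      rw [hτ, _root_.one_mul]
      show MonoidAlgebra.single m 1 * MonoidAlgebra.single 1 (χ m) = _
      rw [MonoidAlgebra.single_mul_single, _root_.mul_one, _root_.one_mul]
    · exact hm_congr (RingHom.ext fun c => (h1 c).symm) _ _
  refine ⟨(hm p hp : P M str π ⟶ P M str π) ≫ ψ, ?_, ?_⟩
  · rw [reassoc_of% e, ← hψ, ← Category.assoc, ← Category.assoc, hm_comp, hm_comp]
    exact congrArg (· ≫ ψ) (hm_congr (RingHom.ext fun z => rfl) _ _)
  · rw [← Category.assoc, hm_comp]
    refine congrArg (· ≫ ψ) (hm_congr (RingHom.ext fun z => ?_) _ _)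
    show (τ z.1).coeff 1 = z.1.coeff 1
    rw [hcoeff]
    simp

end Groth.Agent.MiscTwoH99.MagAvg
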