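import Groth.Agent.MiscTwoH99.CoactGrade
import Groth.Agent.MiscTwoH99.MagAvg

/-! An affine smooth scheme with an action over the base of a sharp monoid contracting it to a section is a vector
bundle. -/

universe u

open CategoryTheory CategoryTheory.Limits MonoidalCategory CartesianMonoidalCategory MonObj AlgebraicGeometry
open Magnet

namespace Groth.Agent.MiscTwoH99.CoactSpec

open MagAvg

theorem chi_one {S : Scheme.{u}} {K : Type} [AddCommMonoid K] {T : Over S} (k : Multiplicative K) :
    H23.CharPts.chi (1 : T ⟶ AMonS S K) k = 1 := by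
  have h : ∀ m : Multiplicative (Fin 0 → ℕ), m = 1 := fun m => Multiplicative.toAdd.injective (funext fun i => i.elim0)
  have h1 : (1 : T ⟶ AMonS S K) = (1 : T ⟶ AMonS S (Fin 0 → ℕ)) ≫ AMonS.map S (0 : K →+ (Fin 0 → ℕ)) :=
    (MonObj.one_comp _).symm
  rw [h1, H23.CharPts.chi_map]
  exact map_one _

attribute [-instance] ULift.smulLeft

variable {S : Scheme.{u}} {R A : Type u} [CommRing R] [CommRing A] [Algebra R A] {K : Type} [AddCommMonoid K]

theorem exists_vb [IsCancelAdd K] [DecidableEq K] (hsharp : ∀ n : K, IsAddUnit n → n = 0) [Algebra.Smooth R A]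
    (strR : Spec (CommRingCat.of R) ⟶ S) (str : Spec (CommRingCat.of A) ⟶ S)
    (hstr : Spec.map (CommRingCat.ofHom (algebraMap R A)) ≫ strR = str)
    (act : MonAct (AMonS S K) (W str))
    (hp : act.act ≫ (hm (algebraMap R A) hstr : W str ⟶ W strR) = snd _ _ ≫ hm (algebraMap R A) hstr)
    (σ : W strR ⟶ W str) (hσ : σ ≫ (hm (algebraMap R A) hstr : W str ⟶ W strR) = 𝟙 _)
    (g₀ : W str ⟶ AMonS S K) (hg₀ : ∀ k, chiR g₀ (Multiplicative.ofAdd k) = if k = 0 then 1 else 0)
    (hzero : lift g₀ (𝟙 (W str)) ≫ act.act = (hm (algebraMap R A) hstr : W str ⟶ W strR) ≫ σ) :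
    ∃ (P : Type u) (_ : AddCommGroup P) (_ : Module R P), Module.Finite R P ∧ Module.Projective R P ∧
      Nonempty (A ≃ₐ[R] SymmetricAlgebra R P) := by
  let φ : Q K str ⟶ W str := jQ str ≫ act.act
  obtain ⟨Δ, hΔ⟩ : ∃ Δ : A →+* MonoidAlgebra A (Multiplicative K), Spec.map (CommRingCat.ofHom Δ) = φ.left :=
    ⟨(Spec.preimage φ.left).hom, Spec.map_preimage _⟩
  obtain ⟨r₀, hr₀⟩ : ∃ r₀ : A →+* R, Spec.map (CommRingCat.ofHom r₀) = σ.left :=
    ⟨(Spec.preimage σ.left).hom, Spec.map_preimage _⟩
  have ext' : ∀ {B : Type u} [CommRing B] {f g : A →+* B},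
      Spec.map (CommRingCat.ofHom f) = Spec.map (CommRingCat.ofHom g) → f = g := fun h =>
    congrArg CommRingCat.Hom.hom (Spec.map_injective h)
  have extR : ∀ {B : Type u} [CommRing B] {f g : R →+* B},
      Spec.map (CommRingCat.ofHom f) = Spec.map (CommRingCat.ofHom g) → f = g := fun h =>
    congrArg CommRingCat.Hom.hom (Spec.map_injective h)
  have hR : Δ.comp (algebraMap R A) = (MonoidAlgebra.singleOneRingHom).comp (algebraMap R A) := by
    refine extR ?_
    rw [CommRingCat.ofHom_comp, CommRingCat.ofHom_comp, Spec.map_comp, Spec.map_comp, hΔ]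
    have h1 : φ ≫ (hm (algebraMap R A) hstr : W str ⟶ W strR) = qpr str ≫ hm (algebraMap R A) hstr := by
      show (jQ str ≫ act.act) ≫ _ = _
      rw [Category.assoc, hp, ← Category.assoc, jQ, lift_snd]
    exact congrArg Over.Hom.left h1
  have hinj : Function.Injective (algebraMap R A) := by
    have : r₀.comp (algebraMap R A) = RingHom.id R := by
      refine extR ?_
      rw [CommRingCat.ofHom_comp, Spec.map_comp, hr₀, CommRingCat.ofHom_id, Spec.map_id]
      exact congrArg Over.Hom.left hσ
    exact fun x y h => by simpa only [← RingHom.comp_apply, this, RingHom.id_apply] using congrArg r₀ h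
  -- evaluating the coaction at a monoid point
  have key : ∀ (g : W str ⟶ AMonS S K) (t : MonoidAlgebra A (Multiplicative K) →+* A)
      (ht : ∀ a, t (MonoidAlgebra.single 1 a) = a) (hg : ∀ k, t (MonoidAlgebra.single k 1) = chiR g k),
      Spec.map (CommRingCat.ofHom (t.comp Δ)) = (lift g (𝟙 (W str)) ≫ act.act).left := by
    intro g t ht hg
    have ht' : Spec.map (CommRingCat.ofHom t) ≫ (Q K str).hom = str := by
      show Spec.map _ ≫ Spec.map _ ≫ str = str
      rw [← Spec.map_comp_assoc, ← CommRingCat.ofHom_comp,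
        show t.comp MonoidAlgebra.singleOneRingHom = RingHom.id A from RingHom.ext ht]
      exact (congrArg (· ≫ str) (Spec.map_id _)).trans (Category.id_comp _)
    have h1 : (hm t ht' : W str ⟶ Q K str) ≫ jQ str = lift g (𝟙 (W str)) := by
      rw [jQ, comp_lift]
      congr 1
      · exact chiR_injective (MonoidHom.ext fun k => by rw [chiR_comp, chiR_qg]; exact hg k)
      · refine Over.OverMorphism.ext ?_
        show Spec.map _ ≫ Spec.map _ = 𝟙 _
        rw [← Spec.map_comp, ← CommRingCat.ofHom_comp,
          show t.comp MonoidAlgebra.singleOneRingHom = RingHom.id A from RingHom.ext ht]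
        exact Spec.map_id _
    rw [CommRingCat.ofHom_comp, Spec.map_comp, hΔ, ← h1, Category.assoc]
    rfl
  have hsum : ∀ a, ((Δ a).coeff.sum fun _ c => c) = a := by
    let t : MonoidAlgebra A (Multiplicative K) →+* A :=
      MonoidAlgebra.liftNCRingHom (RingHom.id A) 1 fun _ _ => Commute.all _ _
    have ht : ∀ k a, t (MonoidAlgebra.single k a) = a := fun k a =>
      (MonoidAlgebra.liftNCRingHom_single _ _ _ _ _).trans (_root_.mul_one a)
    have h1 : chiR (1 : W str ⟶ AMonS S K) = 1 := by
      refine MonoidHom.ext fun k => ?_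
      show (Scheme.ΓSpecIso (CommRingCat.of A)).hom (H23.CharPts.chi (1 : W str ⟶ AMonS S K) k) = 1
      rw [chi_one, map_one]
    have h2 : t.comp Δ = RingHom.id A := by
      refine ext' ?_
      rw [key 1 t (fun a => ht 1 a) (fun k => by rw [ht, h1]; rfl), act.lift_one_act, CommRingCat.ofHom_id]
      exact (Spec.map_id _).symm
    intro a
    conv_rhs => rw [← RingHom.id_apply a, ← h2, RingHom.comp_apply, ← MonoidAlgebra.sum_coeff_single (Δ a)]
    rw [Finsupp.sum, Finsupp.sum, map_sum]
    exact Finset.sum_congr rfl fun k _ => (ht k _).symm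
  have h0 : ∀ a, (Δ a).coeff 1 ∈ Set.range (algebraMap R A) := by
    let d : Multiplicative K →* A :=
      { toFun := fun k => if k.toAdd = 0 then 1 else 0
        map_one' := if_pos rfl
        map_mul' := fun a b => by
          by_cases ha : a.toAdd = 0
          · rw [if_pos ha, _root_.one_mul]
            simp [ha]
          · rw [if_neg ha, zero_mul, if_neg]
            exact fun h => ha (hsharp _ ⟨⟨a.toAdd, b.toAdd, h, (add_comm _ _).trans h⟩, rfl⟩) }
    let t : MonoidAlgebra A (Multiplicative K) →+* A :=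
      MonoidAlgebra.liftNCRingHom (RingHom.id A) d fun _ _ => Commute.all _ _
    have ht : ∀ k a, t (MonoidAlgebra.single k a) = a * d k := fun k a => MonoidAlgebra.liftNCRingHom_single _ _ _ _ _
    have h2 : t.comp Δ = (algebraMap R A).comp r₀ := by
      refine ext' ?_
      rw [key g₀ t (fun a => by rw [ht, map_one, _root_.mul_one])
        (fun k => by rw [ht, _root_.one_mul]; exact (hg₀ k.toAdd).symm), hzero, CommRingCat.ofHom_comp, Spec.map_comp, hr₀]
      rfl
    have h3 : ∀ z, t z = z.coeff 1 := fun z => by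
      induction z using MonoidAlgebra.induction_linear with
      | zero => simp
      | add a b ha hb => simp [ha, hb]
      | single k a =>
        rw [ht, MonoidAlgebra.coeff_single]
        by_cases hk : k = 1
        · subst hk; simp [d]
        · have hk' : k.toAdd ≠ 0 := fun h => hk (Multiplicative.toAdd.injective h)
          rw [Finsupp.single_eq_of_ne (Ne.symm hk)]
          show a * (if k.toAdd = 0 then 1 else 0) = 0
          rw [if_neg hk', mul_zero]
    intro a
    exact ⟨r₀ a, by rw [← RingHom.comp_apply, ← h2, RingHom.comp_apply, h3]⟩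
  have hco : ∀ a k, Δ ((Δ a).coeff k) = MonoidAlgebra.single k ((Δ a).coeff k) := by
    let B := MonoidAlgebra A (Multiplicative K)
    let str₁ := (Q K str).hom
    let D₀ : Multiplicative K →* MonoidAlgebra B (Multiplicative K) :=
      { toFun := fun k => MonoidAlgebra.single k (MonoidAlgebra.single k 1)
        map_one' := rfl
        map_mul' := fun a b => by
          rw [MonoidAlgebra.single_mul_single, MonoidAlgebra.single_mul_single, _root_.mul_one] }
    let D : B →+* MonoidAlgebra B (Multiplicative K) := MonoidAlgebra.liftNCRingHom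
      ((MonoidAlgebra.singleOneRingHom).comp MonoidAlgebra.singleOneRingHom) D₀ fun _ _ => Commute.all _ _
    have hD : ∀ k a, D (MonoidAlgebra.single k a) = MonoidAlgebra.single k (MonoidAlgebra.single k a) := fun k a => by
      refine (MonoidAlgebra.liftNCRingHom_single _ _ _ _ _).trans ?_
      show MonoidAlgebra.single 1 (MonoidAlgebra.single 1 a) * MonoidAlgebra.single k (MonoidAlgebra.single k 1) = _
      rw [MonoidAlgebra.single_mul_single, MonoidAlgebra.single_mul_single, _root_.one_mul, _root_.mul_one]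
    have hD1 : D.comp MonoidAlgebra.singleOneRingHom =
        (MonoidAlgebra.singleOneRingHom).comp MonoidAlgebra.singleOneRingHom := RingHom.ext fun a => hD 1 a
    have hDs : Spec.map (CommRingCat.ofHom D) ≫ (Q K str).hom = (Q K str₁).hom := by
      show Spec.map _ ≫ Spec.map _ ≫ str = Spec.map _ ≫ Spec.map _ ≫ str
      rw [← Spec.map_comp_assoc, ← Spec.map_comp_assoc, ← CommRingCat.ofHom_comp, ← CommRingCat.ofHom_comp, hD1]
    have hφ : Spec.map (CommRingCat.ofHom Δ) ≫ str = str₁ := by rw [hΔ]; exact Over.w φ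
    have hφ' : (hm Δ hφ : Q K str ⟶ W str) = φ := Over.OverMorphism.ext hΔ
    have h1 : (hm (MonoidAlgebra.mapRingHom (Multiplicative K) Δ) (qmap_aux Δ hφ) : Q K str₁ ⟶ Q K str) ≫ φ =
        (hm D hDs : Q K str₁ ⟶ Q K str) ≫ φ := by
      show _ ≫ jQ str ≫ act.act = _ ≫ jQ str ≫ act.act
      rw [← Category.assoc, ← jQ_whiskerLeft Δ hφ, Category.assoc, hφ', jQ, lift_whiskerLeft_assoc]
      show lift _ (qpr str₁ ≫ lift (qg str) (qpr str) ≫ act.act) ≫ _ = _
      rw [comp_lift_assoc, ← act.lift_mul_act, jQ, comp_lift_assoc]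
      congr 2
      · refine chiR_injective (MonoidHom.ext fun k => ?_)
        rw [chiR_mul, chiR_comp, chiR_comp, chiR_qg, chiR_qg]
        show MonoidAlgebra.single k 1 * MonoidAlgebra.single 1 (MonoidAlgebra.single k 1) = D (MonoidAlgebra.single k 1)
        rw [hD, MonoidAlgebra.single_mul_single, _root_.mul_one, _root_.one_mul]
      · rw [hm_comp, hm_comp]
        exact hm_congr hD1.symm _ _
    have h2 : (MonoidAlgebra.mapRingHom (Multiplicative K) Δ).comp Δ = D.comp Δ := by
      refine ext' ?_
      rw [CommRingCat.ofHom_comp, CommRingCat.ofHom_comp, Spec.map_comp, Spec.map_comp, hΔ]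
      exact congrArg Over.Hom.left h1
    intro a k
    have h3 := congrArg (fun z : MonoidAlgebra B (Multiplicative K) => z.coeff k) (RingHom.congr_fun h2 a)
    simp only [RingHom.comp_apply, MonoidAlgebra.coeff_mapRingHom] at h3
    rw [h3]
    have hDc : ∀ z, (D z).coeff k = MonoidAlgebra.single k (z.coeff k) := fun z => by
      induction z using MonoidAlgebra.induction_linear with
      | zero => simp
      | add x y hx hy =>
        rw [map_add, MonoidAlgebra.coeff_add, MonoidAlgebra.coeff_add, Finsupp.add_apply, Finsupp.add_apply, hx, hy,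
          MonoidAlgebra.single_add]
      | single j c =>
        rw [hD, MonoidAlgebra.coeff_single, MonoidAlgebra.coeff_single]
        by_cases hj : j = k
        · subst hj; simp
        · simp [Finsupp.single_eq_of_ne (Ne.symm hj)]
    exact hDc _
  exact CoactGrade.exists_symm hsharp Δ (RingHom.congr_fun hR) hsum hco h0 hinj

end Groth.Agent.MiscTwoH99.CoactSpec
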