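import Groth.Agent.MiscTwoH99.AttrVB
import Groth.Agent.MiscTwoH99.CoactSpec
import Groth.Agent.H28.FaceThick

/-! The contraction of an attractor to the attractor of its unit face, and the lines along which it moves points. -/

universe u

open CategoryTheory MonoidalCategory CartesianMonoidalCategory AlgebraicGeometry Opposite Magnet
open scoped MonObj

namespace Groth.Agent.MiscTwoH99.AttrContract

open H23.CharPts

attribute [-instance] ULift.smulLeft

variable {S : Scheme.{u}} {M : Type} [AddCommGroup M] {X : Over S} (a : MonAct (AMonS S M) X) {N : AddSubmonoid M}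
  {K : Type} [AddCommMonoid K] [DecidableEq K] (q : ↥N →+ K) {ZN Z0 : Over S}

/-- A weight vanishing exactly on the unit face contracts the attractor. -/
theorem exists_contract (hq : ∀ n : N, q n = 0 ↔ (n : M) ∈ unitFace N) (eN : (attr a N).RepresentableBy ZN)
    (e0 : (attr a (unitFace N)).RepresentableBy Z0) (j : ZN ⟶ Z0) (hj : ∀ (T : Over S) (z : T ⟶ ZN),
      e0.homEquiv (z ≫ j) = (attrFace a (isFace_unitFace N)).app (op T) (eN.homEquiv z)) :
    ∃ (act : MonAct (AMonS S K) ZN) (σ : Z0 ⟶ ZN), σ ≫ j = 𝟙 _ ∧ act.act ≫ j = snd _ _ ≫ j ∧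
      ∀ {T : Over S} (g : T ⟶ AMonS S K),
        (∀ k : K, chi g (Multiplicative.ofAdd k) = if k = 0 then 1 else 0) → ∀ w : T ⟶ ZN,
          lift g w ≫ act.act = w ≫ j ≫ σ := by
  obtain ⟨act, hact⟩ := AttrVB.exists_act a N q eN
  have hF := isFace_unitFace N
  -- the projection is invariant
  have hjact : act.act ≫ j = snd _ _ ≫ j := by
    refine hom_ext_lift₂ fun T g z => e0.homEquiv.injective (Subtype.ext ?_)
    rw [← Category.assoc, ← Category.assoc, lift_snd, hj, hj, attrFace_app_coe, attrFace_app_coe, hact,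
      ← Category.assoc]
    congr 1
    refine hom_ext_lift₂ fun T' b t => ?_
    rw [← Category.assoc, lift_whiskerRight, AttrVB.lift_mult]
    congr 1
    refine chi_injective (MonoidHom.ext fun n => ?_)
    obtain ⟨n, rfl⟩ := Multiplicative.ofAdd.surjective n
    rw [chi_mul]
    by_cases hn : (n : M) ∈ unitFace N
    · rw [← Category.assoc t g, chi_map, show AddMonoidHom.toMultiplicative q (Multiplicative.ofAdd n) = 1 from
        congrArg Multiplicative.ofAdd ((hq n).mpr hn), map_one, _root_.mul_one]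
    · rw [H28.FaceThick.chi_face_notMem _ _ _ n hn, zero_mul]
  -- the section
  let σ : Z0 ⟶ ZN := eN.homEquiv.symm ((attrMap a (unitFace_le N)).app (op Z0) (e0.homEquiv (𝟙 Z0)))
  have hσv : ∀ {T : Over S} (w : T ⟶ Z0),
      eN.homEquiv (w ≫ σ) = (attrMap a (unitFace_le N)).app (op T) (e0.homEquiv w) := fun {T} w =>
    AttrVB.homEquiv_comp_lift e0 eN (attrMap a (unitFace_le N)) w
  have hσj : σ ≫ j = 𝟙 _ := e0.homEquiv.injective (by
    have h := hσv (𝟙 Z0)
    rw [Category.id_comp] at h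
    rw [hj Z0 σ, h]
    exact ConcreteCategory.congr_hom (congrArg (fun t => t.app (op Z0)) (attrMap_comp_attrFace a hF)) _)
  -- multiplication by zero
  have hzero : ∀ {T : Over S} (g : T ⟶ AMonS S K)
      (hg : ∀ k : K, chi g (Multiplicative.ofAdd k) = if k = 0 then 1 else 0) (w : T ⟶ ZN),
      lift g w ≫ act.act = w ≫ j ≫ σ := by
    intro T g hg w
    refine eN.homEquiv.injective (Subtype.ext ?_)
    rw [hact, ← Category.assoc w j σ, hσv, hj]
    show AttrVB.mult N q g ≫ (eN.homEquiv w).1 = (AMonS.map S (AddSubmonoid.inclusion (unitFace_le N)) ▷ T) ≫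
      (AMonS.faceMap S hF ▷ T) ≫ (eN.homEquiv w).1
    rw [← Category.assoc]
    congr 1
    refine hom_ext_lift₂ fun T' b t => ?_
    rw [← Category.assoc, lift_whiskerRight, lift_whiskerRight, AttrVB.lift_mult]
    congr 1
    refine chi_injective (MonoidHom.ext fun n => ?_)
    obtain ⟨n, rfl⟩ := Multiplicative.ofAdd.surjective n
    rw [chi_mul, ← Category.assoc t g, chi_map, chi_comp t g]
    by_cases hn : (n : M) ∈ unitFace N
    · rw [H28.FaceThick.chi_face_mem _ _ _ n hn, chi_map]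
      show _ * t.left.appTop (chi g (Multiplicative.ofAdd (q n))) = chi b (Multiplicative.ofAdd n)
      rw [hg, if_pos ((hq n).mpr hn), map_one, _root_.mul_one]
    · rw [H28.FaceThick.chi_face_notMem _ _ _ n hn]
      show _ * t.left.appTop (chi g (Multiplicative.ofAdd (q n))) = 0
      rw [hg, if_neg (fun h => hn ((hq n).mp h)), map_zero, mul_zero]
  exact ⟨act, σ, hσj, hjact, fun {T} g hg w => hzero g hg w⟩

/-- The line through a field valued point, joining it to its limit. -/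
theorem exists_line {Z : Over S} (act : MonAct (AMonS S ℕ) Z) (ρ : Z ⟶ Z) {Y : Over S} (j : Z ⟶ Y)
    (hjact : act.act ≫ j = snd _ _ ≫ j)
    (hzero : ∀ {T : Over S} (g : T ⟶ AMonS S ℕ),
      (∀ k : ℕ, chi g (Multiplicative.ofAdd k) = if k = 0 then 1 else 0) → ∀ w : T ⟶ Z,
        lift g w ≫ act.act = w ≫ ρ)
    {L : Type u} [Field L] (str : Spec (CommRingCat.of L) ⟶ S) (w : MagAvg.W str ⟶ Z) :
    ∃ (C : Over S) (π : C ⟶ MagAvg.W str) (h : C ⟶ Z) (s₁ s₀ : MagAvg.W str ⟶ C), PreconnectedSpace C.left ∧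
      h ≫ j = π ≫ w ≫ j ∧ s₁ ≫ π = 𝟙 _ ∧ s₀ ≫ π = 𝟙 _ ∧ s₁ ≫ h = w ∧ s₀ ≫ h = w ≫ ρ := by
  let h : MagAvg.Q ℕ str ⟶ Z := MagAvg.jQ str ≫ (AMonS S ℕ ◁ w) ≫ act.act
  have pts : ∀ χ : Multiplicative ℕ →* L, ∃ (s : MagAvg.W str ⟶ MagAvg.Q ℕ str) (g : MagAvg.W str ⟶ AMonS S ℕ),
      s ≫ MagAvg.qpr str = 𝟙 _ ∧ MagAvg.chiR g = χ ∧ s ≫ h = lift g w ≫ act.act := fun χ => by
    let t : MonoidAlgebra L (Multiplicative ℕ) →+* L :=
      MonoidAlgebra.liftNCRingHom (RingHom.id L) χ fun _ _ => Commute.all _ _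
    have ht : ∀ k c, t (MonoidAlgebra.single k c) = c * χ k := fun k c => MonoidAlgebra.liftNCRingHom_single _ _ _ _ _
    have ht1 : t.comp MonoidAlgebra.singleOneRingHom = RingHom.id L := RingHom.ext fun c => by
      show t (MonoidAlgebra.single 1 c) = c
      rw [ht, map_one, _root_.mul_one]
    let s : MagAvg.W str ⟶ MagAvg.Q ℕ str := MagAvg.hm t (by
      rw [← Spec.map_comp_assoc, ← CommRingCat.ofHom_comp, ht1]
      exact (congrArg (· ≫ str) (Spec.map_id _)).trans (Category.id_comp _))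
    have hs : s ≫ MagAvg.qpr str = 𝟙 _ := by
      refine Over.OverMorphism.ext ?_
      show Spec.map _ ≫ Spec.map _ = 𝟙 _
      rw [← Spec.map_comp, ← CommRingCat.ofHom_comp, ht1]
      exact Spec.map_id _
    refine ⟨s, s ≫ MagAvg.qg str, hs, MonoidHom.ext fun k => ?_, ?_⟩
    · rw [MagAvg.chiR_comp, MagAvg.chiR_qg, MonoidAlgebra.of_apply, ht, _root_.one_mul]
    · show s ≫ MagAvg.jQ str ≫ (AMonS S ℕ ◁ w) ≫ act.act = _
      rw [MagAvg.jQ, lift_whiskerLeft_assoc, comp_lift_assoc, ← Category.assoc s (MagAvg.qpr str), hs, Category.id_comp]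
  obtain ⟨s₁, g₁, hs₁, hg₁, hw₁⟩ := pts 1
  obtain ⟨s₀, g₀, hs₀, hg₀, hw₀⟩ := pts
    { toFun := fun k => if k.toAdd = 0 then 1 else 0
      map_one' := if_pos rfl
      map_mul' := fun a b => by
        by_cases ha : a.toAdd = 0
        · rw [if_pos ha, _root_.one_mul]
          simp [ha]
        · rw [if_neg ha, zero_mul, if_neg]
          simp [ha] }
  have hinj : Function.Injective (Scheme.ΓSpecIso (CommRingCat.of L)).hom :=
    (ConcreteCategory.bijective_of_isIso (Scheme.ΓSpecIso (CommRingCat.of L)).hom).1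
  haveI : IsDomain (MonoidAlgebra L (Multiplicative ℕ)) := NoZeroDivisors.to_isDomain _
  haveI : IrreducibleSpace (PrimeSpectrum (MonoidAlgebra L (Multiplicative ℕ))) := PrimeSpectrum.irreducibleSpace
  refine ⟨MagAvg.Q ℕ str, MagAvg.qpr str, h, s₁, s₀,
    (⟨(IrreducibleSpace.isIrreducible_univ _).2.isPreconnected⟩ :
      PreconnectedSpace (PrimeSpectrum (MonoidAlgebra L (Multiplicative ℕ)))), ?_, hs₁, hs₀, ?_, ?_⟩
  · show (MagAvg.jQ str ≫ (AMonS S ℕ ◁ w) ≫ act.act) ≫ j = _
    rw [Category.assoc, Category.assoc, hjact, whiskerLeft_snd_assoc, MagAvg.jQ, lift_snd_assoc]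
  · rw [hw₁, show g₁ = 1 from MagAvg.chiR_injective (hg₁.trans (MonoidHom.ext fun k => ?_).symm), act.lift_one_act]
    show (Scheme.ΓSpecIso (CommRingCat.of L)).hom (chi (1 : MagAvg.W str ⟶ AMonS S ℕ) k) = 1
    rw [CoactSpec.chi_one, map_one]
  · rw [hw₀]
    refine hzero g₀ (fun k => hinj ?_) w
    refine (DFunLike.congr_fun hg₀ (Multiplicative.ofAdd k)).trans ?_
    show (if k = 0 then (1 : L) else 0) = _
    by_cases hk : k = 0
    · rw [if_pos hk, if_pos hk, map_one]
    · rw [if_neg hk, if_neg hk, map_zero]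

end Groth.Agent.MiscTwoH99.AttrContract
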