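import Groth.Agent.MiscTwoH99.LfpRep
import Groth.Agent.AlgSpPts.Sep
import Groth.Prelude.Def_Magnet4

/-! Representing schemes of attractors of a scheme locally of finite presentation. -/

universe u

open CategoryTheory CategoryTheory.Limits MonoidalCategory CartesianMonoidalCategory MonObj AlgebraicGeometry
open Magnet Opposite

namespace Groth.Agent.MiscTwoH99.AttrLfp

variable {S : Scheme.{u}} {A B : Over S} [MonObj A] [IsAffineHom A.hom] [IsAffineHom B.hom]

/-- A representing scheme of equivariant maps into a scheme locally of finite presentation is so. -/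
theorem lfp_representing (ρ : MonAct A B) {X : Over S} [LocallyOfFinitePresentation X.hom] (a : MonAct A X) {Z : Over S}
    (e : (MonAct.eqvHom ρ a).RepresentableBy Z) : LocallyOfFinitePresentation Z.hom := by
  let b := MonAct.trivial A (𝟙_ (Over S))
  have hb : ∀ T : Over S, MonAct.IsEquivariant (ρ.prod (MonAct.trivial A T)) b (toUnit _) := fun T => toUnit_unique _ _
  have h1 : ∀ (T : Over S) (φ φ' : (MonAct.eqvHom ρ b).obj (op T)), φ = φ' := fun T φ φ' => Subtype.ext (toUnit_unique _ _)
  let e1 : (MonAct.eqvHom ρ b).RepresentableBy (𝟙_ (Over S)) :=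
    { homEquiv := fun {T} =>
        { toFun := fun _ => ⟨toUnit _, hb T⟩
          invFun := fun _ => toUnit _
          left_inv := fun _ => toUnit_unique _ _
          right_inv := fun _ => h1 _ _ _ }
      homEquiv_comp := fun _ _ => h1 _ _ _ }
  haveI : LocallyOfFinitePresentation (toUnit X).left := inferInstanceAs (LocallyOfFinitePresentation X.hom)
  exact LfpRep.lfp_of_postcomp ρ a b (toUnit X) (toUnit_unique _ _) e e1 (toUnit Z) fun T z => h1 _ _ _

theorem lfp_between {ZN ZF : Over S} (j : ZN ⟶ ZF) [LocallyOfFinitePresentation ZN.hom]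
    [LocallyOfFinitePresentation ZF.hom] : LocallyOfFinitePresentation j.left := by
  haveI : LocallyOfFinitePresentation (j.left ≫ ZF.hom) := by rw [Over.w j]; infer_instance
  exact AlgSpPts.locallyOfFinitePresentation_of_comp j.left ZF.hom

end Groth.Agent.MiscTwoH99.AttrLfp
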