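import Groth.Agent.H28.StableFace
import Groth.Agent.S18295
import Groth.Prelude.Def_Magnet4

/-! Attractors of stable opens which are affine over the base, and the action of `A(K)` on an attractor. -/

universe u

open CategoryTheory CategoryTheory.Limits MonoidalCategory CartesianMonoidalCategory MonObj AlgebraicGeometry
open Opposite Magnet

namespace Groth.Agent.MiscTwoH99.AttrVB

open H23.CharPts H23.AttrComapGrp

variable {S : Scheme.{u}}

universe v w

/-- Naturality at the universal element of a representable functor. -/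
theorem map_app_universal {C : Type w} [Category.{v} C] {F G : Cᵒᵖ ⥤ Type v} {Z : C} (e : F.RepresentableBy Z)
    (τ : F ⟶ G) {T : C} (z : T ⟶ Z) :
    G.map z.op (τ.app (op Z) (e.homEquiv (𝟙 Z))) = τ.app (op T) (e.homEquiv z) := by
  conv_rhs => rw [← Category.comp_id z, e.homEquiv_comp]
  exact (ConcreteCategory.congr_hom (τ.naturality z.op) (e.homEquiv (𝟙 Z))).symm

/-- The morphism of representing objects attached to a natural transformation. -/
theorem homEquiv_comp_lift {C : Type w} [Category.{v} C] {F G : Cᵒᵖ ⥤ Type v} {Y Z : C} (e : F.RepresentableBy Y)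
    (e' : G.RepresentableBy Z) (τ : F ⟶ G) {T : C} (z : T ⟶ Y) :
    e'.homEquiv (z ≫ e'.homEquiv.symm (τ.app (op Y) (e.homEquiv (𝟙 Y)))) = τ.app (op T) (e.homEquiv z) := by
  rw [e'.homEquiv_comp, Equiv.apply_symm_apply, map_app_universal]

/-- Points evaluated at a point of the monoid. -/
theorem comp_eval {A B X : Over S} [MonObj A] {ρ : MonAct A B} {a : MonAct A X} {Z : Over S}
    (eZ : (MonAct.eqvHom ρ a).RepresentableBy Z) (e : 𝟙_ (Over S) ⟶ B) {T : Over S} (z : T ⟶ Z) :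
    z ≫ (MonAct.eqvHom.evalAt ρ a e).app (op Z) (eZ.homEquiv (𝟙 Z)) =
      (MonAct.eqvHom.evalAt ρ a e).app (op T) (eZ.homEquiv z) :=
  map_app_universal eZ (MonAct.eqvHom.evalAt ρ a e) z

variable {M : Type} [AddCommGroup M] {X : Over S} (a : MonAct (AMonS S M) X)

/-- A stable open, with its action. -/
theorem exists_open_act (V : X.left.Opens)
    (hV : (snd (AMonS S M) X).left ⁻¹ᵁ V ≤ a.act.left ⁻¹ᵁ V) :
    ∃ aU : MonAct (AMonS S M) (Over.mk (V.ι ≫ X.hom) : Over S),
      MonAct.IsEquivariant aU a (Over.homMk V.ι rfl : Over.mk (V.ι ≫ X.hom) ⟶ X) := by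
  let U : Over S := Over.mk (V.ι ≫ X.hom)
  let jV : U ⟶ X := Over.homMk V.ι rfl
  haveI : IsOpenImmersion jV.left := inferInstanceAs (IsOpenImmersion V.ι)
  haveI : Mono jV := (Over.forget S).mono_of_mono_map (inferInstanceAs (Mono jV.left))
  obtain ⟨act, hact⟩ := H28.StableOpen.exists_lift jV ((AMonS S M ◁ jV) ≫ a.act) (by
    rintro _ ⟨w, rfl⟩
    show _ ∈ Set.range V.ι
    rw [Scheme.Opens.range_ι]
    refine hV (show (snd (AMonS S M) X).left ((AMonS S M ◁ jV).left w) ∈ V from ?_)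
    rw [← Scheme.Hom.comp_apply, ← Over.comp_left, whiskerLeft_snd, Over.comp_left, Scheme.Hom.comp_apply]
    exact ((snd (AMonS S M) U).left w).2)
  refine ⟨MonAct.mk' act (fun T x => ?_) (fun T g h x => ?_), hact⟩
  · rw [← cancel_mono jV, Category.assoc, hact, lift_whiskerLeft_assoc, a.lift_one_act]
  · rw [← cancel_mono jV]
    simp only [Category.assoc, hact, lift_whiskerLeft_assoc]
    rw [a.lift_mul_act]

/-- The part of an attractor over a stable open which is affine over the base is affine over the base. -/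
theorem isAffineHom_preimage (V : X.left.Opens) [IsAffineHom (V.ι ≫ X.hom)]
    (hV : (snd (AMonS S M) X).left ⁻¹ᵁ V ≤ a.act.left ⁻¹ᵁ V) (N : AddSubmonoid M)
    {e : 𝟙_ (Over S) ⟶ AMonS S N} (he : H28.StableOpen.StablePt (subAct S M N) e) {Z : Over S}
    (eZ : (attr a N).RepresentableBy Z) (r : Z ⟶ X)
    (hr : r = (MonAct.eqvHom.evalAt (subAct S M N) a e).app (op Z) (eZ.homEquiv (𝟙 Z))) :
    IsAffineHom ((r.left ⁻¹ᵁ V).ι ≫ Z.hom) := by
  obtain ⟨aU, haU⟩ := exists_open_act a V hV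
  let U : Over S := Over.mk (V.ι ≫ X.hom)
  let jV : U ⟶ X := Over.homMk V.ι rfl
  haveI : IsOpenImmersion jV.left := inferInstanceAs (IsOpenImmersion V.ι)
  haveI : IsAffineHom U.hom := ‹IsAffineHom (V.ι ≫ X.hom)›
  haveI : Mono jV := (Over.forget S).mono_of_mono_map (inferInstanceAs (Mono jV.left))
  obtain ⟨ZU, iU, eU, hiU, -⟩ := Groth.Agent.S18295.result S M N U aU
  haveI := hiU
  haveI : IsAffineHom ZU.hom := by
    rw [← Over.w iU]
    infer_instance
  let ps := MonAct.eqvHom.postcomp (subAct S M N) jV haU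
  let k : ZU ⟶ Z := eZ.homEquiv.symm (ps.app (op ZU) (eU.homEquiv (𝟙 ZU)))
  have hk : ∀ {T : Over S} (z : T ⟶ ZU), eZ.homEquiv (z ≫ k) = ps.app (op T) (eU.homEquiv z) :=
    fun {T} z => homEquiv_comp_lift eU eZ ps z
  haveI : Mono k := ⟨fun {T} z z' h => eU.homEquiv.injective (Subtype.ext ((cancel_mono jV).mp
    (congrArg Subtype.val ((hk z).symm.trans ((congrArg eZ.homEquiv h).trans (hk z'))))))⟩
  let O : Z.left.Opens := r.left ⁻¹ᵁ V
  let OO : Over S := Over.mk (O.ι ≫ Z.hom)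
  let jO : OO ⟶ Z := Over.homMk O.ι rfl
  haveI : Mono jO := (Over.forget S).mono_of_mono_map (inferInstanceAs (Mono O.ι))
  obtain ⟨q, hq⟩ := H28.StableOpen.exists_lift jV (jO ≫ r) (by
    rintro _ ⟨w, rfl⟩
    show _ ∈ Set.range V.ι
    rw [Scheme.Opens.range_ι]
    exact w.2)
  obtain ⟨φ, hφ⟩ := H28.StableOpen.exists_factor jV haU he (eZ.homEquiv jO).1 (eZ.homEquiv jO).2 q (by
    rw [hq, hr, comp_eval eZ e jO]
    rfl)
  have hφe : MonAct.IsEquivariant ((subAct S M N).prod (MonAct.trivial (AMonS S M) OO)) aU φ := by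
    unfold MonAct.IsEquivariant
    rw [← cancel_mono jV, Category.assoc, hφ, (eZ.homEquiv jO).2, Category.assoc, haU,
      ← MonoidalCategory.whiskerLeft_comp_assoc, hφ]
  obtain ⟨d, hdv⟩ : ∃ d : OO ⟶ ZU, eU.homEquiv d = ⟨φ, hφe⟩ := ⟨_, Equiv.apply_symm_apply _ _⟩
  have hd : d ≫ k = jO := eZ.homEquiv.injective (by
    rw [hk d, hdv]
    exact Subtype.ext hφ)
  let d' : ZU ⟶ OO := Over.homMk (IsOpenImmersion.lift O.ι k.left (by
    rintro _ ⟨w, rfl⟩
    rw [Scheme.Opens.range_ι]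
    show r.left (k.left w) ∈ V
    have h1 : k ≫ r = (MonAct.eqvHom.evalAt (subAct S M N) aU e).app (op ZU) (eU.homEquiv (𝟙 ZU)) ≫ jV := by
      have h0 := hk (𝟙 ZU)
      rw [Category.id_comp] at h0
      rw [hr, comp_eval eZ e k, h0]
      show lift (toUnit ZU ≫ e) (𝟙 ZU) ≫ ((eU.homEquiv (𝟙 ZU)).1 ≫ jV) =
        (lift (toUnit ZU ≫ e) (𝟙 ZU) ≫ (eU.homEquiv (𝟙 ZU)).1) ≫ jV
      rw [Category.assoc]
    rw [← Scheme.Hom.comp_apply, ← Over.comp_left, h1, Over.comp_left, Scheme.Hom.comp_apply]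
    exact (((MonAct.eqvHom.evalAt (subAct S M N) aU e).app (op ZU) (eU.homEquiv (𝟙 ZU))).left w).2)) (by
      show IsOpenImmersion.lift _ _ _ ≫ O.ι ≫ Z.hom = ZU.hom
      exact (Category.assoc _ _ _).symm.trans
        ((congrArg (· ≫ Z.hom) (IsOpenImmersion.lift_fac _ _ _)).trans (Over.w k)))
  have hd' : d' ≫ jO = k := Over.OverMorphism.ext (IsOpenImmersion.lift_fac _ _ _)
  haveI : IsIso d := ⟨d', (cancel_mono jO).mp (by rw [Category.assoc, hd', hd, Category.id_comp]),
    (cancel_mono k).mp (by rw [Category.assoc, hd, hd', Category.id_comp])⟩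
  haveI : IsIso d.left := inferInstanceAs (IsIso ((Over.forget S).map d))
  show IsAffineHom (O.ι ≫ Z.hom)
  rw [show O.ι ≫ Z.hom = d.left ≫ ZU.hom from (Over.w d).symm]
  infer_instance

variable (N : AddSubmonoid M) {K : Type} [AddCommMonoid K] (q : ↥N →+ K)

/-- Multiplication of a family by a point. -/
noncomputable def mult {T : Over S} (g : T ⟶ AMonS S K) : AMonS S N ⊗ T ⟶ AMonS S N ⊗ T :=
  lift (fst _ _ * (snd _ _ ≫ g ≫ AMonS.map S q)) (snd _ _)

theorem lift_mult {T V : Over S} (g : T ⟶ AMonS S K) (b : V ⟶ AMonS S N) (t : V ⟶ T) :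
    lift b t ≫ mult N q g = lift (b * (t ≫ g ≫ AMonS.map S q)) t := by
  simp [mult, comp_lift, MonObj.comp_mul]

theorem isEquivariant_mult {T : Over S} (g : T ⟶ AMonS S K) (φ : AMonS S N ⊗ T ⟶ X)
    (hφ : MonAct.IsEquivariant ((subAct S M N).prod (MonAct.trivial (AMonS S M) T)) a φ) :
    MonAct.IsEquivariant ((subAct S M N).prod (MonAct.trivial (AMonS S M) T)) a (mult N q g ≫ φ) := by
  rw [MonAct.mem_eqvHom_iff] at hφ ⊢
  intro T' c b t
  simp only [← Category.assoc, lift_mult, ← hφ, subAct_point, _root_.mul_assoc]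

/-- The action of `A(K)` on a representing scheme of the attractor. -/
theorem exists_act {Z : Over S} (eZ : (attr a N).RepresentableBy Z) :
    ∃ act : MonAct (AMonS S K) Z, ∀ {T : Over S} (g : T ⟶ AMonS S K) (z : T ⟶ Z),
      (eZ.homEquiv (lift g z ≫ act.act)).1 = mult N q g ≫ (eZ.homEquiv z).1 := by
  obtain ⟨act, hact⟩ : ∃ act : AMonS S K ⊗ Z ⟶ Z, (eZ.homEquiv act).1 =
      mult N q (fst _ _) ≫ (eZ.homEquiv (snd (AMonS S K) Z)).1 :=
    ⟨eZ.homEquiv.symm ⟨_, isEquivariant_mult a N q (fst _ _) _ (eZ.homEquiv (snd (AMonS S K) Z)).2⟩, congrArg Subtype.val (Equiv.apply_symm_apply _ _)⟩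
  have hf : ∀ {T : Over S} (g : T ⟶ AMonS S K) (z : T ⟶ Z),
      (eZ.homEquiv (lift g z ≫ act)).1 = mult N q g ≫ (eZ.homEquiv z).1 := fun {T} g z => by
    have hz : (eZ.homEquiv z).1 = (AMonS S N ◁ lift g z) ≫ (eZ.homEquiv (snd (AMonS S K) Z)).1 := by
      conv_lhs => rw [← lift_snd g z, eZ.homEquiv_comp]
      rfl
    rw [eZ.homEquiv_comp, hz]
    show (AMonS S N ◁ lift g z) ≫ (eZ.homEquiv act).1 = _
    rw [hact]
    rw [← Category.assoc, ← Category.assoc]
    congr 1
    refine hom_ext_lift₂ fun T' b t => ?_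
    rw [← Category.assoc, ← Category.assoc, lift_whiskerLeft, lift_mult, lift_mult, lift_whiskerLeft,
      Category.assoc t (lift g z), lift_fst_assoc]
  refine ⟨MonAct.mk' act (fun T z => eZ.homEquiv.injective (Subtype.ext ?_))
    (fun T g h z => eZ.homEquiv.injective (Subtype.ext ?_)), fun g z => hf g z⟩
  · rw [hf, show mult N q (1 : T ⟶ AMonS S K) = 𝟙 _ from ?_, Category.id_comp]
    refine hom_ext_lift₂ fun T' b t => ?_
    rw [lift_mult, MonObj.one_comp, MonObj.comp_one, _root_.mul_one, Category.comp_id]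
  · rw [hf, hf, hf, ← Category.assoc]
    congr 1
    refine hom_ext_lift₂ fun T' b t => ?_
    rw [lift_mult, ← Category.assoc (lift b t), lift_mult, lift_mult, MonObj.mul_comp, MonObj.comp_mul, _root_.mul_assoc]

end Groth.Agent.MiscTwoH99.AttrVB
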