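import Groth.Agent.S18239
import Mathlib.Algebra.MonoidAlgebra.MapDomain
import Mathlib.RingTheory.GradedAlgebra.Basic

/-! A smooth algebra with a coaction of a sharp monoid whose invariants are the base is a symmetric algebra. -/

universe u

open DirectSum

namespace Groth.Agent.MiscTwoH99.CoactGrade

/-- Symmetric algebras along a bijection of base rings. -/
theorem exists_symm_of_bijective {R R' P : Type u} [CommRing R] [CommRing R'] [Algebra R R'] [AddCommGroup P]
    [Module R P] [Module R' P] [IsScalarTower R R' P] (h : Function.Bijective (algebraMap R R')) :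
    Nonempty (SymmetricAlgebra R P ≃ₐ[R] SymmetricAlgebra R' P) := by
  let φ : SymmetricAlgebra R P →ₐ[R] SymmetricAlgebra R' P :=
    SymmetricAlgebra.lift ((SymmetricAlgebra.ι R' P).restrictScalars R)
  let e := RingEquiv.ofBijective (algebraMap R R') h
  letI : Algebra R' (SymmetricAlgebra R P) :=
    ((algebraMap R (SymmetricAlgebra R P)).comp e.symm.toRingHom).toAlgebra
  haveI : IsScalarTower R R' (SymmetricAlgebra R P) := IsScalarTower.of_algebraMap_eq fun r => by
    show _ = algebraMap R (SymmetricAlgebra R P) (e.symm (e r))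
    rw [e.symm_apply_apply]
  let ψ₀ : P →ₗ[R'] SymmetricAlgebra R P :=
    { toFun := SymmetricAlgebra.ι R P
      map_add' := map_add _
      map_smul' := fun r p => by
        obtain ⟨r, rfl⟩ := h.2 r
        simp only [algebraMap_smul, map_smul, RingHom.id_apply] }
  let ψ : SymmetricAlgebra R' P →ₐ[R'] SymmetricAlgebra R P := SymmetricAlgebra.lift ψ₀
  refine ⟨AlgEquiv.ofAlgHom φ (ψ.restrictScalars R) (AlgHom.ext fun x => ?_)
    (SymmetricAlgebra.algHom_ext (LinearMap.ext fun p => by simp [φ, ψ, ψ₀]))⟩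
  have hc : ∀ r : R', φ (algebraMap R' (SymmetricAlgebra R P) r) = algebraMap R' (SymmetricAlgebra R' P) r := fun r => by
    obtain ⟨r, rfl⟩ := h.2 r
    rw [← IsScalarTower.algebraMap_apply, AlgHom.commutes, ← IsScalarTower.algebraMap_apply]
  let φ' : SymmetricAlgebra R P →ₐ[R'] SymmetricAlgebra R' P := { φ.toRingHom with commutes' := hc }
  exact AlgHom.congr_fun (show φ'.comp ψ = AlgHom.id R' _ from
    SymmetricAlgebra.algHom_ext (LinearMap.ext fun p => by simp [φ', φ, ψ, ψ₀])) x

variable {R A : Type u} [CommRing R] [CommRing A] [Algebra R A] {K : Type} [AddCommMonoid K]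

/-- The vector bundle attached to a coaction of a fine sharp monoid. -/
theorem exists_symm_fg [IsCancelAdd K] [AddMonoid.FG K] [DecidableEq K] [Algebra.Smooth R A]
    (hsharp : ∀ n : K, IsAddUnit n → n = 0) (Δ : A →+* MonoidAlgebra A (Multiplicative K))
    (hR : ∀ r, Δ (algebraMap R A r) = MonoidAlgebra.single 1 (algebraMap R A r))
    (hsum : ∀ a, ((Δ a).coeff.sum fun _ c => c) = a)
    (hco : ∀ a k, Δ ((Δ a).coeff k) = MonoidAlgebra.single k ((Δ a).coeff k))
    (h0 : ∀ a, (Δ a).coeff 1 ∈ Set.range (algebraMap R A)) (hinj : Function.Injective (algebraMap R A)) :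
    ∃ (P : Type u) (_ : AddCommGroup P) (_ : Module R P), Module.Finite R P ∧ Module.Projective R P ∧
      Nonempty (A ≃ₐ[R] SymmetricAlgebra R P) := by
  let 𝒜 : K → Submodule R A := fun k =>
    { carrier := {a | Δ a = MonoidAlgebra.single (Multiplicative.ofAdd k) a}
      add_mem' := fun {a b} ha hb => by
        show Δ (a + b) = _
        rw [map_add, ha, hb, ← MonoidAlgebra.single_add]
      zero_mem' := by
        show Δ 0 = _
        rw [map_zero, MonoidAlgebra.single_zero]
      smul_mem' := fun r a ha => by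
        show Δ (r • a) = _
        rw [Algebra.smul_def, map_mul, hR, ha, MonoidAlgebra.single_mul_single, _root_.one_mul] }
  have hone : (1 : A) ∈ 𝒜 0 := map_one Δ
  have hmul : ∀ ⦃i j : K⦄ ⦃a b : A⦄, a ∈ 𝒜 i → b ∈ 𝒜 j → a * b ∈ 𝒜 (i + j) := fun i j a b ha hb => by
    show Δ (a * b) = _
    rw [map_mul, show Δ a = _ from ha, show Δ b = _ from hb, MonoidAlgebra.single_mul_single]
    rfl
  haveI : SetLike.GradedMonoid 𝒜 := { one_mem := hone, mul_mem := hmul }
  let pj : K → (A →ₗ[R] A) := fun k =>
    { toFun := fun a => (Δ a).coeff (Multiplicative.ofAdd k)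
      map_add' := fun a b => by simp
      map_smul' := fun r a => by
        simp only [Algebra.smul_def, map_mul, hR, RingHom.id_apply]
        exact MonoidAlgebra.coeff_single_one_mul _ _ _ }
  have hI : DirectSum.IsInternal 𝒜 := by
    rw [DirectSum.isInternal_submodule_iff_iSupIndep_and_iSup_eq_top]
    refine ⟨iSupIndep_def.mpr fun i => Submodule.disjoint_def.mpr fun a ha ha' => ?_, eq_top_iff.mpr fun a _ => ?_⟩
    · have h1 : pj i a = a := by
        show (Δ a).coeff _ = a
        rw [show Δ a = _ from ha, MonoidAlgebra.coeff_single, Finsupp.single_eq_same]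
      rw [← h1]
      refine LinearMap.mem_ker.mp
        ((show (⨆ (j) (_ : j ≠ i), 𝒜 j) ≤ LinearMap.ker (pj i) from iSup₂_le fun j hj b hb => ?_) ha')
      show (Δ b).coeff _ = 0
      rw [show Δ b = _ from hb, MonoidAlgebra.coeff_single, Finsupp.single_eq_of_ne]
      exact fun h => hj (Multiplicative.ofAdd.injective h.symm)
    · rw [← hsum a, Finsupp.sum]
      exact Submodule.sum_mem _ fun k _ => Submodule.mem_iSup_of_mem k.toAdd (hco a k)
  letI : DirectSum.Decomposition 𝒜 := hI.chooseDecomposition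
  letI : GradedAlgebra 𝒜 := GradedRing.mk
  obtain ⟨P, _, _, hfin, hproj, ⟨e⟩⟩ := Groth.Agent.S18239.result R A K hsharp 𝒜
  letI : Module R P := Module.compHom P (algebraMap R (𝒜 0))
  haveI : IsScalarTower R (𝒜 0) P := IsScalarTower.of_algebraMap_smul fun _ _ => rfl
  have hb : Function.Bijective (algebraMap R (𝒜 0)) := by
    refine ⟨fun r s h => hinj (congrArg Subtype.val h), fun x => ?_⟩
    obtain ⟨r, hr⟩ := h0 x.1
    refine ⟨r, Subtype.ext (hr.trans ?_)⟩
    rw [show Δ x.1 = _ from x.2, MonoidAlgebra.coeff_single]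
    exact Finsupp.single_eq_same
  haveI : Module.Finite R (𝒜 0) := Module.Finite.of_surjective (Algebra.linearMap R (𝒜 0)) hb.2
  haveI : Module.Projective R (𝒜 0) :=
    Module.Projective.of_equiv (LinearEquiv.ofBijective (Algebra.linearMap R (𝒜 0)) hb)
  haveI := hfin
  haveI := hproj
  have hP : Module.Projective R P := by
    obtain ⟨σ, hσ⟩ := Module.projective_def'.mp hproj
    haveI : Module.Projective R (P →₀ 𝒜 0) := Module.Projective.of_equiv
      (Finsupp.mapRange.linearEquiv (α := P) (LinearEquiv.ofBijective (Algebra.linearMap R (𝒜 0)) hb))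
    exact Module.Projective.of_split (σ.restrictScalars R)
      ((Finsupp.linearCombination (𝒜 0) (id : P → P)).restrictScalars R)
      (LinearMap.ext fun x => LinearMap.congr_fun hσ x)
  refine ⟨P, inferInstance, inferInstance, Module.Finite.trans (𝒜 0) P, hP, ?_⟩
  obtain ⟨e'⟩ := exists_symm_of_bijective (P := P) hb
  exact ⟨(e.restrictScalars R).trans e'.symm⟩

/-- The vector bundle attached to a coaction of a sharp monoid. -/
theorem exists_symm [IsCancelAdd K] [Algebra.Smooth R A] (hsharp : ∀ n : K, IsAddUnit n → n = 0)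
    (Δ : A →+* MonoidAlgebra A (Multiplicative K))
    (hR : ∀ r, Δ (algebraMap R A r) = MonoidAlgebra.single 1 (algebraMap R A r))
    (hsum : ∀ a, ((Δ a).coeff.sum fun _ c => c) = a)
    (hco : ∀ a k, Δ ((Δ a).coeff k) = MonoidAlgebra.single k ((Δ a).coeff k))
    (h0 : ∀ a, (Δ a).coeff 1 ∈ Set.range (algebraMap R A)) (hinj : Function.Injective (algebraMap R A)) :
    ∃ (P : Type u) (_ : AddCommGroup P) (_ : Module R P), Module.Finite R P ∧ Module.Projective R P ∧
      Nonempty (A ≃ₐ[R] SymmetricAlgebra R P) := by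
  classical
  obtain ⟨G, hG⟩ := (inferInstance : Algebra.FiniteType R A).out
  let s : Finset K := (G.biUnion fun g => (Δ g).coeff.support).image Multiplicative.toAdd
  let K' : AddSubmonoid K := AddSubmonoid.closure (s : Set K)
  haveI : AddMonoid.FG K' := (AddMonoid.fg_iff_addSubmonoid_fg _).mpr ⟨s, rfl⟩
  let φ : Multiplicative K' →* Multiplicative K := AddMonoidHom.toMultiplicative K'.subtype
  have hφ : Function.Injective φ := fun a b h =>
    Multiplicative.toAdd.injective (Subtype.val_injective (congrArg Multiplicative.toAdd h))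
  let inc : MonoidAlgebra A (Multiplicative K') →+* MonoidAlgebra A (Multiplicative K) :=
    MonoidAlgebra.mapDomainRingHom A φ
  have hinc : Function.Injective inc := MonoidAlgebra.mapDomain_injective hφ
  have hrange : ∀ a, ∃ y, inc y = Δ a := fun a => by
    have ha : a ∈ Algebra.adjoin R (G : Set A) := hG ▸ trivial
    induction ha using Algebra.adjoin_induction with
    | mem x hx =>
      rw [← MonoidAlgebra.sum_coeff_single (Δ x), Finsupp.sum]
      refine ⟨∑ k ∈ (Δ x).coeff.support, if hk : k.toAdd ∈ K' then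
        MonoidAlgebra.single (Multiplicative.ofAdd (⟨k.toAdd, hk⟩ : K')) ((Δ x).coeff k) else 0, ?_⟩
      rw [map_sum]
      refine Finset.sum_congr rfl fun k hk => ?_
      have hk' : k.toAdd ∈ K' := AddSubmonoid.subset_closure
        (Finset.mem_image_of_mem _ (Finset.mem_biUnion (t := fun g => (Δ g).coeff.support).mpr ⟨x, hx, hk⟩))
      rw [dif_pos hk', MonoidAlgebra.mapDomainRingHom_apply, MonoidAlgebra.mapDomain_single]
      rfl
    | algebraMap r =>
      refine ⟨MonoidAlgebra.single 1 (algebraMap R A r), ?_⟩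
      rw [hR, MonoidAlgebra.mapDomainRingHom_apply, MonoidAlgebra.mapDomain_single, map_one]
    | add x y _ _ hx hy =>
      obtain ⟨x', hx⟩ := hx
      obtain ⟨y', hy⟩ := hy
      exact ⟨x' + y', by rw [map_add, hx, hy, map_add]⟩
    | mul x y _ _ hx hy =>
      obtain ⟨x', hx⟩ := hx
      obtain ⟨y', hy⟩ := hy
      exact ⟨x' * y', by rw [map_mul, hx, hy, map_mul]⟩
  choose Δ₀ hΔ₀ using hrange
  let Δ' : A →+* MonoidAlgebra A (Multiplicative K') :=
    { toFun := Δ₀
      map_one' := hinc (by rw [hΔ₀, map_one, map_one])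
      map_mul' := fun a b => hinc (by rw [hΔ₀, map_mul, map_mul, hΔ₀, hΔ₀])
      map_zero' := hinc (by rw [hΔ₀, map_zero, map_zero])
      map_add' := fun a b => hinc (by rw [hΔ₀, map_add, map_add, hΔ₀, hΔ₀]) }
  have hcoeff : ∀ a k, (Δ' a).coeff k = (Δ a).coeff (φ k) := fun a k => by
    rw [← hΔ₀ a]
    exact (Finsupp.mapDomain_apply hφ _ k).symm
  have hsingle : ∀ k a, inc (MonoidAlgebra.single k a) = MonoidAlgebra.single (φ k) a := fun k a => by
    rw [MonoidAlgebra.mapDomainRingHom_apply, MonoidAlgebra.mapDomain_single]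
  refine exists_symm_fg (K := K') (fun n hn => Subtype.ext (hsharp n (hn.map K'.subtype))) Δ'
    (fun r => hinc (by rw [hsingle, map_one]; exact (hΔ₀ _).trans (hR r))) (fun a => ?_)
    (fun a k => hinc (by rw [hsingle, hcoeff]; exact (hΔ₀ _).trans (hco a (φ k)))) (fun a => ?_) hinj
  · refine Eq.trans ?_ (hsum a)
    conv_rhs => rw [← hΔ₀ a]
    exact (Finsupp.sum_mapDomain_index_inj (h := fun (_ : Multiplicative K) (c : A) => c) hφ).symm
  · rw [hcoeff, map_one]
    exact h0 a

end Groth.Agent.MiscTwoH99.CoactGrade
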