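import Mathlib.RingTheory.Ideal.KrullsHeightTheorem
import Mathlib.RingTheory.Flat.Localization
import Mathlib.RingTheory.TensorProduct.Free
import Mathlib.RingTheory.LocalRing.Module
import Mathlib.RingTheory.Localization.Module
import Mathlib.RingTheory.LocalProperties.Exactness
import Mathlib.LinearAlgebra.Determinant
import Mathlib.AlgebraicGeometry.Morphisms.Finite
import Mathlib.AlgebraicGeometry.Morphisms.Flat
import Mathlib.AlgebraicGeometry.ResidueField
import Mathlib.AlgebraicGeometry.Noetherian

/-!
# Morphisms of finite flat schemes which are isomorphisms over codimension at most one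
-/

universe u

open CategoryTheory AlgebraicGeometry TensorProduct CategoryTheory.Limits

namespace Groth.Agent.MiscTwoH99

/-- Local case: a map of finite free modules bijective at all residue fields of primes of height at
most one is bijective. -/
lemma bijective_of_heightOne_local {A : Type u} [CommRing A] [IsNoetherianRing A] [IsLocalRing A]
    {M N : Type u} [AddCommGroup M] [Module A M] [Module.Finite A M] [Module.Free A M]
    [AddCommGroup N] [Module A N] [Module.Finite A N] [Module.Free A N] (φ : M →ₗ[A] N)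
    (h : ∀ (K : Type u) [Field K] [Algebra A K],
      (RingHom.ker (algebraMap A K)).height ≤ 1 → Function.Bijective (φ.baseChange K)) :
    Function.Bijective φ := by
  have hmin : ∀ q : Ideal A, ∀ _ : q.IsPrime, q.height ≤ 1 →
      Function.Bijective (φ.baseChange q.ResidueField) := fun q _ hq =>
    h q.ResidueField (by rwa [Ideal.ker_algebraMap_residueField])
  obtain ⟨q₀, hq₀⟩ := Ideal.nonempty_minimalPrimes (I := (⊥ : Ideal A)) bot_ne_top
  haveI := hq₀.1.1
  have hrank : Module.finrank A M = Module.finrank A N := by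
    rw [← Module.finrank_baseChange (R := q₀.ResidueField) (S := A) (M' := M),
      ← Module.finrank_baseChange (R := q₀.ResidueField) (S := A) (M' := N)]
    refine (LinearEquiv.ofBijective _ (hmin q₀ inferInstance ?_)).finrank_eq
    rw [Ideal.height_eq_zero_iff.2 hq₀]
    exact zero_le_one
  let e : M ≃ₗ[A] N := LinearEquiv.ofFinrankEq M N hrank
  let g : M →ₗ[A] M := e.symm.toLinearMap ∘ₗ φ
  suffices hu : IsUnit (LinearMap.det g) by
    have hg : Function.Bijective g :=
      (Module.End.isUnit_iff g).1 ((LinearMap.isUnit_iff_isUnit_det g).2 hu)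
    have : (φ : M → N) = e ∘ g := funext fun m => (e.apply_symm_apply (φ m)).symm
    rw [this]
    exact e.bijective.comp hg
  by_contra hu
  obtain ⟨q, hq⟩ := Ideal.nonempty_minimalPrimes (I := Ideal.span {LinearMap.det g})
    (mt Ideal.span_singleton_eq_top.1 hu)
  haveI := hq.1.1
  have hq1 : q.height ≤ 1 := by
    refine Ideal.height_le_one_of_isPrincipal_of_mem_minimalPrimes (Ideal.span {LinearMap.det g}) q hq
  have hb := hmin q inferInstance hq1
  have hgb : Function.Bijective (g.baseChange q.ResidueField) := by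
    have e' := e.symm.baseChange A q.ResidueField _ _
    have : g.baseChange q.ResidueField =
        (e.symm.toLinearMap.baseChange q.ResidueField) ∘ₗ φ.baseChange q.ResidueField :=
      LinearMap.baseChange_comp (A := q.ResidueField) φ e.symm.toLinearMap
    rw [this]
    exact (e.symm.baseChange A q.ResidueField _ _).bijective.comp hb
  have hd := (LinearMap.isUnit_iff_isUnit_det _).1 ((Module.End.isUnit_iff _).2 hgb)
  rw [LinearMap.det_baseChange] at hd
  refine hd.ne_zero ?_
  rw [← RingHom.mem_ker, Ideal.ker_algebraMap_residueField]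
  exact hq.1.2 (Ideal.mem_span_singleton_self _)

/-- A map of finite flat modules over a Noetherian ring, bijective at all residue fields of primes of
height at most one, is bijective. -/
theorem bijective_of_heightOne {A : Type u} [CommRing A] [IsNoetherianRing A]
    {M N : Type u} [AddCommGroup M] [Module A M] [Module.Finite A M] [Module.Flat A M]
    [AddCommGroup N] [Module A N] [Module.Finite A N] [Module.Flat A N] (φ : M →ₗ[A] N)
    (h : ∀ (K : Type u) [Field K] [Algebra A K],
      (RingHom.ker (algebraMap A K)).height ≤ 1 → Function.Bijective (φ.baseChange K)) :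
    Function.Bijective φ := by
  refine bijective_of_localized_maximal φ fun m hm => ?_
  let L := Localization.AtPrime m
  have hL : Function.Bijective (φ.baseChange L) := by
    haveI : Module.Free L (L ⊗[A] M) := Module.free_of_flat_of_isLocalRing
    haveI : Module.Free L (L ⊗[A] N) := Module.free_of_flat_of_isLocalRing
    refine bijective_of_heightOne_local (φ.baseChange L) fun K _ _ hK => ?_
    letI : Algebra A K := ((algebraMap L K).comp (algebraMap A L)).toAlgebra
    haveI : IsScalarTower A L K := .of_algebraMap_eq fun _ => rfl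
    have hk : (RingHom.ker (algebraMap A K)).height ≤ 1 := by
      have : RingHom.ker (algebraMap A K) = (RingHom.ker (algebraMap L K)).under A := rfl
      rw [this, IsLocalization.height_under m.primeCompl]
      exact hK
    let eM := TensorProduct.AlgebraTensorModule.cancelBaseChange A L K K M
    let eN := TensorProduct.AlgebraTensorModule.cancelBaseChange A L K K N
    have key : (φ.baseChange K) ∘ₗ eM.toLinearMap = eN.toLinearMap ∘ₗ (φ.baseChange L).baseChange K := by
      ext x
      simp [eM, eN]
    have : ((φ.baseChange L).baseChange K : K ⊗[L] (L ⊗[A] M) → K ⊗[L] (L ⊗[A] N)) =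
        eN.symm ∘ φ.baseChange K ∘ eM := funext fun x =>
      (eN.eq_symm_apply).2 (LinearMap.congr_fun key x).symm
    rw [this]
    exact eN.symm.bijective.comp ((h K hk).comp eM.bijective)
  let fM := IsLocalizedModule.linearEquiv m.primeCompl (TensorProduct.mk A L M 1)
    (LocalizedModule.mkLinearMap m.primeCompl M)
  let fN := IsLocalizedModule.linearEquiv m.primeCompl (TensorProduct.mk A L N 1)
    (LocalizedModule.mkLinearMap m.primeCompl N)
  have key : fN.toLinearMap ∘ₗ (φ.baseChange L).restrictScalars A =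
      ((LocalizedModule.map m.primeCompl φ).restrictScalars A) ∘ₗ fM.toLinearMap := by
    refine IsLocalizedModule.ext m.primeCompl (TensorProduct.mk A L M 1)
      (IsLocalizedModule.map_units (LocalizedModule.mkLinearMap m.primeCompl N)) ?_
    ext x
    show fN (TensorProduct.mk A L N 1 (φ x)) =
      LocalizedModule.map m.primeCompl φ (fM (TensorProduct.mk A L M 1 x))
    rw [IsLocalizedModule.linearEquiv_apply, IsLocalizedModule.linearEquiv_apply]
    simp [LocalizedModule.map_mk]
  have : (LocalizedModule.map m.primeCompl φ : _ → _) =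
      fN ∘ φ.baseChange L ∘ fM.symm := funext fun x => by
    have := LinearMap.congr_fun key (fM.symm x)
    simpa using this.symm
  rw [this]
  exact fN.bijective.comp (hL.comp fM.symm.bijective)

/-- The hypothesis: base changes of `g` to schemes lying over a residue field of a point of
codimension at most one are isomorphisms. -/
def IsoInCodimLEOne {S X Y : Scheme.{u}} (g : X ⟶ Y) (f : Y ⟶ S) : Prop :=
  ∀ s : S, ringKrullDim (S.presheaf.stalk s) ≤ 1 →
    ∀ (T : Scheme.{u}) (x : T ⟶ Y) (v : T ⟶ Spec (S.residueField s)),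
      x ≫ f = v ≫ S.fromSpecResidueField s → IsIso (pullback.snd g x)

set_option maxHeartbeats 400000 in
/-- The affine case. -/
lemma isIso_SpecMap_of_isoInCodimLEOne {S : Scheme.{u}} (A : CommRingCat.{u}) [IsNoetherianRing A]
    (i : Spec A ⟶ S) [IsOpenImmersion i] (B B' : CommRingCat.{u}) (b : A ⟶ B) (b' : A ⟶ B')
    (φ : B' ⟶ B) (hφ : b' ≫ φ = b) (hb : b.hom.Finite) (hb' : b'.hom.Finite)
    (hbf : b.hom.Flat) (hbf' : b'.hom.Flat)
    (h : IsoInCodimLEOne (Spec.map φ) (Spec.map b' ≫ i)) : IsIso (Spec.map φ) := by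
  algebraize [b.hom, b'.hom]
  let φl : B' →ₗ[A] B :=
    (AlgHom.mk φ.hom fun a => congrArg (fun f : A ⟶ B => f.hom a) hφ : B' →ₐ[A] B).toLinearMap
  suffices hbij : Function.Bijective φl by
    haveI : IsIso φ := (ConcreteCategory.isIso_iff_bijective φ).2 hbij
    infer_instance
  refine bijective_of_heightOne φl fun K _ _ hK => ?_
  let j : Spec (CommRingCat.of K) ⟶ S := Spec.map (CommRingCat.ofHom (algebraMap A K)) ≫ i
  obtain ⟨⟨s, w⟩, hw⟩ := (Scheme.SpecToEquivOfField K S).symm.surjective j
  let p : PrimeSpectrum A := ⟨RingHom.ker (algebraMap A K), RingHom.ker_isPrime _⟩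
  have hs : s = i p := by
    have h1 : j (default : PrimeSpectrum K) = s := by
      rw [← hw]
      exact S.fromSpecResidueField_apply s _
    rw [← h1]
    refine congrArg i (PrimeSpectrum.ext ?_)
    show Ideal.comap (algebraMap A K) _ = RingHom.ker (algebraMap A K)
    rw [RingHom.ker_eq_comap_bot, (Ideal.eq_bot_or_top _).resolve_right
      (default : PrimeSpectrum K).isPrime.ne_top]
  have hdim : ringKrullDim (S.presheaf.stalk s) ≤ 1 := by
    subst hs
    let p' : ↥(Spec A) := p
    haveI : p.asIdeal.IsPrime := p.isPrime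
    haveI : p'.asIdeal.IsPrime := p.isPrime
    haveI : IsIso (i.stalkMap p') := inferInstance
    rw [ringKrullDim_eq_of_ringEquiv ((asIso (i.stalkMap p') ≪≫ Spec.stalkIso A p').commRingCatIsoToRingEquiv),
      IsLocalization.AtPrime.ringKrullDim_eq_height p.asIdeal (Localization.AtPrime p.asIdeal)]
    exact_mod_cast hK
  let L : CommRingCat := CommRingCat.of (K ⊗[A] B')
  let R : CommRingCat := CommRingCat.of (K ⊗[A] B)
  let inr' : B' ⟶ L := CommRingCat.ofHom Algebra.TensorProduct.includeRight.toRingHom
  let ψ : L ⟶ R := CommRingCat.ofHom (Algebra.TensorProduct.map (AlgHom.id A K)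
    (AlgHom.mk φ.hom fun a => congrArg (fun f : A ⟶ B => f.hom a) hφ : B' →ₐ[A] B)).toRingHom
  let x : Spec L ⟶ Spec B' := Spec.map inr'
  let v : Spec L ⟶ Spec (CommRingCat.of K) :=
    Spec.map (CommRingCat.ofHom Algebra.TensorProduct.includeLeftRingHom)
  have hsq : IsPushout φ inr' (CommRingCat.ofHom
      (Algebra.TensorProduct.includeRight : B →ₐ[A] K ⊗[A] B).toRingHom) ψ := by
    have h1 := (CommRingCat.isPushout_tensorProduct A K B).flip
    have h2 := (CommRingCat.isPushout_tensorProduct A K B').flip
    have e2 : CommRingCat.ofHom Algebra.TensorProduct.includeLeftRingHom ≫ ψ =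
        CommRingCat.ofHom
          (Algebra.TensorProduct.includeLeftRingHom : K →+* K ⊗[A] B) := by
      ext x
      exact (Algebra.TensorProduct.map_tmul _ _ x 1).trans (by
        rw [map_one, AlgHom.coe_id, id_eq]; rfl)
    have e1 : CommRingCat.ofHom (algebraMap A B') ≫ φ = CommRingCat.ofHom (algebraMap A B) := hφ
    refine IsPushout.of_left (h₁₁ := CommRingCat.ofHom (algebraMap A B'))
      (v₁₁ := CommRingCat.ofHom (algebraMap A K)) ?_ ?_ h2
    · rw [e1, e2]; exact h1
    · ext x
      exact ((Algebra.TensorProduct.map_tmul _ _ (1 : K) x).trans (by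
        rw [map_one]; rfl)).symm
  haveI := h s hdim (Spec L) x (v ≫ Spec.map w) (by
    have e1 : x ≫ Spec.map b' = v ≫ Spec.map (CommRingCat.ofHom (algebraMap A K)) := by
      rw [← Spec.map_comp, ← Spec.map_comp]
      exact congrArg Spec.map (CommRingCat.isPushout_tensorProduct A K B').w.symm
    rw [Category.assoc, ← Category.assoc, e1, Category.assoc]
    exact congrArg (v ≫ ·) hw.symm)
  have hP := isPullback_SpecMap_of_isPushout _ _ _ _ hsq
  have : IsIso (Spec.map ψ) := by
    rw [← hP.isoPullback_hom_snd]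
    infer_instance
  haveI : IsIso (Scheme.Spec.map ψ.op) := this
  haveI : IsIso ψ.op := isIso_of_reflects_iso ψ.op Scheme.Spec
  haveI : IsIso ψ := isIso_of_op ψ
  exact ConcreteCategory.bijective_of_isIso ψ

/-- `IsoInCodimLEOne` is stable under base change along a morphism to the target. -/
lemma IsoInCodimLEOne.of_isPullback {S X Y X' Y' : Scheme.{u}} {g : X ⟶ Y} {f : Y ⟶ S}
    (h : IsoInCodimLEOne g f) {g' : X' ⟶ Y'} {a : X' ⟶ X} {c : Y' ⟶ Y}
    (sq : IsPullback a g' g c) : IsoInCodimLEOne g' (c ≫ f) := by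
  intro s hs T x v hxv
  haveI := h s hs T (x ≫ c) v (by rwa [Category.assoc])
  rw [← ((IsPullback.of_hasPullback g' x).paste_horiz sq).isoPullback_hom_snd]
  infer_instance

/-- A morphism of finite flat schemes over a locally Noetherian scheme which is an isomorphism over
the residue fields of the points of codimension at most one is an isomorphism. -/
theorem isIso_of_isoInCodimLEOne {S X Y : Scheme.{u}} [IsLocallyNoetherian S] (g : X ⟶ Y)
    (f : Y ⟶ S) [IsFinite f] [Flat f] [IsFinite (g ≫ f)] [Flat (g ≫ f)]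
    (h : IsoInCodimLEOne g f) : IsIso g := by
  show MorphismProperty.isomorphisms Scheme g
  have hcov : ⨆ V : S.affineOpens, f ⁻¹ᵁ V.1 = ⊤ := by
    rw [eq_top_iff]
    intro y _
    obtain ⟨V, hV, hyV, -⟩ := TopologicalSpace.Opens.isBasis_iff_nbhd.1 S.isBasis_affineOpens
      (show f y ∈ (⊤ : S.Opens) from trivial)
    exact TopologicalSpace.Opens.mem_iSup.2 ⟨⟨V, hV⟩, hyV⟩
  refine IsZariskiLocalAtTarget.of_iSup_eq_top _ hcov fun V => ?_
  have hW : IsAffineOpen (f ⁻¹ᵁ V.1) := V.2.preimage f
  have hW' : IsAffineOpen (g ⁻¹ᵁ f ⁻¹ᵁ V.1) := V.2.preimage (g ≫ f)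
  haveI := IsLocallyNoetherian.component_noetherian (X := S) V
  have hsq : IsPullback hW'.fromSpec (Spec.map (g.app (f ⁻¹ᵁ V.1))) g hW.fromSpec := by
    refine ((isPullback_morphismRestrict g (f ⁻¹ᵁ V.1)).flip.of_iso hW'.isoSpec (Iso.refl _)
      hW.isoSpec (Iso.refl _) ?_ ?_ ?_ ?_)
    · simp
    · rw [← cancel_mono hW.fromSpec, Category.assoc, Category.assoc, IsAffineOpen.isoSpec_hom,
        IsAffineOpen.isoSpec_hom, IsAffineOpen.toSpecΓ_fromSpec, morphismRestrict_ι,
        ← Scheme.Hom.appLE_eq_app, IsAffineOpen.SpecMap_appLE_fromSpec g hW hW',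
        IsAffineOpen.toSpecΓ_fromSpec_assoc]
    · simp
    · simp
  have hiso : IsIso (Spec.map (g.app (f ⁻¹ᵁ V.1))) := by
    have h' := h.of_isPullback hsq
    have e : hW.fromSpec ≫ f = Spec.map (f.app V.1) ≫ V.2.fromSpec := by
      rw [← Scheme.Hom.appLE_eq_app, IsAffineOpen.SpecMap_appLE_fromSpec f V.2 hW]
    rw [e] at h'
    haveI := V.2.isOpenImmersion_fromSpec
    exact isIso_SpecMap_of_isoInCodimLEOne _ V.2.fromSpec _ _ ((g ≫ f).app V.1) (f.app V.1) _
      (Scheme.Hom.comp_app g f V.1).symm (IsFinite.finite_app (f := g ≫ f) V.1 V.2)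
      (IsFinite.finite_app (f := f) V.1 V.2)
      (Scheme.Hom.appLE_eq_app (g ≫ f) ▸ (g ≫ f).flat_appLE V.2 hW' le_rfl)
      (Scheme.Hom.appLE_eq_app f ▸ f.flat_appLE V.2 hW le_rfl) h'
  have e2 : g ∣_ (f ⁻¹ᵁ V.1) = hW'.isoSpec.hom ≫ Spec.map (g.app (f ⁻¹ᵁ V.1)) ≫ hW.isoSpec.inv := by
    rw [← Category.assoc, Iso.eq_comp_inv, ← cancel_mono hW.fromSpec, Category.assoc,
      Category.assoc, IsAffineOpen.isoSpec_hom, IsAffineOpen.isoSpec_hom,
      IsAffineOpen.toSpecΓ_fromSpec, morphismRestrict_ι, hsq.w.symm,
      IsAffineOpen.toSpecΓ_fromSpec_assoc]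
  rw [e2]
  show IsIso _
  infer_instance

end Groth.Agent.MiscTwoH99
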