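import Groth.Agent.WQ7.Galois
import Mathlib.RingTheory.PicardGroup
import Mathlib.RingTheory.DedekindDomain.PID
import Mathlib.RingTheory.Polynomial.UniqueFactorization
import Mathlib.RingTheory.MvPolynomial.Homogeneous
import Mathlib.RingTheory.Localization.AsSubring
import Mathlib.RingTheory.PrincipalIdealDomain

/-!
Invertible ideals of a normal Noetherian domain contractible onto a field are principal.
-/

set_option autoImplicit false
universe u

open Polynomial

namespace Groth.Agent.MiscTwoH99

/-- In a GCD domain an invertible ideal, presented by a partition of a principal product, is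
principal. -/
theorem exists_mem_forall_dvd {R : Type u} [CommRing R] [IsDomain R] [UniqueFactorizationMonoid R]
    {ι : Type*} [Fintype ι] (i i' : ι → R) {D : R} (hD : D ≠ 0) (hsum : D = ∑ k, i k * i' k)
    (hdvd : ∀ k l, D ∣ i k * i' l) :
    ∃ g ∈ Ideal.span (Set.range i), ∀ k, g ∣ i k := by
  classical
  let := Classical.arbitrary (NormalizedGCDMonoid R)
  let g := Finset.univ.gcd i
  have hg : ∀ l, D ∣ g * i' l := fun l => by
    have h1 : D ∣ Finset.univ.gcd fun k => i k * i' l := Finset.dvd_gcd fun k _ => hdvd k l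
    exact h1.trans (Finset.gcd_mul_right' Finset.univ i (i' l)).dvd
  choose w hw using hg
  refine ⟨g, ?_, fun k => Finset.gcd_dvd (Finset.mem_univ k)⟩
  have : g = ∑ k, w k * i k := mul_left_cancel₀ hD (by
    rw [Finset.mul_sum, mul_comm D g]
    conv_lhs => rw [hsum, Finset.mul_sum]
    exact Finset.sum_congr rfl fun k _ => by rw [← mul_assoc D, ← hw]; ring)
  rw [this]
  exact sum_mem fun k _ => Ideal.mul_mem_left _ _ (Ideal.subset_span ⟨k, rfl⟩)

variable {A : Type u} [CommRing A] [IsDomain A] [IsNoetherianRing A] [IsIntegrallyClosed A]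

/-- Polynomials over the fraction field which are integral at height one are integral. -/
theorem exists_map_eq_of_height_one {Z : (FractionRing A)[X]}
    (h : ∀ q : Ideal A, q.IsPrime → q.height ≤ 1 → ∃ r ∉ q, ∃ w : A[X],
      C (algebraMap A _ r) * Z = w.map (algebraMap A (FractionRing A))) :
    ∃ w : A[X], Z = w.map (algebraMap A (FractionRing A)) := by
  have hc : ∀ n, Z.coeff n ∈ Set.range (algebraMap A (FractionRing A)) := fun n => by
    obtain ⟨a, b, hb, hab⟩ := IsFractionRing.div_surjective (A := A) (Z.coeff n)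
    have hb0 : b ≠ 0 := nonZeroDivisors.ne_zero hb
    have hbK : algebraMap A (FractionRing A) b ≠ 0 :=
      (map_ne_zero_iff _ (IsFractionRing.injective A _)).2 hb0
    obtain ⟨c, hc⟩ : b ∣ a := WQ7.dvd_of_height_le_one hb0 fun q hq hq1 => by
      obtain ⟨r, hr, w, hw⟩ := h q hq hq1
      refine ⟨r, hr, w.coeff n, IsFractionRing.injective A (FractionRing A) ?_⟩
      have := congrArg (fun p => Polynomial.coeff p n) hw
      rw [coeff_C_mul, coeff_map, ← hab] at this
      rw [map_mul, map_mul, ← this]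
      field_simp
    exact ⟨c, by rw [← hab, hc, map_mul]; field_simp⟩
  exact (Polynomial.lifts_iff_coeff_lifts Z).2 hc |> fun ⟨w, hw⟩ => ⟨w, hw.symm⟩

/-- A finitely presented invertible ideal of `A[T]` which contracts to a field at `T = 0` restricts
to a principal ideal at `T = 1`. -/
theorem exists_principal_at_one {ι : Type*} [Fintype ι] (i i' : ι → A[X]) {D : A[X]} (hD : D ≠ 0)
    (hsum : D = ∑ k, i k * i' k) (hdvd : ∀ k l, D ∣ i k * i' l)
    (h0 : ∃ w ∈ Ideal.span (Set.range i), IsUnit (w.eval 0)) :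
    ∃ a : A, (∃ w ∈ Ideal.span (Set.range i), w.eval 1 = a) ∧
      ∀ w ∈ Ideal.span (Set.range i), a ∣ w.eval 1 := by
  classical
  let K := FractionRing A
  let φ : A[X] →+* K[X] := Polynomial.mapRingHom (algebraMap A K)
  have hφ : Function.Injective φ := Polynomial.map_injective _ (IsFractionRing.injective A K)
  set I := Ideal.span (Set.range i) with hI
  obtain ⟨f, hf⟩ := (IsPrincipalIdealRing.principal (I.map φ)).principal
  have hf0 : f ≠ 0 := by
    rintro rfl
    rw [Submodule.span_singleton_eq_bot.2 rfl, Ideal.map_eq_bot_iff_of_injective hφ] at hf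
    obtain ⟨w, hw, hu⟩ := h0
    rw [hf, Ideal.mem_bot] at hw
    simp [hw] at hu
  -- saturation
  have hsat : ∀ Z : K[X], (∀ q : Ideal A, q.IsPrime → q.height ≤ 1 → ∃ r ∉ q, ∃ w ∈ I,
      C (algebraMap A K r) * Z = φ w) → ∃ w ∈ I, Z = φ w := by
    intro Z hZ
    have : ∀ l, ∃ w : A[X], Z * φ (i' l) = φ D * φ w := fun l => by
      have hD' : φ D ≠ 0 := (map_ne_zero_iff _ hφ).2 hD
      obtain ⟨Q, hQ⟩ : φ D ∣ Z * φ (i' l) := by
        obtain ⟨r, hr, w, hw, hwe⟩ := hZ ⊥ Ideal.isPrime_bot (by rw [Ideal.height_bot]; exact zero_le_one)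
        have hrK : algebraMap A K r ≠ 0 :=
          (map_ne_zero_iff _ (IsFractionRing.injective A K)).2 fun e => hr (e ▸ zero_mem _)
        have hd : D ∣ w * i' l := by
          clear hwe
          induction hw using Submodule.span_induction with
          | mem x hx => obtain ⟨k, rfl⟩ := hx; exact hdvd k l
          | zero => simp
          | add x y _ _ hx hy => rw [add_mul]; exact dvd_add hx hy
          | smul c x _ hx => rw [smul_eq_mul, mul_assoc]; exact hx.mul_left c
        have := map_dvd φ hd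
        rw [map_mul, ← hwe, mul_assoc] at this
        exact ((isUnit_C.2 hrK.isUnit).dvd_mul_left).1 this
      obtain ⟨w, hw⟩ := exists_map_eq_of_height_one (A := A) (Z := Q) fun q hq hq1 => by
        obtain ⟨r, hr, w, hw, hwe⟩ := hZ q hq hq1
        have hd : D ∣ w * i' l := by
          clear hwe
          induction hw using Submodule.span_induction with
          | mem x hx => obtain ⟨k, rfl⟩ := hx; exact hdvd k l
          | zero => simp
          | add x y _ _ hx hy => rw [add_mul]; exact dvd_add hx hy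
          | smul c x _ hx => rw [smul_eq_mul, mul_assoc]; exact hx.mul_left c
        obtain ⟨v, hv⟩ := hd
        refine ⟨r, hr, v, mul_left_cancel₀ hD' ?_⟩
        show _ = φ D * φ v
        rw [← map_mul, ← hv, map_mul, ← hwe, mul_assoc, hQ]
        ring
      exact ⟨w, by rw [hQ, hw]; rfl⟩
    choose w hw using this
    refine ⟨∑ k, w k * i k, sum_mem fun k _ => Ideal.mul_mem_left _ _ (Ideal.subset_span ⟨k, rfl⟩), ?_⟩
    refine mul_left_cancel₀ ((map_ne_zero_iff _ hφ).2 hD) ?_
    rw [map_sum, Finset.mul_sum]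
    conv_lhs => rw [hsum, map_sum, Finset.sum_mul]
    exact Finset.sum_congr rfl fun k _ => by
      rw [map_mul, map_mul, mul_assoc, mul_comm (φ (i' k)), hw]; ring
  let E : Set A[X] := {w | w ∈ I ∧ ∃ c, φ w = C c * f}
  have hIE : I ≤ Ideal.span E := by
    intro x hx
    obtain ⟨P, hP⟩ : f ∣ φ x := by
      have := Ideal.mem_map_of_mem φ hx
      rw [hf] at this
      exact Ideal.mem_span_singleton.1 this
    have hcoef : ∀ n, ∃ w ∈ I, C (P.coeff n) * f = φ w := fun n => hsat _ fun q hq hq1 => by
      haveI := hq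
      let Aq := Localization.AtPrime q
      letI : Algebra Aq K :=
        (IsLocalization.map (S := Aq) (M := q.primeCompl) (T := nonZeroDivisors A) K (RingHom.id A)
          q.primeCompl_le_nonZeroDivisors).toAlgebra
      haveI : IsScalarTower A Aq K := .of_algebraMap_eq fun a =>
        ((RingHom.algebraMap_toAlgebra (IsLocalization.map (S := Aq) (M := q.primeCompl) (T := nonZeroDivisors A) K (RingHom.id A)
          q.primeCompl_le_nonZeroDivisors)).symm ▸ IsLocalization.map_eq (M := q.primeCompl) (T := nonZeroDivisors A) (Q := K) (g := RingHom.id A) q.primeCompl_le_nonZeroDivisors a).symm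
      haveI : IsFractionRing Aq K := IsFractionRing.isFractionRing_of_isDomain_of_isLocalization q.primeCompl Aq K
      haveI : UniqueFactorizationMonoid Aq := by
        haveI : IsPrincipalIdealRing Aq := by
          haveI : IsIntegrallyClosed Aq :=
            isIntegrallyClosed_of_isLocalization (R := A) Aq _ q.primeCompl_le_nonZeroDivisors
          have h3 : (IsLocalRing.maximalIdeal Aq).height ≤ 1 := by
            rw [← IsLocalization.height_under q.primeCompl,
              IsLocalization.AtPrime.under_maximalIdeal Aq q]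
            exact hq1
          haveI : Ring.DimensionLEOne Aq := ⟨fun {p} hp hpp => by
            by_contra hm
            haveI := hpp
            have hlt : p < IsLocalRing.maximalIdeal Aq :=
              lt_of_le_of_ne (IsLocalRing.le_maximalIdeal hpp.ne_top) fun e => hm (e ▸ inferInstance)
            have h1 : (⊥ : Ideal Aq).height < p.height :=
              Ideal.height_strict_mono_of_isPrime (bot_lt_iff_ne_bot.2 hp)
            have h2 := Ideal.height_strict_mono_of_isPrime hlt
            rw [Ideal.height_bot] at h1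
            exact absurd (h2.trans_le h3) (not_lt.2 (Order.add_one_le_of_lt h1))⟩
          haveI : IsDedekindDomain Aq := {}
          refine IsPrincipalIdealRing.of_finite_maximals ?_
          exact (Set.finite_singleton (IsLocalRing.maximalIdeal Aq)).subset fun I hI =>
            IsLocalRing.eq_maximalIdeal hI
        infer_instance
      let ψ : A[X] →+* Aq[X] := Polynomial.mapRingHom (algebraMap A Aq)
      let χ : Aq[X] →+* K[X] := Polynomial.mapRingHom (algebraMap Aq K)
      have hχψ : ∀ w, χ (ψ w) = φ w := fun w => by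
        simp [χ, ψ, φ, Polynomial.map_map, ← IsScalarTower.algebraMap_eq]
      have hψ : Function.Injective ψ :=
        Polynomial.map_injective _ (IsLocalization.injective Aq q.primeCompl_le_nonZeroDivisors)
      obtain ⟨g, hg, hgd⟩ := exists_mem_forall_dvd (fun k => ψ (i k)) (fun k => ψ (i' k))
        ((map_ne_zero_iff _ hψ).2 hD) (by simp [hsum, map_sum]) fun k l => by
          rw [← map_mul]; exact map_dvd ψ (hdvd k l)
      have hspan : Ideal.span (Set.range fun k => ψ (i k)) = I.map ψ := by
        rw [hI, Ideal.map_span, ← Set.range_comp]; rfl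
      have hgI : I.map ψ = Ideal.span {g} := le_antisymm (by
        rw [← hspan, Ideal.span_le]
        rintro _ ⟨k, rfl⟩
        exact Ideal.mem_span_singleton.2 (hgd k)) (by
        rw [Ideal.span_le, Set.singleton_subset_iff, ← hspan]; exact hg)
      have hgf : Associated (χ g) f := by
        refine Ideal.span_singleton_eq_span_singleton.1 ?_
        rw [← Set.image_singleton, ← Ideal.map_span, ← hgI, Ideal.map_map]
        rw [show χ.comp ψ = φ from RingHom.ext hχψ, hf]
      obtain ⟨u, hu⟩ := hgf.symm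
      obtain ⟨c, hc, hcu⟩ := Polynomial.isUnit_iff.1 u.isUnit
      obtain ⟨Q, hQ⟩ : g ∣ ψ x := Ideal.mem_span_singleton.1 (hgI ▸ Ideal.mem_map_of_mem ψ hx)
      have hPQ : P = C c * χ Q := mul_left_cancel₀ hf0 (by
        rw [← hP, ← hχψ, hQ, map_mul, ← hu, ← hcu]; ring)
      have hmem : g * C (Q.coeff n) ∈ I.map ψ := hgI ▸ Ideal.mem_span_singleton.2 (Dvd.intro _ rfl)
      letI : Algebra A[X] Aq[X] := ψ.toAlgebra
      haveI : IsLocalization (Submonoid.map (C : A →+* A[X]) q.primeCompl) Aq[X] :=
        Polynomial.isLocalization q.primeCompl Aq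
      obtain ⟨⟨⟨w, hw⟩, ⟨_, r, hr, rfl⟩⟩, he⟩ :=
        (IsLocalization.mem_map_algebraMap_iff (Submonoid.map (C : A →+* A[X]) q.primeCompl) Aq[X]).1 hmem
      refine ⟨r, hr, w, hw, ?_⟩
      have he' := congrArg χ he
      simp only [map_mul] at he'
      rw [← hχψ w, ← show χ (algebraMap A[X] Aq[X] w) = χ (ψ w) from rfl, ← he', ← hu, ← hcu, hPQ,
        coeff_C_mul, map_mul]
      show _ = _ * _ * χ (ψ (C r))
      rw [hχψ]
      simp [φ, χ]
      ring
    choose w hw hwe using hcoef
    have : x = ∑ n ∈ P.support, X ^ n * w n := hφ (by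
      rw [hP, map_sum]
      conv_lhs => rw [P.as_sum_support_C_mul_X_pow, Finset.mul_sum]
      refine Finset.sum_congr rfl fun n _ => ?_
      rw [map_mul, map_pow, ← hwe]
      simp only [φ, coe_mapRingHom, Polynomial.map_X]
      ring)
    rw [this]
    exact sum_mem fun n _ => Ideal.mul_mem_left _ _ (Ideal.subset_span ⟨hw n, _, (hwe n).symm⟩)
  obtain ⟨w₀, hw₀, hu₀⟩ := h0
  obtain ⟨v, hv, hv0⟩ : ∃ v ∈ I, v.eval 0 = 1 :=
    ⟨C (↑hu₀.unit⁻¹ : A) * w₀, Ideal.mul_mem_left _ _ hw₀, by simp⟩
  have he1 : ∀ w : A[X], ∀ t : A,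
      algebraMap A K (w.eval t) = (φ w).eval (algebraMap A K t) := fun w t => by
    simp [φ, Polynomial.eval_map]
  have hE0 : ∀ x ∈ Ideal.span E, ∃ w ∈ E, w.eval 0 = x.eval 0 := by
    intro x hx
    induction hx using Submodule.span_induction with
    | mem w hw => exact ⟨w, hw, rfl⟩
    | zero => exact ⟨0, ⟨zero_mem _, 0, by simp⟩, rfl⟩
    | add a b _ _ ha hb =>
      obtain ⟨w, ⟨hwI, c, hc⟩, hw⟩ := ha
      obtain ⟨z, ⟨hzI, d, hd⟩, hz⟩ := hb
      exact ⟨w + z, ⟨add_mem hwI hzI, c + d, by rw [map_add, hc, hd, map_add]; ring⟩, by simp [hw, hz]⟩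
    | smul r a _ ha =>
      obtain ⟨w, ⟨hwI, c, hc⟩, hw⟩ := ha
      refine ⟨C (r.eval 0) * w, ⟨Ideal.mul_mem_left _ _ hwI, algebraMap A K (r.eval 0) * c, ?_⟩, by simp [hw]⟩
      rw [map_mul, hc, map_mul]
      simp only [φ, coe_mapRingHom, Polynomial.map_C]
      ring
  obtain ⟨v', ⟨hv'I, c', hc'⟩, hv'0⟩ := hE0 v (hIE hv)
  rw [hv0] at hv'0
  refine ⟨v'.eval 1, ⟨v', hv'I, rfl⟩, fun x hx => ?_⟩
  have hx' := hIE hx
  clear hx
  induction hx' using Submodule.span_induction with
  | mem w hw =>
    obtain ⟨-, c, hc⟩ := hw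
    refine ⟨w.eval 0, IsFractionRing.injective A K ?_⟩
    have h1 : c' * f.eval 0 = 1 := by
      have := he1 v' 0
      rw [hv'0, hc', map_one, map_zero] at this
      simpa using this.symm
    rw [map_mul, he1, he1, he1, hc, hc', map_zero, map_one]
    simp only [eval_mul, eval_C]
    calc c * f.eval 1 = c * f.eval 1 * (c' * f.eval 0) := by rw [h1, mul_one]
      _ = _ := by ring
  | zero => simp
  | add a b _ _ ha hb => rw [eval_add]; exact dvd_add ha hb
  | smul r a _ ha => rw [smul_eq_mul, eval_mul]; exact ha.mul_left _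

/-- An invertible module over a normal Noetherian domain which is contracted onto a field by a
homotopy `h` is free. -/
theorem free_of_homotopy (h : A →+* A[X]) (h1 : ∀ a, (h a).eval 1 = a)
    (h0 : ∀ a, (h a).eval 0 = 0 ∨ IsUnit ((h a).eval 0))
    (M : Type u) [AddCommGroup M] [Module A M] [Module.Invertible A M] : Module.Free A M := by
  classical
  obtain ⟨J, ⟨e⟩⟩ := Module.Invertible.exists_linearEquiv_ideal A M
  haveI : Module.Invertible A J := Module.Invertible.congr e
  -- a partition of the trace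
  obtain ⟨t, ht⟩ := (Module.Invertible.linearEquiv A J).surjective 1
  obtain ⟨S, hS⟩ := TensorProduct.exists_finset t
  rw [hS, map_sum] at ht
  have hJ0 : ∃ d ∈ J, d ≠ 0 := by
    by_contra! hz
    haveI : Subsingleton J := ⟨fun a b => Subtype.ext (by rw [hz a a.2, hz b b.2])⟩
    have h10 : (∑ i ∈ S, i.1 i.2 : A) = 0 := Finset.sum_eq_zero fun i _ => by
      rw [Subsingleton.elim i.2 0, map_zero]
    exact zero_ne_one (h10.symm.trans (by simpa [Module.Invertible.linearEquiv] using ht))
  obtain ⟨d, hd, hd0⟩ := hJ0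
  -- multiplication formula
  have hcomm : ∀ (ψ : J →ₗ[A] A) (x y : J), ψ x * (y : A) = ψ y * (x : A) := fun ψ x y => by
    rw [mul_comm (ψ x), mul_comm (ψ y), ← smul_eq_mul, ← smul_eq_mul (x : A), ← map_smul, ← map_smul]
    exact congrArg ψ (Subtype.ext (mul_comm _ _))
  have h1S : ∑ i ∈ S, i.1 i.2 = 1 := by simpa [Module.Invertible.linearEquiv] using ht
  let j : S → A := fun k => (k.1.2 : A)
  let j' : S → A := fun k => k.1.1 ⟨d, hd⟩
  have hjsum : d = ∑ k, j k * j' k := by
    calc d = (∑ i ∈ S, i.1 i.2) * d := by rw [h1S, one_mul]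
      _ = ∑ i ∈ S, (i.2 : A) * i.1 ⟨d, hd⟩ := by
        rw [Finset.sum_mul]
        exact Finset.sum_congr rfl fun i _ => (hcomm i.1 i.2 ⟨d, hd⟩).trans (mul_comm _ _)
      _ = _ := (Finset.sum_coe_sort S fun i => (i.2 : A) * i.1 ⟨d, hd⟩).symm
  have hjdvd : ∀ k l, d ∣ j k * j' l := fun k l => by
    refine ⟨l.1.1 k.1.2, ?_⟩
    rw [mul_comm (j k), mul_comm d]
    exact hcomm l.1.1 ⟨d, hd⟩ k.1.2
  have hJ : J = Ideal.span (Set.range j) := by
    refine le_antisymm (fun y hy => ?_) (Ideal.span_le.2 (by rintro _ ⟨k, rfl⟩; exact k.1.2.2))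
    have : y = ∑ k : S, (k.1.2 : A) * k.1.1 ⟨y, hy⟩ := by
      calc y = (∑ i ∈ S, i.1 i.2) * y := by rw [h1S, one_mul]
        _ = ∑ i ∈ S, (i.2 : A) * i.1 ⟨y, hy⟩ := by
          rw [Finset.sum_mul]
          exact Finset.sum_congr rfl fun i _ => (hcomm i.1 i.2 ⟨y, hy⟩).trans (mul_comm _ _)
        _ = _ := (Finset.sum_coe_sort S fun i => (i.2 : A) * i.1 ⟨y, hy⟩).symm
    rw [this]
    exact sum_mem fun k _ => Ideal.mul_mem_right _ _ (Ideal.subset_span ⟨k, rfl⟩)
  let m : Ideal A := RingHom.ker ((evalRingHom 0).comp h)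
  haveI hm : m.IsPrime := RingHom.ker_isPrime _
  -- the generator at the vertex
  obtain ⟨k₀, hk₀⟩ : ∃ k, j k * j' k ∉ Ideal.span {d} * m := by
    by_contra! hall
    have : d ∈ Ideal.span {d} * m := by
      have hs : ∑ k, j k * j' k ∈ Ideal.span {d} * m := sum_mem fun k _ => hall k
      rwa [← hjsum] at hs
    obtain ⟨z, hz, hdz⟩ := Ideal.mem_span_singleton_mul.1 this
    have : z = 1 := mul_left_cancel₀ hd0 (hdz.trans (mul_one d).symm)
    exact hm.ne_top ((Ideal.eq_top_iff_one m).2 (this ▸ hz))
  -- transfer to the inverse ideal `j'`, which contains the unit `u` at the vertex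
  obtain ⟨u, hu⟩ := hjdvd k₀ k₀
  have hum : u ∉ m := fun hum => hk₀ (hu ▸ Ideal.mul_mem_mul (Ideal.mem_span_singleton_self d) hum)
  choose c hc using fun l => hjdvd k₀ l
  have hj0 : j k₀ ≠ 0 := fun hz => by
    rw [hz, zero_mul, eq_comm, mul_eq_zero] at hu
    exact hum (by rw [hu.resolve_left hd0]; exact zero_mem _)
  have hcsum : j k₀ = ∑ k, c k * j k := mul_left_cancel₀ hd0 (by
    rw [Finset.mul_sum, mul_comm]
    conv_lhs => rw [hjsum, Finset.mul_sum]
    exact Finset.sum_congr rfl fun k _ => by rw [← mul_assoc d, ← hc]; ring)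
  have hcdvd : ∀ k l, j k₀ ∣ c k * j l := fun k l => by
    obtain ⟨z, hz⟩ := hjdvd l k
    exact ⟨z, mul_left_cancel₀ hd0 (by linear_combination (j k₀) * hz - (j l) * hc k)⟩
  have hh : Function.Injective h := fun a b hab => by rw [← h1 a, hab, h1]
  have hsum' : h (j k₀) = ∑ k, (fun k => h (c k)) k * (fun k => h (j k)) k := by
    conv_lhs => rw [hcsum]
    simp only [map_sum, map_mul]
  have hdvd' : ∀ k l, h (j k₀) ∣ (fun k => h (c k)) k * (fun k => h (j k)) l := fun k l =>
    map_mul h (c k) (j l) ▸ map_dvd h (hcdvd k l)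
  obtain ⟨a, ⟨w, hw, hwa⟩, ha⟩ := exists_principal_at_one (i := fun k => h (c k)) (i' := fun k => h (j k))
    (D := h (j k₀)) ((map_ne_zero_iff _ hh).2 hj0) hsum'
    hdvd'
    ⟨h (c k₀), Ideal.subset_span ⟨k₀, rfl⟩, by
      refine (h0 _).resolve_left fun hz => hum ?_
      have : u = c k₀ := mul_left_cancel₀ hd0 (hu.symm.trans (hc k₀))
      rw [this]
      exact hz⟩
  have hca : ∀ k, a ∣ c k := fun k => by
    have := ha (h (c k)) (Ideal.subset_span ⟨k, rfl⟩)
    rwa [h1] at this
  have haI : a ∈ Ideal.span (Set.range c) := by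
    rw [← hwa]
    clear hwa
    induction hw using Submodule.span_induction with
    | mem x hx => obtain ⟨k, rfl⟩ := hx; rw [h1]; exact Ideal.subset_span ⟨k, rfl⟩
    | zero => simp
    | add x y _ _ hx hy => rw [eval_add]; exact add_mem hx hy
    | smul r x _ hx => rw [smul_eq_mul, eval_mul]; exact Ideal.mul_mem_left _ _ hx
  choose v hv using hca
  have ha0 : a ≠ 0 := fun hz => hj0 (by
    rw [hcsum]
    exact Finset.sum_eq_zero fun k _ => by rw [hv, hz, zero_mul, zero_mul])
  let b : A := ∑ k, v k * j k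
  have hb : j k₀ = a * b := by
    rw [hcsum, Finset.mul_sum]
    exact Finset.sum_congr rfl fun k _ => by rw [hv, mul_assoc]
  have hb0 : b ≠ 0 := fun hz => hj0 (by rw [hb, hz, mul_zero])
  have hJb : J = Ideal.span {b} := by
    rw [hJ]
    refine le_antisymm (Ideal.span_le.2 ?_) (by
      rw [Ideal.span_le, Set.singleton_subset_iff]
      exact sum_mem fun k _ => Ideal.mul_mem_left _ _ (Ideal.subset_span ⟨k, rfl⟩))
    rintro _ ⟨l, rfl⟩
    refine Ideal.mem_span_singleton.2 ?_
    have key : ∀ x ∈ Ideal.span (Set.range c), j k₀ ∣ x * j l := fun x hx => by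
      induction hx using Submodule.span_induction with
      | mem x hx => obtain ⟨k, rfl⟩ := hx; exact hcdvd k l
      | zero => simp
      | add x y _ _ hx hy => rw [add_mul]; exact dvd_add hx hy
      | smul r x _ hx => rw [smul_eq_mul, mul_assoc]; exact hx.mul_left r
    have := key a haI
    rw [hb] at this
    exact (mul_dvd_mul_iff_left ha0).1 this
  exact Module.Free.of_equiv
    (((LinearEquiv.toSpanNonzeroSingleton A A b hb0).trans
      (LinearEquiv.ofEq _ _ hJb.symm)).trans e.symm)

end Groth.Agent.MiscTwoH99
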