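import Mathlib.RingTheory.WittVector.TeichmullerSeries
import Mathlib.RingTheory.WittVector.Truncated
import Mathlib.RingTheory.WittVector.Domain
import Mathlib.RingTheory.DividedPowers.Basic
import Mathlib.RingTheory.Ideal.Quotient.Operations
import Mathlib.NumberTheory.Basic
import Mathlib.Tactic

set_option autoImplicit false
open WittVector Finset

namespace Groth.Agent.MiscTwoH99.DPowWitt

variable {p : ℕ} [hpf : Fact p.Prime]

/-- The formula `∑_{i<n} p^i x_i^{p^{n-i}}`. -/
noncomputable def thetaSum (n : ℕ) {B : Type*} [CommRing B] (x : WittVector p B) : B :=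
  ∑ i : Fin n, (p : B) ^ (i : ℕ) * (x.coeff i) ^ (p ^ (n - i))

theorem ghost_eq_thetaSum (n : ℕ) {B : Type*} [CommRing B] (hp : (p : B) ^ n = 0) (x : WittVector p B) :
    ghostComponent n x = thetaSum n x := by
  rw [ghostComponent_apply, wittPolynomial_eq_sum_C_mul_X_pow, map_sum, Finset.sum_range_succ, thetaSum,
    Fin.sum_univ_eq_sum_range (fun i => (p : B) ^ i * (x.coeff i) ^ (p ^ (n - i))) n]
  simp [hp]

theorem pow_pow_eq_mul {B : Type*} [CommRing B] {I : Ideal B} (hI : DividedPowers I) (j : ℕ) {b : B}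
    (hb : b ∈ I) : ∃ c : B, b ^ (p ^ j) = (p : B) ^ j * c := by
  have h := hI.factorial_mul_dpow_eq_pow (n := p ^ j) hb
  have hd : p ^ j ∣ (p ^ j).factorial :=
    Nat.dvd_factorial (Nat.pow_pos hpf.out.pos) le_rfl
  obtain ⟨c, hc⟩ := hd
  refine ⟨(c : B) * hI.dpow (p ^ j) b, ?_⟩
  rw [← h, hc]
  push_cast
  ring

theorem exists_theta (n : ℕ) {B : Type*} [CommRing B] (hp : (p : B) ^ n = 0) {I : Ideal B}
    (hI : DividedPowers I) :
    ∃ θ : TruncatedWittVector p n (B ⧸ I) →+* B,
      ∀ x : WittVector p B, θ (truncate n (WittVector.map (Ideal.Quotient.mk I) x)) = thetaSum n x := by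
  let φ : WittVector p B →+* TruncatedWittVector p n (B ⧸ I) :=
    (truncate n).comp (WittVector.map (Ideal.Quotient.mk I))
  have hφ : Function.Surjective φ :=
    (truncate_surjective p n (B ⧸ I)).comp (map_surjective _ Ideal.Quotient.mk_surjective)
  have hker : RingHom.ker φ ≤ RingHom.ker (ghostComponent n) := by
    intro x hx
    rw [RingHom.mem_ker] at hx ⊢
    rw [ghost_eq_thetaSum n hp, thetaSum]
    refine Finset.sum_eq_zero fun i _ => ?_
    have hi : Ideal.Quotient.mk I (x.coeff i) = 0 := by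
      have := congrArg (fun t => TruncatedWittVector.coeff i t) hx
      simpa [φ, WittVector.coeff_truncate] using this
    obtain ⟨c, hc⟩ := pow_pow_eq_mul (p := p) hI (n - i) (Ideal.Quotient.eq_zero_iff_mem.1 hi)
    rw [hc, ← mul_assoc, ← pow_add, Nat.add_sub_cancel' i.2.le, hp, zero_mul]
  refine ⟨RingHom.liftOfSurjective φ hφ ⟨ghostComponent n, hker⟩, fun x => ?_⟩
  rw [← ghost_eq_thetaSum n hp]
  exact RingHom.liftOfRightInverse_comp_apply φ _ _ ⟨ghostComponent n, hker⟩ x

theorem exists_pow_pow_of_surjective {A : Type*} [CommRing A]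
    (hF : Function.Surjective (fun y : A => y ^ p)) (j : ℕ) (a : A) : ∃ y, y ^ (p ^ j) = a := by
  induction j generalizing a with
  | zero => exact ⟨a, by simp⟩
  | succ j ih =>
    obtain ⟨b, hb⟩ := hF a
    obtain ⟨y, hy⟩ := ih b
    exact ⟨y, by rw [pow_succ, pow_mul, hy]; exact hb⟩

theorem exists_mem_p_pow_eq_tail {B : Type*} [CommRing B] (n : ℕ) (hp : (p : B) ^ n = 0)
    (hF : Function.Surjective (fun y : B ⧸ Ideal.span {(p : B)} => y ^ p)) :
    ∀ (d i : ℕ), i + d = n → ∀ b : B, ∃ f : ℕ → B,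
      ∑ j ∈ Ico i n, (p : B) ^ j * f j ^ (p ^ (n - j)) = (p : B) ^ i * b := by
  intro d
  induction d with
  | zero =>
    intro i hi b
    exact ⟨0, by subst hi; simp [show (p : B) ^ i = 0 by simpa using hp]⟩
  | succ d ih =>
    intro i hi b
    obtain ⟨y, hy⟩ := exists_pow_pow_of_surjective hF (n - i) (Ideal.Quotient.mk _ b)
    obtain ⟨y, rfl⟩ := Ideal.Quotient.mk_surjective y
    rw [← map_pow, Ideal.Quotient.eq, Ideal.mem_span_singleton] at hy
    obtain ⟨c, hc⟩ := hy
    obtain ⟨f, hf⟩ := ih (i + 1) (by omega) (-c)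
    refine ⟨Function.update f i y, ?_⟩
    rw [Finset.sum_eq_sum_Ico_succ_bot (by omega), Function.update_self]
    rw [Finset.sum_congr rfl (g := fun j => (p : B) ^ j * f j ^ (p ^ (n - j))) (fun j hj => by
      rw [Function.update_of_ne (by rw [Finset.mem_Ico] at hj; omega)])]
    rw [hf]
    linear_combination (p : B) ^ i * hc

theorem thetaSum_surjective {B : Type*} [CommRing B] (n : ℕ) (hp : (p : B) ^ n = 0)
    (hF : Function.Surjective (fun y : B ⧸ Ideal.span {(p : B)} => y ^ p)) (b : B) :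
    ∃ x : WittVector p B, thetaSum n x = b := by
  obtain ⟨f, hf⟩ := exists_mem_p_pow_eq_tail n hp hF n 0 (zero_add n) b
  refine ⟨WittVector.mk p f, ?_⟩
  rw [pow_zero, one_mul, ← Finset.range_eq_Ico, ← Fin.sum_univ_eq_sum_range] at hf
  simpa [thetaSum] using hf

theorem thetaSum_sub_coeff_zero (n : ℕ) (hn : 0 < n) {B : Type*} [CommRing B] (x : WittVector p B) :
    (p : B) ∣ thetaSum n x - x.coeff 0 ^ (p ^ n) := by
  rw [thetaSum, ← Finset.sum_erase_add _ _ (Finset.mem_univ (⟨0, hn⟩ : Fin n))]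
  simp only [pow_zero, one_mul, tsub_zero, add_sub_cancel_right]
  refine Finset.dvd_sum fun i hi => ?_
  have : (i : ℕ) ≠ 0 := fun h => (Finset.ne_of_mem_erase hi) (Fin.ext h)
  exact dvd_mul_of_dvd_left (dvd_pow_self _ this) _

theorem coeff_zero_natCast_self (A : Type*) [CommRing A] : (p : WittVector p A).coeff 0 = (p : A) := by
  exact map_natCast (constantCoeff : WittVector p A →+* A) p

theorem mem_span_p_of_coeff_zero {A : Type*} [CommRing A] (hA : (p : A) = 0)
    (hF : Function.Surjective (fun y : A => y ^ p)) {z : WittVector p A} (hz : z.coeff 0 = 0) :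
    z ∈ Ideal.span {(p : WittVector p A)} := by
  rcases subsingleton_or_nontrivial A with hs | hs
  · rw [show z = 0 from WittVector.ext fun i => Subsingleton.elim _ _]; exact zero_mem _
  have : CharP A p := (CharP.charP_iff_prime_eq_zero hpf.out).2 hA
  choose c hc using fun i => hF ((z.shift 1).coeff i)
  have e : frobenius (WittVector.mk p c) = z.shift 1 := by
    ext i; rw [coeff_frobenius_charP]; exact hc i
  have h0 : z.shift 0 = z := by ext i; rw [shift_coeff, zero_add]
  rw [Ideal.mem_span_singleton, ← h0, ← verschiebung_shift z 0 (fun i hi => by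
    rw [Nat.lt_one_iff] at hi; rw [hi, hz]), ← e, verschiebung_frobenius]
  exact dvd_mul_left _ _

theorem coeff_zero_of_mem_ker_sup (n : ℕ) (hn : 0 < n) {B : Type*} [CommRing B]
    (θ : TruncatedWittVector p n (B ⧸ Ideal.span {(p : B)}) →+* B)
    (hθ : ∀ x : WittVector p B,
      θ (truncate n (WittVector.map (Ideal.Quotient.mk (Ideal.span {(p : B)})) x)) = thetaSum n x)
    (a : TruncatedWittVector p n (B ⧸ Ideal.span {(p : B)}))
    (ha : a ∈ RingHom.ker θ ⊔ Ideal.span {(p : TruncatedWittVector p n (B ⧸ Ideal.span {(p : B)}))}) :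
    (TruncatedWittVector.coeff ⟨0, hn⟩ a) ^ (p ^ n) = 0 := by
  obtain ⟨j, hj, q, hq, rfl⟩ := Submodule.mem_sup.1 ha
  obtain ⟨c, rfl⟩ := Ideal.mem_span_singleton.1 hq
  obtain ⟨z, rfl⟩ := (truncate_surjective p n _).comp
    (map_surjective _ (Ideal.Quotient.mk_surjective (I := Ideal.span {(p : B)}))) j
  obtain ⟨w, rfl⟩ := (truncate_surjective p n _).comp
    (map_surjective _ (Ideal.Quotient.mk_surjective (I := Ideal.span {(p : B)}))) c
  simp only [Function.comp_apply, RingHom.mem_ker, hθ] at hj ⊢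
  have hp0 : (p : B ⧸ Ideal.span {(p : B)}) = 0 := by
    rw [← map_natCast (Ideal.Quotient.mk (Ideal.span {(p : B)})), Ideal.Quotient.eq_zero_iff_mem]
    exact Ideal.mem_span_singleton_self _
  rw [← map_natCast (truncate n) p, ← map_mul, ← map_add, coeff_truncate]
  have h0 : constantCoeff (WittVector.map (Ideal.Quotient.mk (Ideal.span {(p : B)})) z +
      (p : WittVector p (B ⧸ Ideal.span {(p : B)})) *
        WittVector.map (Ideal.Quotient.mk (Ideal.span {(p : B)})) w) =
      Ideal.Quotient.mk _ (z.coeff 0) := by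
    rw [map_add, map_mul, map_natCast, hp0, zero_mul, add_zero]; rfl
  rw [show ∀ y : WittVector p (B ⧸ Ideal.span {(p : B)}), y.coeff (((⟨0, hn⟩ : Fin n)) : ℕ) =
    constantCoeff y from fun _ => rfl, h0, ← map_pow, Ideal.Quotient.eq_zero_iff_mem,
    Ideal.mem_span_singleton]
  have := thetaSum_sub_coeff_zero n hn z
  rw [hj, zero_sub, dvd_neg] at this
  exact this

theorem mem_ker_sup_of_coeff_zero (n : ℕ) (hn : 0 < n) {B : Type*} [CommRing B] (hp : (p : B) ^ n = 0)
    (hF : Function.Surjective (fun y : B ⧸ Ideal.span {(p : B)} => y ^ p))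
    (θ : TruncatedWittVector p n (B ⧸ Ideal.span {(p : B)}) →+* B)
    (hθ : ∀ x : WittVector p B,
      θ (truncate n (WittVector.map (Ideal.Quotient.mk (Ideal.span {(p : B)})) x)) = thetaSum n x)
    (a : TruncatedWittVector p n (B ⧸ Ideal.span {(p : B)}))
    (ha : (TruncatedWittVector.coeff ⟨0, hn⟩ a) ^ (p ^ n) = 0) :
    a ∈ RingHom.ker θ ⊔ Ideal.span {(p : TruncatedWittVector p n (B ⧸ Ideal.span {(p : B)}))} := by
  obtain ⟨z, rfl⟩ := (truncate_surjective p n _).comp
    (map_surjective _ (Ideal.Quotient.mk_surjective (I := Ideal.span {(p : B)}))) a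
  simp only [Function.comp_apply, coeff_truncate, WittVector.map_coeff, ← map_pow,
    Ideal.Quotient.eq_zero_iff_mem, Ideal.mem_span_singleton] at ha ⊢
  obtain ⟨c, hc⟩ := ha
  obtain ⟨f, hf⟩ := exists_mem_p_pow_eq_tail n hp hF (n - 1) 1 (by omega) (-c)
  let x : WittVector p B := WittVector.mk p (Function.update f 0 (z.coeff 0))
  have hx : thetaSum n x = 0 := by
    rw [thetaSum, Fin.sum_univ_eq_sum_range (fun i => (p : B) ^ i * (x.coeff i) ^ (p ^ (n - i))) n,
      Finset.range_eq_Ico, Finset.sum_eq_sum_Ico_succ_bot hn,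
      Finset.sum_congr rfl (g := fun j => (p : B) ^ j * f j ^ (p ^ (n - j))) (fun j hj => by
        simp only [x, WittVector.coeff_mk]
        rw [Function.update_of_ne (by rw [Finset.mem_Ico] at hj; omega)])]
    simp only [x, WittVector.coeff_mk, Function.update_self, pow_zero, one_mul, tsub_zero]
    simp only [zero_add] at hf ⊢
    rw [hf, pow_one]
    linear_combination hc
  rw [Submodule.mem_sup]
  refine ⟨_, (by rw [RingHom.mem_ker, hθ x, hx]),
    truncate n (WittVector.map (Ideal.Quotient.mk _) z) - truncate n (WittVector.map (Ideal.Quotient.mk _) x),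
    ?_, add_sub_cancel _ _⟩
  have hp0 : (p : B ⧸ Ideal.span {(p : B)}) = 0 := by
    rw [← map_natCast (Ideal.Quotient.mk (Ideal.span {(p : B)})), Ideal.Quotient.eq_zero_iff_mem]
    exact Ideal.mem_span_singleton_self _
  rw [← map_sub, ← map_sub]
  have := mem_span_p_of_coeff_zero hp0 hF (z := WittVector.map (Ideal.Quotient.mk (Ideal.span {(p : B)})) (z - x))
    (by
      rw [map_sub]
      show (constantCoeff : WittVector p (B ⧸ Ideal.span {(p : B)}) →+* _) (_ - _) = 0
      rw [map_sub, sub_eq_zero]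
      show Ideal.Quotient.mk _ (z.coeff 0) = Ideal.Quotient.mk _ (x.coeff 0)
      simp [x])
  have h2 := Ideal.mem_map_of_mem (truncate (p := p) n) this
  rwa [Ideal.map_span, Set.image_singleton, map_natCast] at h2

theorem truncate_eq_sum (k : Type*) [CommRing k] [CharP k p] [PerfectRing k p] (n : ℕ)
    (x : WittVector p k) (y : Fin n → WittVector p k)
    (hy : ∀ i : Fin n, ((y i).coeff 0) ^ (p ^ n) = x.coeff i) :
    truncate n x = truncate n (∑ i : Fin n, (p : WittVector p k) ^ (i : ℕ) * (y i) ^ (p ^ (n - i))) := by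
  classical
  have hdvd : (p : WittVector p k) ^ n ∣
      x - ∑ i : Fin n, (p : WittVector p k) ^ (i : ℕ) * (y i) ^ (p ^ (n - i)) := by
    have h1 : (p : WittVector p k) ^ n ∣ x - ∑ i ∈ range n, (teichmuller p
        (((_root_.frobeniusEquiv k p).symm ^ i) (x.coeff i)) * (p : WittVector p k) ^ i) := by
      rcases n with _ | m
      · simp
      · rw [show range (m + 1) = Iic m by ext; simp]
        exact dvd_sub_sum_teichmuller_iterateFrobeniusEquiv_coeff x m
    rw [← sub_add_sub_cancel _ (∑ i ∈ range n, (teichmuller p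
        (((_root_.frobeniusEquiv k p).symm ^ i) (x.coeff i)) * (p : WittVector p k) ^ i))]
    refine dvd_add h1 ?_
    rw [← Fin.sum_univ_eq_sum_range, ← Finset.sum_sub_distrib]
    refine Finset.dvd_sum fun i _ => ?_
    have h2 : (p : WittVector p k) ∣ teichmuller p ((y i).coeff 0) - y i := by
      rw [← Ideal.mem_span_singleton, mem_span_p_iff_coeff_zero_eq_zero]
      show (constantCoeff : WittVector p k →+* k) (_ - _) = 0
      rw [map_sub, sub_eq_zero]
      exact teichmuller_coeff_zero p _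
    have h3 := dvd_sub_pow_of_dvd_sub h2 (n - i)
    have h4 : ((_root_.frobeniusEquiv k p).symm ^ (i : ℕ)) (x.coeff i) = (y i).coeff 0 ^ (p ^ (n - i)) := by
      rw [← hy i]
      have key : ∀ (j : ℕ) (u : k), ((_root_.frobeniusEquiv k p).symm ^ j) (u ^ (p ^ j)) = u := by
        intro j
        induction j with
        | zero => intro u; simp
        | succ j ih =>
          intro u
          rw [pow_succ (a := p), pow_mul, pow_succ]
          show ((_root_.frobeniusEquiv k p).symm ^ j) ((_root_.frobeniusEquiv k p).symm ((u ^ p ^ j) ^ p)) = u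
          rw [← frobenius_def, ← coe_frobeniusEquiv, RingEquiv.symm_apply_apply, ih]
      have : (y i).coeff 0 ^ (p ^ n) = ((y i).coeff 0 ^ (p ^ (n - i))) ^ (p ^ (i : ℕ)) := by
        rw [← pow_mul, ← pow_add, Nat.sub_add_cancel i.2.le]
      rw [this, key]
    rw [h4, map_pow, mul_comm (teichmuller p _ ^ _), ← mul_sub]
    calc (p : WittVector p k) ^ n ∣ (p : WittVector p k) ^ ((i : ℕ) + (n - i + 1)) := pow_dvd_pow _ (by omega)
      _ = (p : WittVector p k) ^ (i : ℕ) * (p : WittVector p k) ^ (n - i + 1) := pow_add _ _ _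
      _ ∣ _ := mul_dvd_mul_left _ h3
  rw [← sub_eq_zero, ← map_sub, ← RingHom.mem_ker, mem_ker_truncate]
  obtain ⟨c, hc⟩ := hdvd
  intro i hi
  rw [hc, mul_comm]
  exact mul_pow_charP_coeff_zero c hi

theorem truncated_natCast_pow_eq_zero (k : Type*) [CommRing k] [CharP k p] (n : ℕ) :
    (p : TruncatedWittVector p n k) ^ n = 0 := by
  rw [← map_natCast (truncate n), ← map_pow, ← RingHom.mem_ker, mem_ker_truncate]
  intro i hi
  have := mul_pow_charP_coeff_zero (p := p) (1 : WittVector p k) (n := n) hi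
  rwa [one_mul] at this

end Groth.Agent.MiscTwoH99.DPowWitt
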