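import Groth.Prelude.Def_Magnet2
import Groth.Agent.MiscTwoH99.AffProd

/-! Extension of orbit maps along a dense open monoid embedding, for an affine scheme with action. -/

universe u

open CategoryTheory CategoryTheory.Limits MonoidalCategory CartesianMonoidalCategory MonObj AlgebraicGeometry Opposite
open Magnet

namespace Groth.Agent.MiscTwoH99.EqvClosed

open AffProd

attribute [local instance] alg

variable {k : Type u} [Field k] {M G X : Over (Spec (CommRingCat.of k))} [MonObj M] [MonObj G] [IsAffine M.left]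
  [IsAffine G.left] [IsAffine X.left] (i : G ⟶ M) [IsMonHom i] (a : MonAct G X)

/-- The action of `G` on `M`. -/
noncomputable abbrev rho : MonAct G M := (MonAct.regular M).restrict i

/-- Restriction to a cover determines a morphism out of a product. -/
theorem hom_ext_cover {T V : Over (Spec (CommRingCat.of k))} (W : Over (Spec (CommRingCat.of k))) (𝒱 : T.left.OpenCover) {f g : W ⊗ T ⟶ V}
    (h : ∀ i, (W ◁ (Over.homMk (𝒱.f i) rfl : Over.mk (𝒱.f i ≫ T.hom) ⟶ T)) ≫ f =
      (W ◁ (Over.homMk (𝒱.f i) rfl : Over.mk (𝒱.f i ≫ T.hom) ⟶ T)) ≫ g) : f = g := by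
  refine Over.OverMorphism.ext (Scheme.Cover.hom_ext (𝒱.pullback₁ (snd W T).left) _ _ fun i => ?_)
  let v : Over.mk (𝒱.f i ≫ T.hom) ⟶ T := Over.homMk (𝒱.f i) rfl
  let Q : Over (Spec (CommRingCat.of k)) := Over.mk ((𝒱.pullback₁ (snd W T).left).f i ≫ (W ⊗ T).hom)
  let p : Q ⟶ W ⊗ T := Over.homMk ((𝒱.pullback₁ (snd W T).left).f i) rfl
  let q : Q ⟶ Over.mk (𝒱.f i ≫ T.hom) := Over.homMk (Limits.pullback.snd _ _) (by
    show Limits.pullback.snd _ _ ≫ 𝒱.f i ≫ T.hom = Limits.pullback.fst _ _ ≫ (W ⊗ T).hom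
    rw [← Over.w (snd W T), ← Category.assoc, ← Category.assoc]
    exact congrArg (· ≫ T.hom) Limits.pullback.condition.symm)
  have hp : p = lift (p ≫ fst _ _) q ≫ (W ◁ v) := by
    apply CartesianMonoidalCategory.hom_ext
    · simp
    · simp only [Category.assoc, whiskerLeft_snd, lift_snd_assoc]
      exact Over.OverMorphism.ext Limits.pullback.condition
  have := congrArg (lift (p ≫ fst _ _) q ≫ ·) (h i)
  simp only [v] at hp
  simp only [← Category.assoc, ← hp] at this
  exact congrArg Over.Hom.left this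

theorem orbit_of_mem {T : Over (Spec (CommRingCat.of k))} (φ : (MonAct.eqvHom (rho i) a).obj (op T)) :
    (i ▷ T) ≫ φ.1 = (G ◁ (MonAct.eqvHom.evalAt (rho i) a η[M]).app (op T) φ) ≫ a.act := by
  apply hom_ext_lift₂
  intro T' g t
  rw [lift_whiskerRight_assoc, lift_whiskerLeft_assoc]
  have h1 := (MonAct.mem_eqvHom_iff φ.1).mp φ.2 T' g 1 t
  rw [MonAct.lift_restrict_act, MonAct.lift_regular_act, _root_.mul_one] at h1
  rw [h1, MonAct.eqvHom.evalAt_app]
  congr 2
  rw [comp_lift_assoc, ← Category.assoc t, comp_toUnit, ← Hom.one_def]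
  exact congrArg (fun q => lift 1 q ≫ φ.1) (Category.comp_id t).symm

theorem evalAt_map {T T' : Over (Spec (CommRingCat.of k))} (t : T' ⟶ T) (φ : (MonAct.eqvHom (rho i) a).obj (op T)) :
    (MonAct.eqvHom.evalAt (rho i) a η[M]).app (op T') ((MonAct.eqvHom (rho i) a).map t.op φ) =
      t ≫ (MonAct.eqvHom.evalAt (rho i) a η[M]).app (op T) φ := by
  rw [MonAct.eqvHom.evalAt_app, MonAct.eqvHom.evalAt_app, MonAct.eqvHom_map_coe]
  show lift (toUnit T' ≫ η[M]) (𝟙 T') ≫ (M ◁ t) ≫ φ.1 = t ≫ lift (toUnit T ≫ η[M]) (𝟙 T) ≫ φ.1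
  rw [lift_whiskerLeft_assoc, comp_lift_assoc, ← Category.assoc t (toUnit T), comp_toUnit, Category.id_comp,
    Category.comp_id]

variable (hi : Function.Injective i.left.appTop)
include hi

theorem eqvHom_ext {T : Over (Spec (CommRingCat.of k))} {φ φ' : (MonAct.eqvHom (rho i) a).obj (op T)}
    (h : (MonAct.eqvHom.evalAt (rho i) a η[M]).app (op T) φ = (MonAct.eqvHom.evalAt (rho i) a η[M]).app (op T) φ') :
    φ = φ' := by
  refine Subtype.ext (hom_ext_cover M T.left.affineCover fun j => ?_)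
  let T' : Over (Spec (CommRingCat.of k)) := Over.mk (T.left.affineCover.f j ≫ T.hom)
  let v : T' ⟶ T := Over.homMk (T.left.affineCover.f j) rfl
  haveI : IsAffine T'.left := inferInstanceAs (IsAffine (Spec _))
  show (M ◁ v) ≫ φ.1 = (M ◁ v) ≫ φ'.1
  refine cancel_of_injective (injective_whiskerRight i T' hi) ?_
  rw [← whisker_exchange_assoc, ← whisker_exchange_assoc, orbit_of_mem, orbit_of_mem, h]

theorem mem_of_orbit {T : Over (Spec (CommRingCat.of k))} [IsAffine T.left] (x : T ⟶ X) (φ : M ⊗ T ⟶ X)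
    (h : (i ▷ T) ≫ φ = (G ◁ x) ≫ a.act) :
    MonAct.IsEquivariant ((rho i).prod (MonAct.trivial G T)) a φ ∧ lift (toUnit T ≫ η[M]) (𝟙 T) ≫ φ = x := by
  have h0 : ∀ (W : Over (Spec (CommRingCat.of k))) (g : W ⟶ G) (t : W ⟶ T),
      lift (g ≫ i) t ≫ φ = lift g (t ≫ x) ≫ a.act := fun W g t => by
    rw [← lift_whiskerRight_assoc, h, lift_whiskerLeft_assoc]
  refine ⟨cancel_of_injective (injective_whiskerLeft (i ▷ T) G (injective_whiskerRight i T hi)) ?_, ?_⟩
  · apply hom_ext_lift₂
    intro W g z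
    rw [← lift_comp_fst_snd z]
    generalize z ≫ fst G T = g'
    generalize z ≫ snd G T = t
    simp only [lift_whiskerLeft_assoc, lift_whiskerRight_assoc, lift_whiskerRight, MonAct.lift_prod_act_assoc,
      MonAct.lift_trivial_act, MonAct.lift_restrict_act, MonAct.lift_regular_act, ← MonObj.mul_comp, h0,
      MonAct.lift_mul_act]
  · rw [show toUnit T ≫ η[M] = (1 : T ⟶ G) ≫ i by rw [MonObj.one_comp]; rfl,
      h0, Category.id_comp, MonAct.lift_one_act]

theorem exists_ideal : ∃ I : Ideal Γ(X.left, ⊤), ∀ (T : Over (Spec (CommRingCat.of k))) [IsAffine T.left] (x : T ⟶ X),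
    (∃ φ, (MonAct.eqvHom.evalAt (rho i) a η[M]).app (op T) φ = x) ↔ I ≤ RingHom.ker x.left.appTop.hom := by
  let _ := koField k
  obtain ⟨I, hI⟩ := exists_ideal_range (gmap i) hi {z | tau G X z ∈ Set.range a.act.left.appTop}
  refine ⟨I, fun T _ x => ?_⟩
  rw [show RingHom.ker x.left.appTop.hom = RingHom.ker (gmap x).toRingHom from rfl, ← hI Γ(T.left, ⊤) (gmap x)]
  constructor
  · rintro ⟨φ, hφ⟩ z ⟨f, hf⟩
    obtain ⟨w, hw⟩ := (tau_bijective M T).2 (φ.1.left.appTop f)
    refine ⟨w, (tau_bijective G T).1 ?_⟩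
    have h1 := congrArg (fun q : G ⊗ T ⟶ X => q.left.appTop f) (orbit_of_mem i a φ)
    rw [hφ, ← tensorHom_id, ← id_tensorHom] at h1
    calc tau G T (Algebra.TensorProduct.map (gmap i) (AlgHom.id _ _) w)
        = tau G T (Algebra.TensorProduct.map (gmap i) (gmap (𝟙 T)) w) := rfl
      _ = (i ⊗ₘ 𝟙 T).left.appTop (tau M T w) := (tau_natural _ _ _).symm
      _ = (G ◁ x).left.appTop (a.act.left.appTop f) := by rw [hw, ← id_tensorHom]; exact h1
      _ = (𝟙 G ⊗ₘ x).left.appTop (tau G X z) := by rw [hf, id_tensorHom]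
      _ = _ := tau_natural _ _ _
  · intro h
    have hmem : ∀ f, ∃ y, (i ▷ T).left.appTop y = ((G ◁ x) ≫ a.act).left.appTop f := by
      intro f
      obtain ⟨z, hz⟩ := (tau_bijective G X).2 (a.act.left.appTop f)
      obtain ⟨w, hw⟩ := h z ⟨f, hz.symm⟩
      refine ⟨tau M T w, ?_⟩
      calc (i ▷ T).left.appTop (tau M T w) = (i ⊗ₘ 𝟙 T).left.appTop (tau M T w) := by rw [tensorHom_id]
        _ = tau G T (Algebra.TensorProduct.map (gmap i) (gmap (𝟙 T)) w) := tau_natural _ _ _
        _ = tau G T (Algebra.TensorProduct.map (gmap (𝟙 G)) (gmap x) z) := congrArg _ hw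
        _ = (𝟙 G ⊗ₘ x).left.appTop (tau G X z) := (tau_natural _ _ _).symm
        _ = _ := by rw [hz, id_tensorHom]; rfl
    choose y hy using hmem
    have hinj := injective_whiskerRight i T hi
    obtain ⟨φ, hφ⟩ := AffProd.exists_hom (V := M ⊗ T) (W := X)
      { toFun := y
        map_one' := hinj (by rw [hy, map_one, map_one])
        map_mul' := fun p q => hinj (by rw [hy, map_mul, map_mul, hy, hy])
        map_zero' := hinj (by rw [hy, map_zero, map_zero])
        map_add' := fun p q => hinj (by rw [hy, map_add, map_add, hy, hy]) }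
      (fun r => hinj (by
        show (i ▷ T).left.appTop (y _) = _
        rw [hy]
        exact ((gmap ((G ◁ x) ≫ a.act)).commutes r).trans ((gmap (i ▷ T)).commutes r).symm))
    have h2 : (i ▷ T) ≫ φ = (G ◁ x) ≫ a.act := AffProd.hom_ext fun f =>
      (congrArg _ (hφ f)).trans (hy f)
    exact ⟨⟨φ, (mem_of_orbit i a hi x φ h2).1⟩, (mem_of_orbit i a hi x φ h2).2⟩

set_option maxHeartbeats 1000000 in
theorem exists_representableBy : ∃ (Z : Over (Spec (CommRingCat.of k))) (j : Z ⟶ X)
    (e : (MonAct.eqvHom (rho i) a).RepresentableBy Z), IsClosedImmersion j.left ∧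
      ∀ (T : Over (Spec (CommRingCat.of k))) (z : T ⟶ Z),
        (MonAct.eqvHom.evalAt (rho i) a η[M]).app (op T) (e.homEquiv z) = z ≫ j := by
  obtain ⟨I, hI⟩ := exists_ideal i a hi
  let q : Γ(X.left, ⊤) ⟶ CommRingCat.of (Γ(X.left, ⊤) ⧸ I) := CommRingCat.ofHom (Ideal.Quotient.mk I)
  let Z : Over (Spec (CommRingCat.of k)) := Over.mk ((Spec.map q ≫ X.left.isoSpec.inv) ≫ X.hom)
  let j : Z ⟶ X := Over.homMk (Spec.map q ≫ X.left.isoSpec.inv) rfl
  haveI : IsAffine Z.left := inferInstanceAs (IsAffine (Spec _))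
  haveI : IsClosedImmersion (Spec.map q) := IsClosedImmersion.spec_of_surjective q Ideal.Quotient.mk_surjective
  haveI : IsClosedImmersion j.left := inferInstanceAs (IsClosedImmersion (Spec.map q ≫ X.left.isoSpec.inv))
  haveI : Mono j.left := inferInstance
  haveI : Mono j := (Over.forget _).mono_of_mono_map (inferInstanceAs (Mono j.left))
  haveI : IsIso X.left.isoSpec.hom.appTop := inferInstanceAs (IsIso (X.left.isoSpec.hom.app ⊤))
  have hj : ∀ f, j.left.appTop f = (Scheme.ΓSpecIso _).inv (Ideal.Quotient.mk I f) := by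
    intro f
    have hinv : X.left.isoSpec.inv.appTop = (Scheme.ΓSpecIso Γ(X.left, ⊤)).inv ≫ 𝟙 _ := by
      rw [← cancel_mono X.left.isoSpec.hom.appTop, ← Scheme.Hom.comp_appTop, Iso.hom_inv_id]
      simp [Scheme.isoSpec_hom, Scheme.toSpecΓ_appTop]
    have h1 : j.left.appTop = q ≫ (Scheme.ΓSpecIso _).inv := by
      show (Spec.map q ≫ X.left.isoSpec.inv).appTop = _
      rw [Scheme.Hom.comp_appTop, hinv, Category.comp_id]
      exact (Scheme.ΓSpecIso_inv_naturality q).symm
    exact congrArg (fun r => r.hom f) h1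
  have hker : RingHom.ker j.left.appTop.hom = I := by
    ext f
    rw [RingHom.mem_ker, hj, map_eq_zero_iff _ (ConcreteCategory.bijective_of_isIso (Scheme.ΓSpecIso _).inv).1,
      Ideal.Quotient.eq_zero_iff_mem]
  obtain ⟨φZ, hφZ⟩ := (hI Z j).mpr hker.ge
  have hev : ∀ (T : Over (Spec (CommRingCat.of k))) (z : T ⟶ Z),
      (MonAct.eqvHom.evalAt (rho i) a η[M]).app (op T) ((MonAct.eqvHom (rho i) a).map z.op φZ) = z ≫ j := by
    intro T z
    exact (evalAt_map i a z φZ).trans (congrArg (z ≫ ·) hφZ)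
  have hlift : ∀ (T : Over (Spec (CommRingCat.of k))) [IsAffine T.left] (x : T ⟶ X),
      I ≤ RingHom.ker x.left.appTop.hom → ∃ z : T ⟶ Z, z ≫ j = x := by
    intro T _ x hx
    have hjs : Function.Surjective j.left.appTop.hom := fun y => by
      obtain ⟨w, rfl⟩ := (ConcreteCategory.bijective_of_isIso (Scheme.ΓSpecIso (CommRingCat.of (Γ(X.left, ⊤) ⧸ I))).inv).2 y
      obtain ⟨f, rfl⟩ := Ideal.Quotient.mk_surjective w
      exact ⟨f, hj f⟩
    let ψ : Γ(Z.left, ⊤) →+* Γ(T.left, ⊤) :=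
      RingHom.liftOfSurjective j.left.appTop.hom hjs ⟨x.left.appTop.hom, hker.le.trans hx⟩
    have hψ : ∀ f, ψ (j.left.appTop f) = x.left.appTop f := fun f =>
      RingHom.liftOfRightInverse_comp_apply _ _ _ _ f
    obtain ⟨z, hz⟩ := AffProd.exists_hom (V := T) (W := Z) ψ (fun r => by
      rw [← Over.w j, Scheme.Hom.comp_appTop]
      exact (hψ _).trans ((gmap x).commutes r))
    exact ⟨z, AffProd.hom_ext fun f => (hz _).trans (hψ f)⟩
  have hbij : ∀ T : Over (Spec (CommRingCat.of k)), Function.Bijective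
      (fun z : T ⟶ Z => (MonAct.eqvHom (rho i) a).map z.op φZ) := by
    intro T
    refine ⟨fun z z' h => ?_, fun φ => ?_⟩
    · have h2 := congrArg (fun ψ => (MonAct.eqvHom.evalAt (rho i) a η[M]).app (op T) ψ) h
      simp only [hev] at h2
      exact (cancel_mono j).mp h2
    let x : T ⟶ X := (MonAct.eqvHom.evalAt (rho i) a η[M]).app (op T) φ
    have hx : ∃ z : T ⟶ Z, z ≫ j = x := by
      have hloc : ∀ c, ∃ z : Over.mk (T.left.affineCover.f c ≫ T.hom) ⟶ Z,
          z ≫ j = Over.homMk (T.left.affineCover.f c) rfl ≫ x := by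
        intro c
        let v : Over.mk (T.left.affineCover.f c ≫ T.hom) ⟶ T := Over.homMk (T.left.affineCover.f c) rfl
        haveI : IsAffine (Over.mk (T.left.affineCover.f c ≫ T.hom)).left := inferInstanceAs (IsAffine (Spec _))
        exact hlift _ _ ((hI _ _).mp ⟨(MonAct.eqvHom (rho i) a).map v.op φ, evalAt_map i a v φ⟩)
      choose z hz using hloc
      have hz' : ∀ c, (z c).left ≫ j.left = T.left.affineCover.f c ≫ x.left := fun c => congrArg Over.Hom.left (hz c)
      have hcomp : ∀ c c', pullback.fst (T.left.affineCover.f c) (T.left.affineCover.f c') ≫ (z c).left =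
          pullback.snd (T.left.affineCover.f c) (T.left.affineCover.f c') ≫ (z c').left := fun c c' => by
        rw [← cancel_mono j.left, Category.assoc, Category.assoc, hz', hz', ← Category.assoc, pullback.condition,
          Category.assoc]
      let g := Scheme.Cover.glueMorphisms T.left.affineCover (fun c => (z c).left) hcomp
      have hg : ∀ c, T.left.affineCover.f c ≫ g = (z c).left := fun c => Scheme.Cover.ι_glueMorphisms _ _ _ c
      have hgX : g ≫ j.left = x.left := Scheme.Cover.hom_ext T.left.affineCover _ _ fun c => by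
        rw [← Category.assoc, hg, hz']
      exact ⟨Over.homMk g (by rw [← Over.w j, ← Category.assoc, hgX, Over.w x]), Over.OverMorphism.ext hgX⟩
    obtain ⟨z, hz⟩ := hx
    exact ⟨z, eqvHom_ext i a hi ((hev T z).trans hz)⟩
  exact ⟨Z, j, { homEquiv := fun {T} => Equiv.ofBijective _ (hbij T)
                 homEquiv_comp := fun f g => Functor.map_comp_apply (MonAct.eqvHom (rho i) a) g.op f.op φZ }, inferInstance, hev⟩

end Groth.Agent.MiscTwoH99.EqvClosed
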