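import Groth.Agent.MiscTwoH99.FibTensor
import Groth.Agent.H28.FaceThick

/-! The push-out of `A(F) ⊗ T ← A(F) ⊗ T̄ → A(N) ⊗ T̄` for a face `F` of `N` and a closed subscheme `T̄` of affine `T`,
with its action. -/

universe u

open CategoryTheory CategoryTheory.Limits MonoidalCategory CartesianMonoidalCategory MonObj AlgebraicGeometry
open Magnet

namespace Groth.Agent.MiscTwoH99.FacePO

open MagAvg H23.CharPts

attribute [-instance] ULift.smulLeft

variable {S : Scheme.{u}} {M : Type} [AddCommGroup M] {N F : AddSubmonoid M} (hF : IsFace N F)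
  {R R₀ : Type u} [CommRing R] [CommRing R₀] (q : R →+* R₀) (str : Spec (CommRingCat.of R) ⟶ S)

/-- The projection to the face. -/
noncomputable abbrev rF (R : Type u) [CommRing R] :
    MonoidAlgebra R (Multiplicative ↥N) →+* MonoidAlgebra R (Multiplicative ↥F) :=
  (faceAlgHom R hF).toRingHom

theorem rF_single_one (r : R) : rF hF R (MonoidAlgebra.single 1 r) = MonoidAlgebra.single 1 r :=
  (faceAlgHom R hF).commutes r

theorem rF_comm : (rF hF R₀).comp (MonoidAlgebra.mapRingHom (Multiplicative ↥N) q) =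
    (MonoidAlgebra.mapRingHom (Multiplicative ↥F) q).comp (rF hF R) := by
  refine MonoidAlgebra.ringHom_ext (fun r => ?_) fun n => ?_
  · simp only [RingHom.comp_apply, MonoidAlgebra.mapRingHom_single, rF_single_one]
  · simp only [RingHom.comp_apply, MonoidAlgebra.mapRingHom_single, map_one]
    obtain ⟨n, rfl⟩ := Multiplicative.ofAdd.surjective n
    by_cases h : (n : M) ∈ F
    · rw [show rF hF R₀ (MonoidAlgebra.single (Multiplicative.ofAdd n) 1) = _ from faceAlgHom_single_of_mem R₀ hF n h 1,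
        show rF hF R (MonoidAlgebra.single (Multiplicative.ofAdd n) 1) = _ from faceAlgHom_single_of_mem R hF n h 1,
        MonoidAlgebra.mapRingHom_single, map_one]
    · rw [show rF hF R₀ (MonoidAlgebra.single (Multiplicative.ofAdd n) 1) = _ from faceAlgHom_single_of_not_mem R₀ hF n h 1,
        show rF hF R (MonoidAlgebra.single (Multiplicative.ofAdd n) 1) = _ from faceAlgHom_single_of_not_mem R hF n h 1,
        map_zero]

/-- The defining ideal. -/
noncomputable abbrev J : Ideal (MonoidAlgebra R (Multiplicative ↥N)) :=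
  RingHom.ker (MonoidAlgebra.mapRingHom (Multiplicative ↥N) q) ⊓ RingHom.ker (rF hF R)

/-- The ring of the push-out. -/
abbrev C₀ : Type u := MonoidAlgebra R (Multiplicative ↥N) ⧸ J hF q

/-- The projection. -/
noncomputable abbrev pr : MonoidAlgebra R (Multiplicative ↥N) →+* C₀ hF q := Ideal.Quotient.mk (J hF q)

/-- The first projection. -/
noncomputable abbrev al : C₀ hF q →+* MonoidAlgebra R₀ (Multiplicative ↥N) :=
  Ideal.Quotient.lift _ (MonoidAlgebra.mapRingHom (Multiplicative ↥N) q) fun _ ha => ha.1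

/-- The second projection. -/
noncomputable abbrev be : C₀ hF q →+* MonoidAlgebra R (Multiplicative ↥F) :=
  Ideal.Quotient.lift _ (rF hF R) fun _ ha => ha.2

theorem isFibreProd (hq : Function.Surjective q) :
    RingPO.IsFibreProd (rF hF R₀) (MonoidAlgebra.mapRingHom (Multiplicative ↥F) q) (al hF q) (be hF q) where
  surj z := ⟨MonoidAlgebra.mapDomainBialgHom R₀ (AddMonoidHom.toMultiplicative (AddSubmonoid.inclusion hF.le)) z,
    congrArg (fun g : MonoidAlgebra R₀ (Multiplicative ↥F) →ₐ[R₀] _ => g z) (faceAlgHom_comp_mapDomain R₀ hF)⟩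
  comm z := by
    obtain ⟨z, rfl⟩ := Ideal.Quotient.mk_surjective z
    exact RingHom.congr_fun (rF_comm hF q) z
  ext z z' h₁ h₂ := by
    obtain ⟨z, rfl⟩ := Ideal.Quotient.mk_surjective z
    obtain ⟨z', rfl⟩ := Ideal.Quotient.mk_surjective z'
    refine Ideal.Quotient.eq.mpr ⟨?_, ?_⟩
    · rw [SetLike.mem_coe, RingHom.mem_ker, map_sub, sub_eq_zero]; exact h₁
    · rw [SetLike.mem_coe, RingHom.mem_ker, map_sub, sub_eq_zero]; exact h₂
  exists_of_eq b a hab := by
    obtain ⟨z₀, rfl⟩ := MonoidAlgebra.map_surjective (M := Multiplicative ↥N) q.toAddMonoidHom hq a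
    let inc : MonoidAlgebra R (Multiplicative ↥F) →+* MonoidAlgebra R (Multiplicative ↥N) :=
      MonoidAlgebra.mapDomainRingHom R (AddMonoidHom.toMultiplicative (AddSubmonoid.inclusion hF.le))
    have hinc : ∀ z, rF hF R (inc z) = z := fun z =>
      congrArg (fun g : MonoidAlgebra R (Multiplicative ↥F) →ₐ[R] _ => g z) (faceAlgHom_comp_mapDomain R hF)
    have hb : MonoidAlgebra.mapRingHom (Multiplicative ↥F) q (b - rF hF R z₀) = 0 := by
      rw [map_sub, sub_eq_zero]
      exact hab.symm.trans (RingHom.congr_fun (rF_comm hF q) z₀)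
    have hqinc : MonoidAlgebra.mapRingHom (Multiplicative ↥N) q (inc (b - rF hF R z₀)) = 0 := by
      rw [← RingHom.comp_apply, MonoidAlgebra.mapRingHom_comp_mapDomainRingHom, RingHom.comp_apply, hb, map_zero]
    refine ⟨pr hF q (z₀ + inc (b - rF hF R z₀)), ?_, ?_⟩
    · show MonoidAlgebra.mapRingHom (Multiplicative ↥N) q _ = _
      rw [map_add, hqinc, add_zero]
      rfl
    · show rF hF R _ = b
      rw [map_add, hinc, add_sub_cancel]

/-- The push-out. -/
noncomputable abbrev PP : Over S := W₀ (Q ↥N str).hom (pr hF q)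

theorem hal : Spec.map (CommRingCat.ofHom (al hF q)) ≫ (PP hF q str).hom =
    (Q ↥N (Spec.map (CommRingCat.ofHom q) ≫ str)).hom := by
  rw [← qmap_aux (K := ↥N) q (str := str) rfl]
  show Spec.map _ ≫ Spec.map _ ≫ _ = _
  rw [← Spec.map_comp_assoc]
  rfl

theorem hbe : Spec.map (CommRingCat.ofHom (be hF q)) ≫ (PP hF q str).hom = (Q ↥F str).hom := by
  show Spec.map _ ≫ Spec.map _ ≫ Spec.map _ ≫ str = Spec.map _ ≫ str
  rw [← Spec.map_comp_assoc, ← Spec.map_comp_assoc]
  congr 2
  exact CommRingCat.hom_ext (RingHom.ext fun r => rF_single_one hF r)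

theorem hrF : Spec.map (CommRingCat.ofHom (rF hF R)) ≫ (Q ↥N str).hom = (Q ↥F str).hom := by
  show Spec.map _ ≫ Spec.map _ ≫ str = Spec.map _ ≫ str
  rw [← Spec.map_comp_assoc]
  congr 2
  exact CommRingCat.hom_ext (RingHom.ext fun r => rF_single_one hF r)

theorem jQ_face : jQ (K := ↥F) str ≫ AMonS.faceMap S hF ▷ W str =
    (hm (rF hF R) (hrF hF str) : Q ↥F str ⟶ Q ↥N str) ≫ jQ str := by
  rw [jQ, jQ, lift_whiskerRight, comp_lift, hm_comp]
  congr 1
  · refine chiR_injective (MonoidHom.ext fun n => ?_)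
    rw [chiR_comp, chiR_qg]
    obtain ⟨n, rfl⟩ := Multiplicative.ofAdd.surjective n
    show (Scheme.ΓSpecIso _).hom (chi (qg str ≫ AMonS.faceMap S hF) (Multiplicative.ofAdd n)) =
      rF hF R (MonoidAlgebra.single (Multiplicative.ofAdd n) 1)
    by_cases h : (n : M) ∈ F
    · rw [H28.FaceThick.chi_face_mem N F _ n h,
        show rF hF R (MonoidAlgebra.single (Multiplicative.ofAdd n) 1) = _ from faceAlgHom_single_of_mem R hF n h 1]
      exact DFunLike.congr_fun (chiR_qg str) _
    · rw [H28.FaceThick.chi_face_notMem N F _ n h,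
        show rF hF R (MonoidAlgebra.single (Multiplicative.ofAdd n) 1) = _ from faceAlgHom_single_of_not_mem R hF n h 1]
      exact map_zero _
  · exact hm_congr (RingHom.ext fun r => (rF_single_one hF r).symm) _ _

variable (hq : Function.Surjective q)

/-- The inclusion of the push-out. -/
noncomputable def rP : PP hF q str ⟶ AMonS S ↥N ⊗ W str := red (Q ↥N str).hom (pr hF q) ≫ jQ str

/-- The `A(N)` leg. -/
noncomputable def iN : AMonS S ↥N ⊗ W₀ str q ⟶ PP hF q str :=
  haveI := isIso_jQ (K := ↥N) (Spec.map (CommRingCat.ofHom q) ≫ str)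
  inv (jQ (K := ↥N) (Spec.map (CommRingCat.ofHom q) ≫ str)) ≫ hm (al hF q) (hal hF q str)

/-- The `A(F)` leg. -/
noncomputable def iF : AMonS S ↥F ⊗ W str ⟶ PP hF q str :=
  haveI := isIso_jQ (K := ↥F) str
  inv (jQ (K := ↥F) str) ≫ hm (be hF q) (hbe hF q str)

theorem mono_rP : Mono (rP hF q str) := by
  haveI := isIso_jQ (K := ↥N) str
  haveI : IsClosedImmersion (red (Q ↥N str).hom (pr hF q)).left :=
    IsClosedImmersion.spec_of_surjective _ Ideal.Quotient.mk_surjective
  haveI : Mono ((Over.forget S).map (red (Q ↥N str).hom (pr hF q))) :=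
    inferInstanceAs (Mono (red (Q ↥N str).hom (pr hF q)).left)
  haveI : Mono (red (Q ↥N str).hom (pr hF q)) := (Over.forget S).mono_of_mono_map ‹_›
  unfold rP
  infer_instance

theorem iN_rP : iN hF q str ≫ rP hF q str = AMonS S ↥N ◁ red str q := by
  haveI := isIso_jQ (K := ↥N) (Spec.map (CommRingCat.ofHom q) ≫ str)
  rw [← cancel_epi (jQ (K := ↥N) (Spec.map (CommRingCat.ofHom q) ≫ str)), iN, rP, jQ_whiskerLeft q rfl (qmap_aux q rfl)]
  simp only [Category.assoc, IsIso.hom_inv_id_assoc]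
  rw [← Category.assoc, hm_comp]
  exact congrArg (· ≫ jQ str) (hm_congr (RingHom.ext fun z => rfl) _ _)

theorem iF_rP : iF hF q str ≫ rP hF q str = AMonS.faceMap S hF ▷ W str := by
  haveI := isIso_jQ (K := ↥F) str
  rw [← cancel_epi (jQ (K := ↥F) str), iF, rP, jQ_face hF str]
  simp only [Category.assoc, IsIso.hom_inv_id_assoc]
  rw [← Category.assoc, hm_comp]
  exact congrArg (· ≫ jQ str) (hm_congr (RingHom.ext fun z => rfl) _ _)

theorem square : AMonS.faceMap S hF ▷ W₀ str q ≫ iN hF q str = AMonS S ↥F ◁ red str q ≫ iF hF q str := by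
  haveI := mono_rP hF q str
  rw [← cancel_mono (rP hF q str), Category.assoc, Category.assoc, iN_rP, iF_rP, whisker_exchange]

theorem qsquare :
    (hm (rF hF R₀) (hrF hF (Spec.map (CommRingCat.ofHom q) ≫ str)) : Q ↥F _ ⟶ Q ↥N (Spec.map (CommRingCat.ofHom q) ≫ str))
      ≫ jQ _ = jQ _ ≫ AMonS.faceMap S hF ▷ W₀ str q :=
  (jQ_face hF _).symm

include hq in
theorem exists_desc {X : Over S} (f₂ : AMonS S ↥N ⊗ W₀ str q ⟶ X) (f₁ : AMonS S ↥F ⊗ W str ⟶ X)
    (w : AMonS.faceMap S hF ▷ W₀ str q ≫ f₂ = AMonS S ↥F ◁ red str q ≫ f₁) :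
    ∃ k : PP hF q str ⟶ X, iN hF q str ≫ k = f₂ ∧ iF hF q str ≫ k = f₁ := by
  haveI := isIso_jQ (K := ↥N) (Spec.map (CommRingCat.ofHom q) ≫ str)
  haveI := isIso_jQ (K := ↥F) str
  obtain ⟨k, hk₁, hk₂⟩ := FibTensor.exists_desc_over (isFibreProd hF q hq) (hal hF q str) (hbe hF q str)
    (hrF hF _) (qmap_aux q rfl) (jQ _ ≫ f₂) (jQ str ≫ f₁) (by
      rw [reassoc_of% qsquare hF q str, w, ← Category.assoc, jQ_whiskerLeft q rfl (qmap_aux q rfl), Category.assoc])
  exact ⟨k, by rw [iN, Category.assoc, hk₁, IsIso.inv_hom_id_assoc], by rw [iF, Category.assoc, hk₂, IsIso.inv_hom_id_assoc]⟩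

include hq in
theorem hom_ext {X : Over S} {f g : PP hF q str ⟶ X} (h₂ : iN hF q str ≫ f = iN hF q str ≫ g)
    (h₁ : iF hF q str ≫ f = iF hF q str ≫ g) : f = g := by
  haveI := isIso_jQ (K := ↥N) (Spec.map (CommRingCat.ofHom q) ≫ str)
  haveI := isIso_jQ (K := ↥F) str
  rw [iN, Category.assoc, Category.assoc, cancel_epi] at h₂
  rw [iF, Category.assoc, Category.assoc, cancel_epi] at h₁
  exact FibTensor.hom_ext_over (isFibreProd hF q hq) (hal hF q str) (hbe hF q str) h₂ h₁

include hq in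
theorem hom_ext_tensor {K : Type} [AddCommMonoid K] {X : Over S} {f g : AMonS S K ⊗ PP hF q str ⟶ X}
    (h₂ : AMonS S K ◁ iN hF q str ≫ f = AMonS S K ◁ iN hF q str ≫ g)
    (h₁ : AMonS S K ◁ iF hF q str ≫ f = AMonS S K ◁ iF hF q str ≫ g) : f = g := by
  haveI := isIso_jQ (K := ↥N) (Spec.map (CommRingCat.ofHom q) ≫ str)
  haveI := isIso_jQ (K := ↥F) str
  refine FibTensor.hom_ext_tensor (isFibreProd hF q hq) (hal hF q str) (hbe hF q str) ?_ ?_
  · rw [show hm (al hF q) (hal hF q str) = jQ _ ≫ iN hF q str by rw [iN, IsIso.hom_inv_id_assoc],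
      MonoidalCategory.whiskerLeft_comp_assoc, MonoidalCategory.whiskerLeft_comp_assoc, h₂]
  · rw [show hm (be hF q) (hbe hF q str) = jQ str ≫ iF hF q str by rw [iF, IsIso.hom_inv_id_assoc],
      MonoidalCategory.whiskerLeft_comp_assoc, MonoidalCategory.whiskerLeft_comp_assoc, h₁]

include hq in
/-- The action on the push-out. -/
theorem exists_act : ∃ aP : MonAct (AMonS S M) (PP hF q str),
    MonAct.IsEquivariant ((subAct S M N).prod (MonAct.trivial (AMonS S M) (W₀ str q))) aP (iN hF q str) ∧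
    MonAct.IsEquivariant ((subAct S M F).prod (MonAct.trivial (AMonS S M) (W str))) aP (iF hF q str) ∧
    MonAct.IsEquivariant aP ((subAct S M N).prod (MonAct.trivial (AMonS S M) (W str))) (rP hF q str) := by
  let βN := (subAct S M N).prod (MonAct.trivial (AMonS S M) (W₀ str q))
  let βF := (subAct S M F).prod (MonAct.trivial (AMonS S M) (W str))
  let β := (subAct S M N).prod (MonAct.trivial (AMonS S M) (W str))
  have hface : ∀ T : Over S, ((subAct S M F).prod (MonAct.trivial (AMonS S M) T)).act ≫ AMonS.faceMap S hF ▷ T =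
      AMonS S M ◁ (AMonS.faceMap S hF ▷ T) ≫ ((subAct S M N).prod (MonAct.trivial (AMonS S M) T)).act := fun T => by
    refine hom_ext_lift₂ fun T' g z => ?_
    rw [← lift_comp_fst_snd z, MonAct.lift_prod_act_assoc, MonAct.lift_trivial_act, lift_whiskerRight,
      lift_whiskerLeft_assoc, lift_whiskerRight, MonAct.lift_prod_act, MonAct.lift_trivial_act,
      Category.assoc, (MonAct.isEquivariant_iff _ _ _).mp (isEquivariant_faceMapS S hF) T' g]
  haveI := mono_rP hF q str
  haveI := isIso_jQ (K := ↥N) (Spec.map (CommRingCat.ofHom q) ≫ str)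
  haveI := isIso_jQ (K := ↥F) str
  obtain ⟨ρ, hρ₂, hρ₁⟩ := FibTensor.exists_desc_tensor (K := M) (isFibreProd hF q hq) (hal hF q str) (hbe hF q str)
    (hrF hF _) (qmap_aux q rfl)
    (AMonS S M ◁ jQ _ ≫ βN.act ≫ iN hF q str) (AMonS S M ◁ jQ str ≫ βF.act ≫ iF hF q str) (by
      rw [← MonoidalCategory.whiskerLeft_comp_assoc, ← MonoidalCategory.whiskerLeft_comp_assoc, qsquare,
        ← jQ_whiskerLeft q rfl (qmap_aux q rfl), MonoidalCategory.whiskerLeft_comp_assoc,
        MonoidalCategory.whiskerLeft_comp_assoc, ← reassoc_of% hface (W₀ str q),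
        ← MonAct.prod_trivial_act_whiskerLeft_assoc, square])
  have eN : AMonS S M ◁ iN hF q str ≫ ρ = βN.act ≫ iN hF q str := by
    rw [iN, MonoidalCategory.whiskerLeft_comp_assoc, hρ₂, ← MonoidalCategory.whiskerLeft_comp_assoc,
      IsIso.inv_hom_id, MonoidalCategory.whiskerLeft_id, Category.id_comp, iN]
  have eF : AMonS S M ◁ iF hF q str ≫ ρ = βF.act ≫ iF hF q str := by
    rw [iF, MonoidalCategory.whiskerLeft_comp_assoc, hρ₁, ← MonoidalCategory.whiskerLeft_comp_assoc,
      IsIso.inv_hom_id, MonoidalCategory.whiskerLeft_id, Category.id_comp, iF]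
  have er : ρ ≫ rP hF q str = AMonS S M ◁ rP hF q str ≫ β.act := by
    refine hom_ext_tensor hF q str hq ?_ ?_
    · rw [reassoc_of% eN, iN_rP, ← MonoidalCategory.whiskerLeft_comp_assoc, iN_rP]
      exact MonAct.prod_trivial_act_whiskerLeft (subAct S M N) _
    · rw [reassoc_of% eF, iF_rP, ← MonoidalCategory.whiskerLeft_comp_assoc, iF_rP]
      exact hface _
  refine ⟨MonAct.mk' ρ (fun T w => ?_) (fun T g h w => ?_), eN.symm, eF.symm, er⟩
  · rw [← cancel_mono (rP hF q str), Category.assoc, er, lift_whiskerLeft_assoc, β.lift_one_act]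
  · rw [← cancel_mono (rP hF q str)]
    simp only [Category.assoc, er, lift_whiskerLeft_assoc]
    rw [β.lift_mul_act]

end Groth.Agent.MiscTwoH99.FacePO
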