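import Mathlib

/-! An additive weight vanishing exactly on a face of a finitely generated monoid. -/

namespace Groth.Agent.MiscTwoH99.FaceWeight

/-- A finitely generated abelian group separates its elements of infinite order by maps to `ℤ`. -/
theorem exists_pos {A : Type*} [AddCommGroup A] [AddGroup.FG A] (v : A) (hv : ∀ k : ℕ, k • v = 0 → k = 0) :
    ∃ η : A →+ ℤ, 0 < η v := by
  haveI : Module.Finite ℤ A := Module.Finite.iff_addGroup_fg.mpr inferInstance
  let T := Submodule.torsion ℤ A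
  have hne : (Submodule.Quotient.mk v : A ⧸ T) ≠ 0 := by
    rw [Ne, Submodule.Quotient.mk_eq_zero]
    rintro ⟨⟨a, ha⟩, h⟩
    have h1 : (a.natAbs : ℕ) • v = 0 := by
      have h2 : a • v = 0 := h
      rcases Int.natAbs_eq a with ha' | ha' <;> rw [ha'] at h2
      · simpa using h2
      · simpa [neg_eq_zero] using h2
    exact nonZeroDivisors.ne_zero ha (Int.natAbs_eq_zero.mp (hv _ h1))
  haveI : Module.Free ℤ (A ⧸ T) := Module.free_of_finite_type_torsion_free'
  let b := Module.Free.chooseBasis ℤ (A ⧸ T)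
  obtain ⟨i, hi⟩ : ∃ i, b.repr (Submodule.Quotient.mk v) i ≠ 0 := by
    by_contra h
    push Not at h
    exact hne (b.repr.map_eq_zero_iff.mp (Finsupp.ext h))
  let η : A →+ ℤ := ((b.coord i).comp T.mkQ).toAddMonoidHom
  rcases lt_or_gt_of_ne hi with h | h
  · exact ⟨-η, by simpa [η] using h⟩
  · exact ⟨η, h⟩

/-- Gordan's theorem: vectors without a non-negative relation are positive for some linear form. -/
theorem gordan {A : Type*} [AddCommGroup A] [AddGroup.FG A] : ∀ (n : ℕ) (v : Fin n → A),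
    (∀ a : Fin n → ℕ, ∑ i, a i • v i = 0 → a = 0) → ∃ θ : A →+ ℤ, ∀ i, 0 < θ (v i)
  | 0, _, _ => ⟨0, fun i => i.elim0⟩
  | n + 1, v, hv => by
    let v' := fun i : Fin n => v i.castSucc
    let vn := v (Fin.last n)
    obtain ⟨φ, hφ⟩ := gordan n v' fun a ha => by
      have h := hv (Fin.snoc a 0) (by simpa [Fin.sum_univ_castSucc, v'] using ha)
      funext i
      simpa using congrFun h i.castSucc
    by_cases hn : 0 < φ vn
    · exact ⟨φ, Fin.lastCases hn hφ⟩
    push Not at hn
    have hvn : ∀ k : ℕ, k • vn = 0 → k = 0 := fun k hk => by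
      simpa using congrFun (hv (Fin.snoc 0 k) (by simpa [Fin.sum_univ_castSucc, vn] using hk)) (Fin.last n)
    let w := fun i : Fin n => φ (v' i) • vn - φ vn • v' i
    obtain ⟨ψ, hψ⟩ := gordan n w fun a ha => by
      have hnn : 0 ≤ ∑ i, (a i : ℤ) * φ (v' i) :=
        Finset.sum_nonneg fun i _ => mul_nonneg (Int.natCast_nonneg _) (hφ i).le
      have hpos : ∀ i, 0 ≤ (a i : ℤ) * -φ vn := fun i => mul_nonneg (Int.natCast_nonneg _) (by omega)
      have hc := hv (Fin.snoc (fun i => ((a i : ℤ) * -φ vn).toNat) (∑ i, (a i : ℤ) * φ (v' i)).toNat) (by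
        rw [Fin.sum_univ_castSucc]
        simp only [Fin.snoc_castSucc, Fin.snoc_last]
        rw [← ha, ← natCast_zsmul, Int.toNat_of_nonneg hnn, Finset.sum_smul, ← Finset.sum_add_distrib]
        refine Finset.sum_congr rfl fun i _ => ?_
        rw [← natCast_zsmul (v i.castSucc), Int.toNat_of_nonneg (hpos i), ← natCast_zsmul (w i)]
        show _ = (a i : ℤ) • (φ (v' i) • v (Fin.last n) - φ vn • v i.castSucc)
        rw [smul_sub, smul_smul, smul_smul, mul_neg, neg_smul]
        abel)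
      have h0 := congrFun hc (Fin.last n)
      simp only [Fin.snoc_last, Pi.zero_apply, Int.toNat_eq_zero] at h0
      funext i
      have h1 := (Finset.sum_eq_zero_iff_of_nonneg fun j _ => mul_nonneg (Int.natCast_nonneg (a j)) (hφ j).le).mp
        (le_antisymm h0 hnn) i (Finset.mem_univ i)
      rcases mul_eq_zero.mp h1 with h | h
      · exact_mod_cast h
      · exact absurd h (hφ i).ne'
    let θ₁ : A →+ ℤ := ψ vn • φ - φ vn • ψ
    have hθ₁ : ∀ i, 0 < θ₁ (v' i) := fun i => by
      have := hψ i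
      simp only [w, map_sub, map_zsmul, smul_eq_mul] at this
      simp only [θ₁, AddMonoidHom.sub_apply, AddMonoidHom.smul_apply, smul_eq_mul]
      linarith
    have hθn : θ₁ vn = 0 := by
      simp only [θ₁, AddMonoidHom.sub_apply, AddMonoidHom.smul_apply, smul_eq_mul]
      ring
    obtain ⟨η, hη⟩ := exists_pos vn hvn
    let K : ℤ := 1 + ∑ i, |η (v' i)|
    have hK : 0 < K := by
      have : 0 ≤ ∑ i, |η (v' i)| := Finset.sum_nonneg fun i _ => abs_nonneg _
      omega
    refine ⟨K • θ₁ + η, Fin.lastCases ?_ fun i => ?_⟩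
    · show 0 < K * θ₁ vn + η vn
      rw [hθn, mul_zero, zero_add]
      exact hη
    · show 0 < K * θ₁ (v' i) + η (v' i)
      have h1 : |η (v' i)| ≤ K - 1 := by
        have := Finset.single_le_sum (f := fun j => |η (v' j)|) (fun j _ => abs_nonneg _) (Finset.mem_univ i)
        simp only [K]
        omega
      have h2 := neg_abs_le (η (v' i))
      have h3 : K * 1 ≤ K * θ₁ (v' i) := mul_le_mul_of_nonneg_left (hθ₁ i) hK.le
      omega

/-- A face of a finitely generated monoid is the zero set of an additive weight. -/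
theorem exists_weight {M : Type*} [AddCommGroup M] [AddGroup.FG M] {N F : AddSubmonoid M} (hN : N.FG)
    (hle : F ≤ N) (hF : ∀ x ∈ N, ∀ y ∈ N, x + y ∈ F → x ∈ F ∧ y ∈ F) :
    ∃ w : N →+ ℕ, ∀ n : N, w n = 0 ↔ (n : M) ∈ F := by
  classical
  obtain ⟨s, hs⟩ := hN
  have hgN : ∀ g ∈ s, g ∈ N := fun g hg => hs ▸ AddSubmonoid.subset_closure hg
  let FG := AddSubgroup.closure (F : Set M)
  have hdiff : ∀ x ∈ FG, ∃ f₁ ∈ F, ∃ f₂ ∈ F, x + f₂ = f₁ := fun x hx => by
    induction hx using AddSubgroup.closure_induction with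
    | mem x hx => exact ⟨x, hx, 0, F.zero_mem, add_zero x⟩
    | zero => exact ⟨0, F.zero_mem, 0, F.zero_mem, add_zero 0⟩
    | add x y _ _ hx hy =>
      obtain ⟨a, ha, b, hb, rfl⟩ := hx
      obtain ⟨c, hc, d, hd, rfl⟩ := hy
      exact ⟨_, F.add_mem ha hc, _, F.add_mem hb hd, by abel⟩
    | neg x _ hx =>
      obtain ⟨a, ha, b, hb, rfl⟩ := hx
      exact ⟨b, hb, _, ha, by abel⟩
  let q := QuotientAddGroup.mk' FG
  haveI : AddGroup.FG (M ⧸ FG) := AddGroup.fg_of_surjective (f := q) QuotientAddGroup.mk_surjective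
  let t := s.filter (· ∉ F)
  let e := t.equivFin.symm
  obtain ⟨θ, hθ⟩ := gordan t.card (fun i => q (e i : M)) fun a ha => by
    let x := ∑ i, a i • (e i : M)
    have hx : q x = 0 := by simpa [x, map_sum, map_nsmul] using ha
    obtain ⟨f₁, hf₁, f₂, hf₂, h12⟩ := hdiff x ((QuotientAddGroup.eq_zero_iff _).mp hx)
    funext i
    by_contra hi
    obtain ⟨b, hb⟩ : ∃ b, a i = b + 1 := ⟨a i - 1, by have : a i ≠ 0 := hi; omega⟩
    have hiN : ∀ j, (e j : M) ∈ N := fun j => hgN _ (Finset.mem_filter.mp (e j).2).1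
    have hxF : x ∈ F := (hF x (sum_mem fun j _ => nsmul_mem (hiN j) _) f₂ (hle hf₂) (h12 ▸ hf₁)).1
    have hsplit : x = (e i : M) + (b • (e i : M) + ∑ j ∈ Finset.univ.erase i, a j • (e j : M)) := by
      rw [← add_assoc, add_comm (e i : M), ← succ_nsmul, ← hb]
      exact (Finset.add_sum_erase Finset.univ (fun j => a j • (e j : M)) (Finset.mem_univ i)).symm
    exact (Finset.mem_filter.mp (e i).2).2
      (hF _ (hiN i) _ (N.add_mem (nsmul_mem (hiN i) _) (sum_mem fun j _ => nsmul_mem (hiN j) _)) (hsplit ▸ hxF)).1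
  let θM := θ.comp q
  have hzero : ∀ x ∈ F, θM x = 0 := fun x hx => by
    show θ (q x) = 0
    rw [show q x = 0 from (QuotientAddGroup.eq_zero_iff x).mpr (AddSubgroup.subset_closure hx), map_zero]
  have hgen : ∀ g ∈ s, 0 ≤ θM g ∧ (θM g = 0 → g ∈ F) := fun g hg => by
    by_cases hgF : g ∈ F
    · exact ⟨(hzero g hgF).ge, fun _ => hgF⟩
    · have h1 : 0 < θM g := by
        simpa [e, θM] using hθ (t.equivFin ⟨g, Finset.mem_filter.mpr ⟨hg, hgF⟩⟩)
      exact ⟨h1.le, fun h => absurd h h1.ne'⟩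
  have hall : ∀ x ∈ N, 0 ≤ θM x ∧ (θM x = 0 → x ∈ F) := fun x hx => by
    rw [← hs] at hx
    induction hx using AddSubmonoid.closure_induction with
    | mem g hg => exact hgen g hg
    | zero => exact ⟨(map_zero θM).ge, fun _ => F.zero_mem⟩
    | add x y _ _ hx hy =>
      rw [map_add]
      exact ⟨add_nonneg hx.1 hy.1, fun h => F.add_mem (hx.2 (by omega)) (hy.2 (by omega))⟩
  refine ⟨{ toFun := fun n => (θM n).toNat, map_zero' := by simp, map_add' := fun x y => ?_ }, fun n => ?_⟩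
  · show (θM ((x : M) + y)).toNat = _
    rw [map_add, Int.toNat_add (hall _ x.2).1 (hall _ y.2).1]
  · show (θM n).toNat = 0 ↔ _
    rw [Int.toNat_eq_zero]
    exact ⟨fun h => (hall _ n.2).2 (le_antisymm h (hall _ n.2).1), fun h => (hzero _ h).le⟩

end Groth.Agent.MiscTwoH99.FaceWeight
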