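import Groth.Agent.MiscTwoH99.MagAvg

/-! Spectra of fibre products of rings as push-outs over a base, also after multiplying by a diagonalizable group. -/

universe u

open CategoryTheory CategoryTheory.Limits MonoidalCategory CartesianMonoidalCategory MonObj AlgebraicGeometry
open Magnet

namespace Groth.Agent.MiscTwoH99.FibTensor

open MagAvg

attribute [-instance] ULift.smulLeft

variable {S : Scheme.{u}} {A A' B C : Type u} [CommRing A] [CommRing A'] [CommRing B] [CommRing C]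
  {p : A' →+* A} {q : B →+* A} {α : C →+* A'} {β : C →+* B}
  {sA : Spec (CommRingCat.of A) ⟶ S} {sA' : Spec (CommRingCat.of A') ⟶ S} {sB : Spec (CommRingCat.of B) ⟶ S}
  {sC : Spec (CommRingCat.of C) ⟶ S}

theorem hom_ext_over (h : RingPO.IsFibreProd p q α β) (hα : Spec.map (CommRingCat.ofHom α) ≫ sC = sA')
    (hβ : Spec.map (CommRingCat.ofHom β) ≫ sC = sB) {X : Over S} {f g : W sC ⟶ X}
    (h₁ : (hm α hα : W sA' ⟶ W sC) ≫ f = hm α hα ≫ g) (h₂ : (hm β hβ : W sB ⟶ W sC) ≫ f = hm β hβ ≫ g) : f = g :=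
  Over.OverMorphism.ext (h.hom_ext (congrArg Over.Hom.left h₁) (congrArg Over.Hom.left h₂))

theorem exists_desc_over (h : RingPO.IsFibreProd p q α β) (hα : Spec.map (CommRingCat.ofHom α) ≫ sC = sA')
    (hβ : Spec.map (CommRingCat.ofHom β) ≫ sC = sB) (hp : Spec.map (CommRingCat.ofHom p) ≫ sA' = sA)
    (hq : Spec.map (CommRingCat.ofHom q) ≫ sB = sA) {X : Over S} (f : W sA' ⟶ X) (g : W sB ⟶ X)
    (w : (hm p hp : W sA ⟶ W sA') ≫ f = hm q hq ≫ g) :
    ∃ k : W sC ⟶ X, (hm α hα : W sA' ⟶ W sC) ≫ k = f ∧ (hm β hβ : W sB ⟶ W sC) ≫ k = g := by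
  obtain ⟨k, hk₁, hk₂⟩ := h.exists_desc f.left g.left (congrArg Over.Hom.left w)
  have hk : k ≫ X.hom = sC := h.hom_ext
    (by rw [← Category.assoc, hk₁, hα]; exact Over.w f) (by rw [← Category.assoc, hk₂, hβ]; exact Over.w g)
  exact ⟨Over.homMk k hk, Over.OverMorphism.ext hk₁, Over.OverMorphism.ext hk₂⟩

/-- Monoid algebras of a fibre product form a fibre product. -/
theorem isFibreProd_monoidAlgebra (h : RingPO.IsFibreProd p q α β) (G : Type) [CommMonoid G] :
    RingPO.IsFibreProd (MonoidAlgebra.mapRingHom G p) (MonoidAlgebra.mapRingHom G q)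
      (MonoidAlgebra.mapRingHom G α) (MonoidAlgebra.mapRingHom G β) where
  surj := MonoidAlgebra.map_surjective p.toAddMonoidHom h.surj
  comm z := MonoidAlgebra.coeff_injective (Finsupp.ext fun g => by
    simp only [MonoidAlgebra.coeff_mapRingHom]
    exact h.comm _)
  ext z z' h₁ h₂ := MonoidAlgebra.coeff_injective (Finsupp.ext fun g => h.ext _ _
    (by simpa only [MonoidAlgebra.coeff_mapRingHom] using congrArg (fun x : MonoidAlgebra A' G => x.coeff g) h₁)
    (by simpa only [MonoidAlgebra.coeff_mapRingHom] using congrArg (fun x : MonoidAlgebra B G => x.coeff g) h₂))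
  exists_of_eq b a hab := by
    classical
    have hg : ∀ g, p (a.coeff g) = q (b.coeff g) := fun g => by
      simpa only [MonoidAlgebra.coeff_mapRingHom] using congrArg (fun x : MonoidAlgebra A G => x.coeff g) hab
    choose z hz₁ hz₂ using fun g => h.exists_of_eq _ _ (hg g)
    let s := a.coeff.support ∪ b.coeff.support
    refine ⟨∑ g ∈ s, MonoidAlgebra.single g (z g), MonoidAlgebra.coeff_injective (Finsupp.ext fun g => ?_),
      MonoidAlgebra.coeff_injective (Finsupp.ext fun g => ?_)⟩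
    · rw [map_sum]
      simp only [MonoidAlgebra.mapRingHom_single, MonoidAlgebra.coeff_sum, MonoidAlgebra.coeff_single,
        Finsupp.finsetSum_apply, Finsupp.single_apply, Finset.sum_ite_eq', hz₁]
      refine ite_eq_left_iff.mpr fun hs => ?_
      exact (Finsupp.notMem_support_iff.mp fun hg' => hs (Finset.mem_union_left _ hg')).symm
    · rw [map_sum]
      simp only [MonoidAlgebra.mapRingHom_single, MonoidAlgebra.coeff_sum, MonoidAlgebra.coeff_single,
        Finsupp.finsetSum_apply, Finsupp.single_apply, Finset.sum_ite_eq', hz₂]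
      refine ite_eq_left_iff.mpr fun hs => ?_
      exact (Finsupp.notMem_support_iff.mp fun hg' => hs (Finset.mem_union_right _ hg')).symm

variable {K : Type} [AddCommMonoid K]

theorem hom_ext_tensor (h : RingPO.IsFibreProd p q α β) (hα : Spec.map (CommRingCat.ofHom α) ≫ sC = sA')
    (hβ : Spec.map (CommRingCat.ofHom β) ≫ sC = sB) {X : Over S} {f g : AMonS S K ⊗ W sC ⟶ X}
    (h₁ : AMonS S K ◁ (hm α hα : W sA' ⟶ W sC) ≫ f = AMonS S K ◁ hm α hα ≫ g)
    (h₂ : AMonS S K ◁ (hm β hβ : W sB ⟶ W sC) ≫ f = AMonS S K ◁ hm β hβ ≫ g) : f = g := by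
  haveI := isIso_jQ (K := K) sC
  rw [← cancel_epi (jQ sC)]
  refine hom_ext_over (isFibreProd_monoidAlgebra h (Multiplicative K)) (qmap_aux α hα) (qmap_aux β hβ) ?_ ?_
  · rw [← Category.assoc, ← jQ_whiskerLeft α hα _, Category.assoc, h₁, ← Category.assoc, jQ_whiskerLeft α hα _,
      Category.assoc]
  · rw [← Category.assoc, ← jQ_whiskerLeft β hβ _, Category.assoc, h₂, ← Category.assoc, jQ_whiskerLeft β hβ _,
      Category.assoc]

theorem exists_desc_tensor (h : RingPO.IsFibreProd p q α β) (hα : Spec.map (CommRingCat.ofHom α) ≫ sC = sA')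
    (hβ : Spec.map (CommRingCat.ofHom β) ≫ sC = sB) (hp : Spec.map (CommRingCat.ofHom p) ≫ sA' = sA)
    (hq : Spec.map (CommRingCat.ofHom q) ≫ sB = sA) {X : Over S} (f : AMonS S K ⊗ W sA' ⟶ X) (g : AMonS S K ⊗ W sB ⟶ X)
    (w : AMonS S K ◁ (hm p hp : W sA ⟶ W sA') ≫ f = AMonS S K ◁ hm q hq ≫ g) :
    ∃ k : AMonS S K ⊗ W sC ⟶ X,
      AMonS S K ◁ (hm α hα : W sA' ⟶ W sC) ≫ k = f ∧ AMonS S K ◁ (hm β hβ : W sB ⟶ W sC) ≫ k = g := by
  haveI := isIso_jQ (K := K) sC
  haveI := isIso_jQ (K := K) sA'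
  haveI := isIso_jQ (K := K) sB
  obtain ⟨k, hk₁, hk₂⟩ := exists_desc_over (isFibreProd_monoidAlgebra h (Multiplicative K)) (qmap_aux α hα)
    (qmap_aux β hβ) (qmap_aux p hp) (qmap_aux q hq) (jQ sA' ≫ f) (jQ sB ≫ g) (by
      rw [← Category.assoc, ← Category.assoc, ← jQ_whiskerLeft p hp _, ← jQ_whiskerLeft q hq _, Category.assoc,
        Category.assoc, w])
  refine ⟨inv (jQ sC) ≫ k, ?_, ?_⟩
  · rw [← cancel_epi (jQ sA'), ← Category.assoc, jQ_whiskerLeft α hα (qmap_aux α hα), Category.assoc,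
      IsIso.hom_inv_id_assoc, hk₁]
  · rw [← cancel_epi (jQ sB), ← Category.assoc, jQ_whiskerLeft β hβ (qmap_aux β hβ), Category.assoc,
      IsIso.hom_inv_id_assoc, hk₂]

end Groth.Agent.MiscTwoH99.FibTensor
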