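import Groth.Agent.H28.FaceEq
import Groth.Agent.H23.EqvUnr
import Groth.Agent.H23.FFDescent
import Groth.Agent.AssLib.FlatField
import Groth.Agent.Pi1X.FEtFull
import Groth.Agent.MiscTwoH99.AffSheafDesc
import Groth.Prelude.Def_Magnet3

/-! An equivariant map of schemes with an action of the multiplicative monoid `A¹` which is an isomorphism on
fixed points and étale near them is an isomorphism. -/

universe u

open CategoryTheory CategoryTheory.Limits MonoidalCategory CartesianMonoidalCategory MonObj AlgebraicGeometry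
open Opposite Magnet

namespace Groth.Agent.MiscTwoH99.FixedIso

open H23.CharPts H23.AttrComapGrp H28.FaceEq

variable {k : Type u} [Field k]

/-- `A¹` over `k`. -/
noncomputable abbrev A1 (k : Type u) [Field k] : Over (Spec (CommRingCat.of k)) := Magnet.AMonS (Spec (CommRingCat.of k)) ℕ

/-- `G_m` over `k`. -/
noncomputable abbrev G1 (k : Type u) [Field k] : Over (Spec (CommRingCat.of k)) := Magnet.AMonS (Spec (CommRingCat.of k)) ℤ

/-- The unit group inside `A¹`. -/
noncomputable abbrev iot : (G1 k) ⟶ (A1 k) := Magnet.AMonS.map (Spec (CommRingCat.of k)) (Nat.castAddMonoidHom ℤ)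

variable {X Y : Over (Spec (CommRingCat.of k))}

theorem exists_zero : ∃ o : ∀ T : Over (Spec (CommRingCat.of k)), T ⟶ (A1 k),
    (∀ (T : Over (Spec (CommRingCat.of k))) (n : ℕ), chi (o T) (Multiplicative.ofAdd n) = 0 ^ n) ∧
    (∀ (T T' : Over (Spec (CommRingCat.of k))) (t : T' ⟶ T), t ≫ o T = o T') ∧
    ∀ (T : Over (Spec (CommRingCat.of k))) (g : T ⟶ (A1 k)), g * o T = o T := by
  have h : ∀ T : Over (Spec (CommRingCat.of k)), ∃ o : T ⟶ (A1 k), ∀ n : ℕ, chi o (Multiplicative.ofAdd n) = 0 ^ n := by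
    intro T
    obtain ⟨o, ho⟩ := exists_chi_eq (S := Spec (CommRingCat.of k)) (T := T) (M := ℕ)
      { toFun := fun n => 0 ^ n.toAdd
        map_one' := pow_zero _
        map_mul' := fun a b => pow_add _ _ _ }
    exact ⟨o, fun n => congrArg (fun h : Multiplicative ℕ →* Γ(T.left, ⊤) => h (Multiplicative.ofAdd n)) ho⟩
  choose o ho using h
  refine ⟨o, ho, fun T T' t => chi_injective (MonoidHom.ext fun n => ?_),
    fun T g => chi_injective (MonoidHom.ext fun n => ?_)⟩
  · rw [chi_comp, ← ofAdd_toAdd n, ho, ho, map_pow, map_zero]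
  · rw [chi_mul, ← ofAdd_toAdd n, ho]
    rcases Nat.eq_zero_or_pos n.toAdd with h | h
    · rw [h, ofAdd_zero, map_one, _root_.one_mul]
    · rw [zero_pow h.ne', mul_zero]

/-- The zero of `A¹`. -/
noncomputable def oo (T : Over (Spec (CommRingCat.of k))) : T ⟶ (A1 k) := exists_zero.choose T

theorem chi_oo (T : Over (Spec (CommRingCat.of k))) (n : ℕ) : chi (oo T) (Multiplicative.ofAdd n) = 0 ^ n :=
  exists_zero.choose_spec.1 T n

theorem comp_oo {T T' : Over (Spec (CommRingCat.of k))} (t : T' ⟶ T) : t ≫ oo T = oo T' :=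
  exists_zero.choose_spec.2.1 T T' t

theorem mul_oo {T : Over (Spec (CommRingCat.of k))} (g : T ⟶ (A1 k)) : g * oo T = oo T :=
  exists_zero.choose_spec.2.2 T g

/-- The limit at the origin is a fixed point. -/
theorem exists_fixed (a : MonAct (A1 k) X) {T : Over (Spec (CommRingCat.of k))} (x : T ⟶ X) :
    ∃ x₀ : (MonAct.fixedPsh a).obj (op T), x₀.1 = lift (oo T) x ≫ a.act :=
  ⟨⟨lift (oo T) x ≫ a.act, fun T' t g => by
    rw [comp_lift_assoc, comp_oo, ← a.lift_mul_act, mul_oo]⟩, rfl⟩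

/-- The generic point of the orbit lies in every open neighbourhood of the limit. -/
theorem exists_generic (L : Type u) [Field L] (str : Spec (CommRingCat.of L) ⟶ Spec (CommRingCat.of k)) :
    ∃ (P : Over (Spec (CommRingCat.of k))) (z₀ : Over.mk str ⟶ P) (p : P ⟶ Over.mk str) (m : P ⟶ (A1 k))
      (K : Type u) (_ : Field K) (str' : Spec (CommRingCat.of K) ⟶ Spec (CommRingCat.of k))
      (gen : Over.mk str' ⟶ P) (g : Over.mk str' ⟶ (G1 k)),
      z₀ ≫ p = 𝟙 _ ∧ z₀ ≫ m = oo (Over.mk str) ∧ gen ≫ m = g ≫ iot ∧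
      ∀ O : P.left.Opens, Set.range z₀.left ⊆ O → Set.range gen.left ⊆ O := by
  let R := Polynomial L
  let K := FractionRing R
  let C : CommRingCat.of L ⟶ CommRingCat.of R := CommRingCat.ofHom Polynomial.C
  let ev : CommRingCat.of R ⟶ CommRingCat.of L := CommRingCat.ofHom (Polynomial.evalRingHom 0)
  let fr : CommRingCat.of R ⟶ CommRingCat.of K := CommRingCat.ofHom (algebraMap R K)
  let P : Over (Spec (CommRingCat.of k)) := Over.mk (Spec.map C ≫ str)
  have hC : C ≫ ev = 𝟙 _ := CommRingCat.hom_ext (RingHom.ext fun r => Polynomial.eval_C)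
  let z₀ : Over.mk str ⟶ P := Over.homMk (Spec.map ev) (by
    show Spec.map ev ≫ Spec.map C ≫ str = str
    rw [← Spec.map_comp_assoc, hC, Spec.map_id, Category.id_comp])
  let p : P ⟶ Over.mk str := Over.homMk (Spec.map C) rfl
  let str' := Spec.map fr ≫ Spec.map C ≫ str
  let gen : Over.mk str' ⟶ P := Over.homMk (Spec.map fr) rfl
  let t : Γ(P.left, ⊤) := (Scheme.ΓSpecIso (CommRingCat.of R)).inv Polynomial.X
  obtain ⟨m, hm⟩ := exists_chi_eq (S := Spec (CommRingCat.of k)) (T := P) (M := ℕ)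
    { toFun := fun n => t ^ n.toAdd, map_one' := pow_zero _, map_mul' := fun a b => pow_add _ _ _ }
  have hm' : ∀ n : ℕ, chi m (Multiplicative.ofAdd n) = t ^ n := fun n =>
    congrArg (fun h : Multiplicative ℕ →* Γ(P.left, ⊤) => h (Multiplicative.ofAdd n)) hm
  let s : Γ((Over.mk str').left, ⊤) := gen.left.appTop t
  have hs : IsUnit s := by
    have h1 : s = (Scheme.ΓSpecIso (CommRingCat.of K)).inv (algebraMap R K Polynomial.X) :=
      congrArg (fun q => q.hom (Polynomial.X : R)) (Scheme.ΓSpecIso_inv_naturality fr).symm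
    rw [h1]
    exact (isUnit_iff_ne_zero.mpr ((map_ne_zero_iff _ (IsFractionRing.injective R K)).mpr Polynomial.X_ne_zero)).map _
  obtain ⟨g, hg⟩ := exists_chi_eq (S := Spec (CommRingCat.of k)) (T := Over.mk str') (M := ℤ)
    ((Units.coeHom _).comp (zpowersHom _ hs.unit))
  refine ⟨P, z₀, p, m, K, inferInstance, str', gen, g, ?_, ?_, ?_, ?_⟩
  · refine Over.OverMorphism.ext ?_
    show Spec.map ev ≫ Spec.map C = 𝟙 _
    rw [← Spec.map_comp, hC, Spec.map_id]
  · refine chi_injective (MonoidHom.ext fun n => ?_)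
    rw [← ofAdd_toAdd n, chi_comp, hm', chi_oo, map_pow]
    congr 1
    have h1 : z₀.left.appTop t = (Scheme.ΓSpecIso (CommRingCat.of L)).inv ((Polynomial.evalRingHom 0) Polynomial.X) :=
      congrArg (fun q => q.hom (Polynomial.X : R)) (Scheme.ΓSpecIso_inv_naturality ev).symm
    rw [h1]
    simp
  · refine chi_injective (MonoidHom.ext fun n => ?_)
    rw [← ofAdd_toAdd n, chi_comp, hm', chi_map, hg, map_pow]
    simp [s]
  · intro O hO
    rintro _ ⟨y, rfl⟩
    have h0 : z₀.left (IsLocalRing.closedPoint L) ∈ O := hO ⟨_, rfl⟩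
    obtain ⟨_, ⟨r, rfl⟩, hr, hrO⟩ := PrimeSpectrum.isTopologicalBasis_basic_opens.exists_subset_of_mem_open
      h0 O.2
    refine hrO ?_
    show r ∉ ((Spec.map fr) y).asIdeal
    intro hy
    have h1 : algebraMap R K r ∈ y.asIdeal := hy
    have h2 : r ≠ 0 := by
      rintro rfl
      exact hr (Ideal.zero_mem _)
    exact y.isPrime.ne_top (Ideal.eq_top_of_isUnit_mem _ h1
      (isUnit_iff_ne_zero.mpr ((map_ne_zero_iff _ (IsFractionRing.injective R K)).mpr h2)))

/-- Cancelling the action of a unit. -/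
theorem act_cancel (a : MonAct (A1 k) X) {T : Over (Spec (CommRingCat.of k))} (g : T ⟶ (G1 k)) {x₁ x₂ : T ⟶ X}
    (h : lift (g ≫ iot) x₁ ≫ a.act = lift (g ≫ iot) x₂ ≫ a.act) : x₁ = x₂ := by
  have hg : (g ≫ Magnet.AMonS.map (Spec (CommRingCat.of k)) (-(AddMonoidHom.id ℤ))) ≫ iot * g ≫ iot = 1 := by
    refine chi_injective (MonoidHom.ext fun n => ?_)
    rw [chi_mul, chi_map, chi_map, chi_map, ← eq_one_of_map_zero (g ≫ iot), chi_map, chi_map, ← map_mul]
    congr 1
    exact Multiplicative.toAdd.injective (by simp)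
  have h1 := congrArg (fun q => lift ((g ≫ Magnet.AMonS.map (Spec (CommRingCat.of k)) (-(AddMonoidHom.id ℤ))) ≫ iot) q ≫ a.act) h
  simp only [← a.lift_mul_act, hg, a.lift_one_act] at h1
  exact h1

variable (a : MonAct (A1 k) X) (b : MonAct (A1 k) Y) (f : X ⟶ Y) (hf : MonAct.IsEquivariant a b f)
  (hinj : ∀ (T : Over (Spec (CommRingCat.of k))), Function.Bijective ((MonAct.fixedPsh.map f hf).app (op T)))
  (V : X.left.Opens) [Etale (V.ι ≫ f.left)]
  (hV : ∀ (T : Over (Spec (CommRingCat.of k))) (x : (MonAct.fixedPsh a).obj (op T)), x.1.left ⁻¹ᵁ V = ⊤)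

include hf

theorem map_limit {T : Over (Spec (CommRingCat.of k))} (g : T ⟶ (A1 k)) (x : T ⟶ X) :
    (lift g x ≫ a.act) ≫ f = lift g (x ≫ f) ≫ b.act := by
  rw [Category.assoc, (MonAct.isEquivariant_iff a b f).mp hf T g x]

include hinj hV

/-- A field-valued point of `Y` is moved into the image of `V` by a unit. -/
theorem exists_move (L : Type u) [Field L] (str : Spec (CommRingCat.of L) ⟶ Spec (CommRingCat.of k))
    (y : Over.mk str ⟶ Y) :
    ∃ (K : Type u) (_ : Field K) (str' : Spec (CommRingCat.of K) ⟶ Spec (CommRingCat.of k))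
      (e : Over.mk str' ⟶ Over.mk str) (g : Over.mk str' ⟶ (G1 k)),
      Set.range (lift (g ≫ iot) (e ≫ y) ≫ b.act).left ⊆ Set.range (V.ι ≫ f.left) := by
  obtain ⟨P, z₀, p, m, K, _, str', gen, g, hzp, hzm, hgm, hO⟩ := exists_generic L str
  let O : P.left.Opens := (lift m (p ≫ y) ≫ b.act).left ⁻¹ᵁ ⟨Set.range (V.ι ≫ f.left), (V.ι ≫ f.left).isOpenMap.isOpen_range⟩
  obtain ⟨y₀, hy₀⟩ := exists_fixed b y
  obtain ⟨x₀, hx₀⟩ := (hinj (Over.mk str)).2 y₀
  have h1 : Set.range z₀.left ⊆ O := by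
    rintro _ ⟨w, rfl⟩
    show (lift m (p ≫ y) ≫ b.act).left (z₀.left w) ∈ Set.range (V.ι ≫ f.left)
    rw [← Scheme.Hom.comp_apply, ← Over.comp_left, comp_lift_assoc, hzm, ← Category.assoc z₀, hzp, Category.id_comp,
      ← hy₀, ← hx₀]
    exact ⟨⟨x₀.1.left w, show w ∈ x₀.1.left ⁻¹ᵁ V by rw [hV _ x₀]; trivial⟩, rfl⟩
  refine ⟨K, inferInstance, str', gen ≫ p, g, ?_⟩
  rintro _ ⟨w, rfl⟩
  have h2 : (lift m (p ≫ y) ≫ b.act).left (gen.left w) ∈ Set.range (V.ι ≫ f.left) := hO O h1 ⟨w, rfl⟩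
  rw [← Scheme.Hom.comp_apply, ← Over.comp_left, comp_lift_assoc, hgm] at h2
  rw [Category.assoc gen p y]
  exact h2

theorem surjective_left : Surjective f.left := by
  refine ⟨fun y => ?_⟩
  let L : Type u := Y.left.residueField y
  let str : Spec (CommRingCat.of L) ⟶ Spec (CommRingCat.of k) := Y.left.fromSpecResidueField y ≫ Y.hom
  let yy : Over.mk str ⟶ Y := Over.homMk (Y.left.fromSpecResidueField y) rfl
  obtain ⟨K, _, str', e, g, hg⟩ := exists_move a b f hf hinj V hV L str yy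
  obtain ⟨v, hv⟩ := hg ⟨IsLocalRing.closedPoint K, rfl⟩
  let T' := Over.mk str'
  let g' : T' ⟶ (A1 k) := (g ≫ Magnet.AMonS.map (Spec (CommRingCat.of k)) (-(AddMonoidHom.id ℤ))) ≫ iot
  have hone : g' * g ≫ iot = 1 := by
    refine chi_injective (MonoidHom.ext fun n => ?_)
    rw [chi_mul, chi_map, chi_map, chi_map, ← eq_one_of_map_zero (g ≫ iot), chi_map, chi_map, ← map_mul]
    congr 1
    exact Multiplicative.toAdd.injective (by simp)
  let Q : Over (Spec (CommRingCat.of k)) := Over.mk (pullback.fst (lift (g ≫ iot) (e ≫ yy) ≫ b.act).left f.left ≫ T'.hom)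
  let q : Q ⟶ T' := Over.homMk (pullback.fst (lift (g ≫ iot) (e ≫ yy) ≫ b.act).left f.left) rfl
  let xq : Q ⟶ X := Over.homMk (pullback.snd (lift (g ≫ iot) (e ≫ yy) ≫ b.act).left f.left) (by
    show _ ≫ X.hom = pullback.fst _ _ ≫ T'.hom
    rw [← Over.w f, ← Category.assoc, ← pullback.condition, Category.assoc, Over.w])
  obtain ⟨z, hz, -⟩ := Scheme.Pullback.exists_preimage_pullback
    (f := (lift (g ≫ iot) (e ≫ yy) ≫ b.act).left) (g := f.left) (IsLocalRing.closedPoint K) (V.ι v) hv.symm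
  refine ⟨(lift (q ≫ g') xq ≫ a.act).left z, ?_⟩
  rw [← Scheme.Hom.comp_apply, ← Over.comp_left, map_limit a b f hf,
    show xq ≫ f = q ≫ lift (g ≫ iot) (e ≫ yy) ≫ b.act from Over.OverMorphism.ext pullback.condition.symm,
    ← comp_lift_assoc, ← b.lift_mul_act, hone, b.lift_one_act, Over.comp_left, Scheme.Hom.comp_apply, Over.comp_left,
    Scheme.Hom.comp_apply]
  exact Scheme.fromSpecResidueField_apply y _

theorem universallyInjective_left : UniversallyInjective f.left := by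
  refine ((tfae_universallyInjective f.left).out 1 0).mp ?_
  intro L _ x₁ x₂ hx
  simp only at hx
  let str : Spec (CommRingCat.of L) ⟶ Spec (CommRingCat.of k) := x₁ ≫ X.hom
  have hw : x₂ ≫ X.hom = str := by
    show _ = x₁ ≫ X.hom
    rw [← Over.w f, ← Category.assoc, ← Category.assoc]
    exact congrArg (· ≫ Y.hom) hx.symm
  let p₁ : Over.mk str ⟶ X := Over.homMk x₁ rfl
  let p₂ : Over.mk str ⟶ X := Over.homMk x₂ hw
  have hpf : p₁ ≫ f = p₂ ≫ f := Over.OverMorphism.ext hx
  obtain ⟨c₁, hc₁⟩ := exists_fixed a p₁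
  obtain ⟨c₂, hc₂⟩ := exists_fixed a p₂
  have hc : c₁ = c₂ := (hinj (Over.mk str)).1 (Subtype.ext (by
    rw [MonAct.fixedPsh.map_app_coe, MonAct.fixedPsh.map_app_coe, hc₁, hc₂, map_limit a b f hf, map_limit a b f hf, hpf]))
  obtain ⟨P, z₀, p, m, K, _, str', gen, g, hzp, hzm, hgm, hO⟩ := exists_generic L str
  let o₁ : P ⟶ X := lift m (p ≫ p₁) ≫ a.act
  let o₂ : P ⟶ X := lift m (p ≫ p₂) ≫ a.act
  have ho : o₁ ≫ f = o₂ ≫ f := by
    rw [map_limit a b f hf, map_limit a b f hf, Category.assoc, Category.assoc, hpf]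
  have hz₁ : z₀ ≫ o₁ = c₁.1 := by rw [hc₁, comp_lift_assoc, hzm, ← Category.assoc z₀, hzp, Category.id_comp]
  have hz₂ : z₀ ≫ o₂ = c₂.1 := by rw [hc₂, comp_lift_assoc, hzm, ← Category.assoc z₀, hzp, Category.id_comp]
  let O : P.left.Opens := o₁.left ⁻¹ᵁ V ⊓ o₂.left ⁻¹ᵁ V
  let l₁ := IsOpenImmersion.lift V.ι (O.ι ≫ o₁.left) (by
    rintro _ ⟨w, rfl⟩; rw [Scheme.Opens.range_ι]; exact w.2.1)
  let l₂ := IsOpenImmersion.lift V.ι (O.ι ≫ o₂.left) (by
    rintro _ ⟨w, rfl⟩; rw [Scheme.Opens.range_ι]; exact w.2.2)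
  have hl₁ : l₁ ≫ V.ι = O.ι ≫ o₁.left := IsOpenImmersion.lift_fac _ _ _
  have hl₂ : l₂ ≫ V.ι = O.ι ≫ o₂.left := IsOpenImmersion.lift_fac _ _ _
  have hl : l₁ ≫ V.ι ≫ f.left = l₂ ≫ V.ι ≫ f.left := by
    rw [reassoc_of% hl₁, reassoc_of% hl₂]
    exact congrArg (O.ι ≫ ·) (congrArg Over.Hom.left ho)
  let D := pullback.diagonal (V.ι ≫ f.left)
  haveI : IsOpenImmersion D := inferInstance
  let E : P.left.Opens := O.ι ''ᵁ ((pullback.lift l₁ l₂ hl) ⁻¹ᵁ D.opensRange)
  have hzE : Set.range z₀.left ⊆ E := by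
    rintro _ ⟨w, rfl⟩
    have hwO : z₀.left w ∈ O := by
      refine ⟨?_, ?_⟩
      · show o₁.left (z₀.left w) ∈ V
        rw [← Scheme.Hom.comp_apply, ← Over.comp_left, hz₁]
        exact (SetLike.ext_iff.mp (hV _ c₁) w).mpr trivial
      · show o₂.left (z₀.left w) ∈ V
        rw [← Scheme.Hom.comp_apply, ← Over.comp_left, hz₂]
        exact (SetLike.ext_iff.mp (hV _ c₂) w).mpr trivial
    have hr : Set.range z₀.left ⊆ Set.range O.ι := by
      rintro _ ⟨w', rfl⟩
      rw [Scheme.Opens.range_ι, Subsingleton.elim (α := PrimeSpectrum L) w' w]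
      exact hwO
    let z := IsOpenImmersion.lift O.ι z₀.left hr
    have hz : z ≫ O.ι = z₀.left := IsOpenImmersion.lift_fac _ _ _
    have hzl : z ≫ l₁ = z ≫ l₂ := by
      rw [← cancel_mono V.ι, Category.assoc, Category.assoc, hl₁, hl₂, reassoc_of% hz, reassoc_of% hz]
      exact congrArg Over.Hom.left (hz₁.trans ((congrArg Subtype.val hc).trans hz₂.symm))
    refine ⟨z w, ?_, (Scheme.Hom.comp_apply _ _ _).symm.trans (congrArg (fun q => q w) hz)⟩
    refine ⟨(z ≫ l₁) w, ?_⟩
    rw [← Scheme.Hom.comp_apply, ← Scheme.Hom.comp_apply]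
    refine congrArg (fun q : Spec (CommRingCat.of L) ⟶ _ => q w) ?_
    apply pullback.hom_ext
    · simp only [D, Category.assoc, pullback.diagonal_fst, Category.comp_id]; exact congrArg (z ≫ ·) (pullback.lift_fst _ _ _).symm
    · simp only [D, Category.assoc, pullback.diagonal_snd, Category.comp_id]; exact hzl.trans (congrArg (z ≫ ·) (pullback.lift_snd _ _ _).symm)
  have hgE := hO E hzE
  have hgr : Set.range gen.left ⊆ Set.range O.ι := fun w hw => by
    obtain ⟨v, -, rfl⟩ := hgE hw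
    exact ⟨v, rfl⟩
  let n := IsOpenImmersion.lift O.ι gen.left hgr
  have hn : n ≫ O.ι = gen.left := IsOpenImmersion.lift_fac _ _ _
  have hnD : Set.range (n ≫ pullback.lift l₁ l₂ hl) ⊆ Set.range D := by
    rintro _ ⟨w, rfl⟩
    obtain ⟨v, hv, hvw⟩ := hgE ⟨w, rfl⟩
    have : n w = v := O.ι.isOpenEmbedding.injective
      (((Scheme.Hom.comp_apply _ _ _).symm.trans (congrArg (fun q => q w) hn)).trans hvw.symm)
    rw [Scheme.Hom.comp_apply, this]
    exact hv
  let d := IsOpenImmersion.lift D _ hnD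
  have hd : d ≫ D = n ≫ pullback.lift l₁ l₂ hl := IsOpenImmersion.lift_fac _ _ _
  have hn12 : n ≫ l₁ = n ≫ l₂ := by
    have e1 := congrArg (· ≫ pullback.fst _ _) hd
    have e2 := congrArg (· ≫ pullback.snd _ _) hd
    simp only [D, Category.assoc, pullback.diagonal_fst, pullback.diagonal_snd, pullback.lift_fst, pullback.lift_snd] at e1 e2
    exact e1.symm.trans e2
  have hgo : gen ≫ o₁ = gen ≫ o₂ := by
    refine Over.OverMorphism.ext ?_
    show gen.left ≫ o₁.left = gen.left ≫ o₂.left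
    rw [← hn, Category.assoc, Category.assoc, ← hl₁, ← hl₂, reassoc_of% hn12]
  rw [comp_lift_assoc, comp_lift_assoc, hgm, ← Category.assoc, ← Category.assoc] at hgo
  have hep := act_cancel a g hgo
  haveI : Flat (gen ≫ p).left := AssLib.flat_over_field _
  haveI : Surjective (gen ≫ p).left := ⟨fun y => ⟨IsLocalRing.closedPoint K, Subsingleton.elim (α := PrimeSpectrum L) _ _⟩⟩
  haveI := Flat.epi_of_flat_of_surjective (gen ≫ p).left
  exact (cancel_epi (gen ≫ p).left).mp (congrArg Over.Hom.left hep)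

theorem isIso_of_fixed : IsIso f := by
  haveI := surjective_left a b f hf hinj V hV
  haveI huf := universallyInjective_left a b f hf hinj V hV
  let S := Spec (CommRingCat.of k)
  let aG := a.restrict (iot (k := k))
  let bG := b.restrict (iot (k := k))
  let jV : Over.mk (V.ι ≫ X.hom) ⟶ X := Over.homMk V.ι rfl
  haveI : UniversallyInjective V.ι := inferInstance
  haveI : UniversallyInjective (V.ι ≫ f.left) := MorphismProperty.comp_mem _ _ _ ‹_› huf
  haveI : IsOpenImmersion (jV ≫ f).left := Pi1X.isOpenImmersion_of_etale_universallyInjective (V.ι ≫ f.left)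
  let U : Y.left.Opens := (jV ≫ f).left.opensRange
  let PY : ((G1 k) ⊗ Y).left.Opens := bG.act.left ⁻¹ᵁ U
  let W : ((G1 k) ⊗ X).left.Opens := aG.act.left ⁻¹ᵁ V
  have hact : aG.act ≫ f = ((G1 k) ◁ f) ≫ bG.act := by
    apply hom_ext_lift₂
    intro T g x
    rw [lift_whiskerLeft_assoc, ← Category.assoc, MonAct.lift_restrict_act, MonAct.lift_restrict_act, map_limit a b f hf]
  have hpre : ((G1 k) ◁ f).left ⁻¹ᵁ PY = W := by
    ext w
    show bG.act.left (((G1 k) ◁ f).left w) ∈ Set.range (jV ≫ f).left ↔ aG.act.left w ∈ V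
    rw [← Scheme.Hom.comp_apply, ← Over.comp_left, ← hact]
    simp only [Over.comp_left, Scheme.Hom.comp_apply]
    constructor
    · rintro ⟨v, hv⟩
      rw [← f.left.injective hv]
      exact v.2
    · intro h
      exact ⟨⟨_, h⟩, rfl⟩
  let W' : Over S := Over.mk (W.ι ≫ ((G1 k) ⊗ X).hom)
  let jW : W' ⟶ (G1 k) ⊗ X := Over.homMk W.ι rfl
  have hflip : ((G1 k) ◁ f) ≫ flip' bG = flip' aG ≫ ((G1 k) ◁ f) := by
    apply CartesianMonoidalCategory.hom_ext
    · simp [flip']
    · simp only [flip', Category.assoc, lift_snd, whiskerLeft_snd, lift_snd_assoc, hact]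
  haveI : IsIso (flip' aG).left :=
    haveI : IsIso (flip' aG) := ⟨⟨flip' aG, flip'_flip' aG, flip'_flip' aG⟩⟩
    inferInstanceAs (IsIso ((Over.forget _).map (flip' aG)))
  haveI : IsIso (flip' bG).left :=
    haveI : IsIso (flip' bG) := ⟨⟨flip' bG, flip'_flip' bG, flip'_flip' bG⟩⟩
    inferInstanceAs (IsIso ((Over.forget _).map (flip' bG)))
  haveI : IsOpenImmersion ((G1 k) ◁ jV).left :=
    MorphismProperty.of_isPullback (P := @IsOpenImmersion) (H23.EqvUnr.isPullback_whiskerLeft (G1 k) jV).flip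
      (inferInstanceAs (IsOpenImmersion V.ι))
  haveI : IsOpenImmersion ((G1 k) ◁ (jV ≫ f)).left :=
    MorphismProperty.of_isPullback (P := @IsOpenImmersion) (H23.EqvUnr.isPullback_whiskerLeft (G1 k) (jV ≫ f)).flip ‹_›
  have hr : Set.range (jW ≫ flip' aG).left ⊆ Set.range ((G1 k) ◁ jV).left := by
    rintro _ ⟨w, rfl⟩
    let w' := (jW ≫ flip' aG).left w
    have h1 : (snd (G1 k) X).left w' = aG.act.left (W.ι w) := by
      show (snd (G1 k) X).left ((jW ≫ flip' aG).left w) = _
      rw [← Scheme.Hom.comp_apply, ← Over.comp_left, Category.assoc, show flip' aG ≫ snd (G1 k) X = aG.act from lift_snd _ _]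
      rfl
    have hsq := H23.EqvUnr.isPullback_whiskerLeft (G1 k) jV
    obtain ⟨c, hc, -⟩ := Scheme.Pullback.exists_preimage_pullback w' (⟨_, w.2⟩ : V.toScheme) (f := (snd (G1 k) X).left)
      (g := jV.left) h1
    refine ⟨hsq.isoPullback.inv c, ?_⟩
    rw [← Scheme.Hom.comp_apply, hsq.isoPullback_inv_fst]
    exact hc
  let l := IsOpenImmersion.lift ((G1 k) ◁ jV).left (jW ≫ flip' aG).left hr
  haveI : IsOpenImmersion (jW ≫ flip' aG).left := inferInstanceAs (IsOpenImmersion (W.ι ≫ (flip' aG).left))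
  haveI : IsOpenImmersion l := by
    haveI : IsOpenImmersion (l ≫ ((G1 k) ◁ jV).left) := by rw [IsOpenImmersion.lift_fac]; infer_instance
    exact IsOpenImmersion.of_comp l ((G1 k) ◁ jV).left
  have hfac : W.ι ≫ ((G1 k) ◁ f).left = l ≫ ((G1 k) ◁ (jV ≫ f)).left ≫ (flip' bG).left := by
    rw [MonoidalCategory.whiskerLeft_comp, Over.comp_left, Category.assoc, ← Category.assoc l, IsOpenImmersion.lift_fac,
      ← Over.comp_left, ← Over.comp_left, hflip, Category.assoc, ← Category.assoc (flip' aG), flip'_flip',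
      Category.id_comp]
    rfl
  haveI : IsOpenImmersion (W.ι ≫ ((G1 k) ◁ f).left) := by rw [hfac]; infer_instance
  haveI : Surjective ((G1 k) ◁ f).left :=
    MorphismProperty.of_isPullback (P := @Surjective) (H23.EqvUnr.isPullback_whiskerLeft (G1 k) f).flip ‹_›
  haveI : IsIso (((G1 k) ◁ f).left ∣_ PY) := by
    haveI : IsOpenImmersion ((((G1 k) ◁ f).left ∣_ PY) ≫ PY.ι) := by
      rw [morphismRestrict_ι, hpre]
      infer_instance
    haveI : IsOpenImmersion (((G1 k) ◁ f).left ∣_ PY) := IsOpenImmersion.of_comp _ PY.ι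
    haveI : Surjective (((G1 k) ◁ f).left ∣_ PY) := IsZariskiLocalAtTarget.restrict ‹Surjective ((G1 k) ◁ f).left› PY
    exact (isIso_iff_isOpenImmersion_and_surjective _).mpr ⟨inferInstance, inferInstance⟩
  haveI : Flat ((G1 k)).hom := AssLib.flat_over_field _
  haveI : LocallyOfFinitePresentation ((G1 k)).hom := by
    haveI : LocallyOfFinitePresentation (AMon (ULift.{u} ℤ) ℤ).hom := by
      show LocallyOfFinitePresentation (Spec.map (CommRingCat.ofHom (algebraMap (ULift.{u} ℤ) (MonoidAlgebra (ULift.{u} ℤ) (Multiplicative ℤ)))))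
      rw [HasRingHomProperty.Spec_iff (P := @LocallyOfFinitePresentation), CommRingCat.hom_ofHom,
        RingHom.finitePresentation_algebraMap]
      haveI : IsNoetherianRing (ULift.{u} ℤ) := isNoetherianRing_of_ringEquiv ℤ ULift.ringEquiv.symm
      haveI : AddMonoid.FG ℤ := AddGroup.fg_iff_addMonoid_fg.mp inferInstance
      haveI : Monoid.FG (Multiplicative ℤ) := inferInstance
      exact Algebra.FinitePresentation.of_finiteType.mp inferInstance
    exact inferInstanceAs (LocallyOfFinitePresentation (pullback.snd _ _))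
  haveI : Flat (snd (G1 k) Y).left := inferInstanceAs (Flat (pullback.snd ((G1 k)).hom Y.hom))
  haveI : LocallyOfFinitePresentation (snd (G1 k) Y).left :=
    inferInstanceAs (LocallyOfFinitePresentation (pullback.snd ((G1 k)).hom Y.hom))
  let π := PY.ι ≫ (snd (G1 k) Y).left
  haveI : Surjective π := by
    refine ⟨fun y => ?_⟩
    let L : Type u := Y.left.residueField y
    let str : Spec (CommRingCat.of L) ⟶ Spec (CommRingCat.of k) := Y.left.fromSpecResidueField y ≫ Y.hom
    let yy : Over.mk str ⟶ Y := Over.homMk (Y.left.fromSpecResidueField y) rfl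
    obtain ⟨K, _, str', e, g, hg⟩ := exists_move a b f hf hinj V hV L str yy
    let w₀ : (Over.mk str').left := IsLocalRing.closedPoint K
    let pt := (lift g (e ≫ yy)).left w₀
    have hpt : pt ∈ PY := by
      show bG.act.left pt ∈ Set.range (jV ≫ f).left
      rw [← Scheme.Hom.comp_apply, ← Over.comp_left, MonAct.lift_restrict_act]
      exact hg ⟨_, rfl⟩
    refine ⟨⟨pt, hpt⟩, ?_⟩
    show (snd (G1 k) Y).left ((lift g (e ≫ yy)).left w₀) = y
    rw [← Scheme.Hom.comp_apply, ← Over.comp_left, lift_snd, Over.comp_left, Scheme.Hom.comp_apply]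
    exact Scheme.fromSpecResidueField_apply y _
  have hsq : IsPullback (((((G1 k) ◁ f).left ⁻¹ᵁ PY).ι) ≫ (snd (G1 k) X).left) (((G1 k) ◁ f).left ∣_ PY) f.left π :=
    (isPullback_morphismRestrict ((G1 k) ◁ f).left PY).flip.paste_horiz (H23.EqvUnr.isPullback_whiskerLeft (G1 k) f).flip
  haveI : IsIso (pullback.snd f.left π) := by
    rw [← hsq.isoPullback_inv_snd]
    infer_instance
  haveI : QuasiCompact f.left := by
    haveI := AffSheafDesc.descendsAlong_quasiCompact.{u}
    exact MorphismProperty.of_isPullback_of_descendsAlong (Q := @Surjective ⊓ @Flat ⊓ @LocallyOfFinitePresentation)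
      hsq.flip ⟨⟨‹Surjective π›, inferInstance⟩, inferInstance⟩ (inferInstance : QuasiCompact (((G1 k) ◁ f).left ∣_ PY))
  haveI : IsIso f.left := H23.FFDescent.isIso_of_baseChange f.left π
  haveI : IsIso ((Over.forget _).map f) := ‹IsIso f.left›
  exact isIso_of_reflects_iso f (Over.forget _)

end Groth.Agent.MiscTwoH99.FixedIso
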