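import Groth.Agent.S18285
import Groth.Agent.S18289
import Groth.Agent.S18294
import Groth.Agent.S18302
import Groth.Agent.MiscTwoH99.AffSheafDesc
import Groth.Agent.H28.StableFace

/-! Comparing images of attractors along an affine strongly FPR atlas. -/

universe u

open CategoryTheory MonoidalCategory CartesianMonoidalCategory AlgebraicGeometry Opposite Magnet

namespace Groth.Agent.MiscTwoH99.FprRange

theorem eval_postcomp {C : Type*} [Category C] [CartesianMonoidalCategory C] {A B X Y : C} [MonObj A]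
    (ρ : MonAct A B) {a : MonAct A X} {b : MonAct A Y} (f : X ⟶ Y) (hf : MonAct.IsEquivariant a b f) (e : 𝟙_ C ⟶ B)
    {P : C} (θ : (MonAct.eqvHom ρ a).obj (op P)) :
    (MonAct.eqvHom.evalAt ρ b e).app (op P) ((MonAct.eqvHom.postcomp ρ f hf).app (op P) θ) =
      (MonAct.eqvHom.evalAt ρ a e).app (op P) θ ≫ f :=
  (Category.assoc _ _ f).symm

theorem eval_map {C : Type*} [Category C] [CartesianMonoidalCategory C] {A B X : C} [MonObj A]
    (ρ : MonAct A B) (a : MonAct A X) (e : 𝟙_ C ⟶ B) {P T : C} (p : P ⟶ T) (φ : (MonAct.eqvHom ρ a).obj (op T)) :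
    (MonAct.eqvHom.evalAt ρ a e).app (op P) ((MonAct.eqvHom ρ a).map p.op φ) =
      p ≫ (MonAct.eqvHom.evalAt ρ a e).app (op T) φ :=
  NatTrans.naturality_apply (MonAct.eqvHom.evalAt ρ a e) p.op φ

theorem range_subset {S : Scheme.{u}} {M : Type} [AddCommGroup M] [AddGroup.FG M] {X : Over S} [IsSeparated X.hom]
    [LocallyOfFinitePresentation X.hom] (a : MonAct (AMonS S M) X) (U : Over S) [IsAffineHom U.hom]
    (aU : MonAct (AMonS S M) U) (g : U ⟶ X) (hg : MonAct.IsEquivariant aU a g) [Etale g.left] [Surjective g.left]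
    (N L : AddSubmonoid M)
    (hgZ : MonAct.IsEquivariant (aU.restrict (AMonS.map S (QuotientAddGroup.mk' (H28.StableFace.units N))))
      (a.restrict (AMonS.map S (QuotientAddGroup.mk' (H28.StableFace.units N)))) g)
    (hfpr : IsPullback (MonAct.fixedPsh.map g hgZ)
      (MonAct.fixedPshι (aU.restrict (AMonS.map S (QuotientAddGroup.mk' (H28.StableFace.units N)))))
      (MonAct.fixedPshι (a.restrict (AMonS.map S (QuotientAddGroup.mk' (H28.StableFace.units N))))) (yoneda.map g))
    (hU : ∀ T : Over S, Set.range (fun φ => (attrToX aU N).app (op T) φ) ⊆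
      Set.range (fun φ => (attrToX aU L).app (op T) φ)) (T : Over S) :
    Set.range (fun φ => (attrToX a N).app (op T) φ) ⊆ Set.range (fun φ => (attrToX a L).app (op T) φ) := by
  rintro _ ⟨φ, rfl⟩
  let Z := H28.StableFace.units N
  have hQ : Magnet.IsFace N Z.toAddSubmonoid := by
    refine ⟨fun m hm => hm.1, fun x hx y hy hxy => ?_⟩
    exact ⟨⟨hx, by simpa [add_comm] using N.add_mem hy hxy.2⟩, ⟨hy, by simpa [add_comm] using N.add_mem hx hxy.2⟩⟩
  let aX₀ : AlgGrp.Action (Red.DS S M) X := (a : Magnet.MonAct (Red.DS S M) X).toAction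
  let aU₀ : AlgGrp.Action (Red.DS S M) U := (aU : Magnet.MonAct (Red.DS S M) U).toAction
  obtain ⟨dX, hdX⟩ := Groth.Agent.S18289.result S M Z X aX₀
  obtain ⟨dU, hdU⟩ := Groth.Agent.S18289.result S M Z U aU₀
  replace hdX : dX.hom ≫ Magnet.MonAct.fixedPshι _ = Magnet.attrToX a Z.toAddSubmonoid := hdX
  replace hdU : dU.hom ≫ Magnet.MonAct.fixedPshι _ = Magnet.attrToX aU Z.toAddSubmonoid := hdU
  let ψ := (Magnet.attrFace a hQ).app (op T) φ
  let xp : T ⟶ X := (Magnet.MonAct.fixedPshι _).app (op T) (dX.hom.app (op T) ψ)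
  let P : Over S := Over.mk (Limits.pullback.fst xp.left g.left ≫ T.hom)
  let p : P ⟶ T := Over.homMk (Limits.pullback.fst xp.left g.left) rfl
  let u : P ⟶ U := Over.homMk (Limits.pullback.snd xp.left g.left) (by
    show _ ≫ U.hom = Limits.pullback.fst xp.left g.left ≫ T.hom
    rw [← Over.w g, ← Category.assoc, ← Limits.pullback.condition, Category.assoc, Over.w xp])
  haveI : Flat p.left := inferInstanceAs (Flat (Limits.pullback.fst xp.left g.left))
  haveI : LocallyOfFinitePresentation p.left :=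
    inferInstanceAs (LocallyOfFinitePresentation (Limits.pullback.fst xp.left g.left))
  haveI : Surjective p.left := inferInstanceAs (Surjective (Limits.pullback.fst xp.left g.left))
  have hpu : p ≫ xp = u ≫ g := Over.OverMorphism.ext Limits.pullback.condition
  have hp := hfpr.map ((CategoryTheory.evaluation _ _).obj (op P))
  rw [CategoryTheory.Limits.Types.isPullback_iff] at hp
  obtain ⟨χ, -, hχ⟩ := hp.2.2 ((Magnet.MonAct.fixedPsh _).map p.op (dX.hom.app (op T) ψ)) u hpu
  let ψU : (Magnet.attr aU Z.toAddSubmonoid).obj (op P) := dU.inv.app (op P) χ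
  have hψU : (Magnet.MonAct.eqvHom.postcomp (Magnet.subAct S M Z.toAddSubmonoid) g hg).app _ ψU =
      (Magnet.attr a Z.toAddSubmonoid).map p.op ψ := by
    apply Groth.Agent.S18285.result S M X a Z.toAddSubmonoid P
    show (Magnet.attrToX a _).app (op P) _ = (Magnet.attrToX a _).app (op P) _
    have h1 : (Magnet.attrToX aU Z.toAddSubmonoid).app (op P) ψU = u := by
      rw [← hdU]
      exact (congrArg (fun v => (Magnet.MonAct.fixedPshι _).app (op P) v)
        (ConcreteCategory.congr_hom (dU.inv_hom_id_app (op P)) χ)).trans hχ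
    have h2 : (Magnet.attrToX a Z.toAddSubmonoid).app (op T) ψ = xp := by
      rw [← hdX]
      rfl
    rw [NatTrans.naturality_apply, h2]
    show lift _ _ ≫ (ψU.1 ≫ g) = p ≫ xp
    rw [hpu, ← h1]
    exact (Category.assoc _ _ _).symm
  have hpb0 : IsPullback (Magnet.MonAct.eqvHom.postcomp (Magnet.subAct S M N) g hg) (Magnet.attrFace aU hQ)
      (Magnet.attrFace a hQ) (Magnet.MonAct.eqvHom.postcomp (Magnet.subAct S M Z.toAddSubmonoid) g hg) :=
    Groth.Agent.S18302.result S M X U aX₀ aU₀ g hg N Z.toAddSubmonoid hQ (Or.inr ⟨inferInstance, inferInstance⟩)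
  have hpb := hpb0.map ((CategoryTheory.evaluation _ _).obj (op P))
  rw [CategoryTheory.Limits.Types.isPullback_iff] at hpb
  have hnat : (Magnet.attrFace a hQ).app (op P) ((Magnet.attr a N).map p.op φ) =
      (Magnet.attr a Z.toAddSubmonoid).map p.op ψ := Subtype.ext (whisker_exchange_assoc _ _ _).symm
  obtain ⟨χN, hχN, -⟩ := hpb.2.2 ((Magnet.attr a N).map p.op φ) ψU (hnat.trans hψU.symm)
  obtain ⟨θ, hθ⟩ := hU P ⟨χN, rfl⟩
  let θX := (MonAct.eqvHom.postcomp (subAct S M L) g hg).app (op P) θ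
  have hev : (attrToX a L).app (op P) θX = p ≫ (attrToX a N).app (op T) φ := by
    have h2 := congrArg (fun v => (attrToX a N).app (op P) v) hχN
    dsimp only at h2 hθ
    rw [eval_map (subAct S M N) a _ p φ] at h2
    exact ((eval_postcomp (subAct S M L) g hg _ θ).trans ((congrArg (· ≫ g) hθ).trans
      (eval_postcomp (subAct S M N) g hg _ χN).symm)).trans h2
  have hsF : Presieve.IsSheafFor (attr a L) (Presieve.singleton p) :=
    (Presieve.isSheafFor_iff_generate _).mpr ((isSheaf_iff_isSheaf_of_type _ _).mp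
      (Groth.Agent.S18294.result S _ _ X (subAct S M L) a) _ (Groth.Agent.MiscTwoH99.AffSheafDesc.singleton_mem p))
  obtain ⟨φL, hφL, -⟩ := Presieve.isSheafFor_singleton.mp hsF θX fun {V} p₁ p₂ h => by
    apply Groth.Agent.S18285.result S M X a L V
    show (attrToX a L).app (op V) _ = (attrToX a L).app (op V) _
    rw [eval_map, eval_map, hev]
    rw [← Category.assoc, h, Category.assoc]
  refine ⟨φL, ?_⟩
  have h1 : p ≫ (attrToX a L).app (op T) φL = p ≫ (attrToX a N).app (op T) φ := by
    refine Eq.trans ?_ hev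
    rw [← hφL, eval_map]
  exact MiscTwoH99.AffSheafDesc.hom_ext p h1

end Groth.Agent.MiscTwoH99.FprRange
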