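import Groth.Agent.Pi1Ext.RegPurity
import Groth.Agent.RegLoc6.Serre

/-!
Purity of the branch locus, normal form: a normal domain finite over a regular local ring which is
étale over all primes of height at most one is étale.
-/

set_option autoImplicit false
universe u

open IsLocalRing TensorProduct

namespace Groth.Agent.MiscTwoH99

open Groth.Agent.Pi1Ext Groth.Agent.Pi1Ext.RegPurity

/-- One step: étale off the closed point and normal implies étale. -/
theorem etale_of_etOff_normal (A : Type u) [CommRing A] [IsRegularLocalRing A]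
    (hA : (2 : WithBot ℕ∞) ≤ ringKrullDim A) (C : Type u) [CommRing C] [IsDomain C]
    [IsIntegrallyClosed C] [Algebra A C] [Module.Finite A C]
    (hinj : Function.Injective (algebraMap A C)) (hC : EtOff A C) : Algebra.Etale A C := by
  haveI := RegLoc6.isDomain_of_isRegularLocalRing A
  obtain ⟨B, _, _, f, _, _, hiso⟩ := exists_finite_etale_of_etOff A hA C hC
  obtain ⟨g, hg, hg0⟩ : ∃ g ∈ maximalIdeal A, g ≠ 0 := by
    by_contra! h
    have hbot : maximalIdeal A = ⊥ := (Submodule.eq_bot_iff _).2 h
    rw [ringKrullDim_eq_zero_of_isField (IsLocalRing.isField_iff_maximalIdeal_eq.2 hbot)] at hA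
    exact absurd hA (by exact_mod_cast (by decide : ¬ (2 : ℕ) ≤ 0))
  have hgC : algebraMap A C g ≠ 0 := (map_ne_zero_iff _ hinj).2 hg0
  obtain ⟨hsurj, hker⟩ := hiso g hg
  let K := FractionRing C
  have hu : IsUnit (algebraMap A K g) := by
    rw [IsScalarTower.algebraMap_apply A C K, isUnit_iff_ne_zero,
      map_ne_zero_iff _ (IsFractionRing.injective C K)]
    exact hgC
  obtain ⟨ψ, hψ⟩ := IsoAway.exists_extend (hiso g hg) (IsScalarTower.toAlgHom A C K) hu
  have hψ0 : ∀ b, ψ b = 0 → b = 0 := fun b hb => by
    obtain ⟨n, c, hc⟩ := hsurj b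
    have h0 : algebraMap C K c = 0 := by
      have := congrArg ψ hc
      rw [map_smul, hb, smul_zero, hψ] at this
      exact this.symm
    rw [IsFractionRing.injective C K |>.eq_iff' (map_zero _)] at h0
    rw [h0, map_zero] at hc
    have hn : g ^ n ∈ nonZeroDivisors A := mem_nonZeroDivisors_of_ne_zero (pow_ne_zero n hg0)
    exact (Module.Flat.isSMulRegular_of_nonZeroDivisors (M := B) hn).right_eq_zero_of_smul hc
  have hf : Function.Bijective f := by
    refine ⟨(injective_iff_map_eq_zero f).2 fun c hc => ?_, fun b => ?_⟩
    · obtain ⟨n, hn⟩ := hker c hc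
      rw [Algebra.smul_def, map_pow, mul_eq_zero] at hn
      exact hn.resolve_left (pow_ne_zero n hgC)
    · have hint : IsIntegral C (ψ b) :=
        (((Algebra.IsIntegral.isIntegral (R := A) b).map ψ).tower_top (A := C))
      obtain ⟨c, hc⟩ := IsIntegrallyClosed.isIntegral_iff.1 hint
      refine ⟨c, sub_eq_zero.1 (hψ0 _ ?_)⟩
      rw [map_sub, hψ, ← hc]
      exact sub_self _
  exact Algebra.Etale.of_equiv (AlgEquiv.ofBijective f hf).symm

/-- Purity of the branch locus for normal domains finite over regular local rings. -/
theorem etale_of_normal_of_codimOne {A B : Type u} [CommRing A] [IsRegularLocalRing A]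
    [CommRing B] [IsDomain B] [IsIntegrallyClosed B] [Algebra A B] [Module.Finite A B]
    (hinj : Function.Injective (algebraMap A B))
    (h : ∀ q : PrimeSpectrum B,
      (q.asIdeal.comap (algebraMap A B)).height ≤ 1 → Algebra.IsEtaleAt A q.asIdeal) :
    Algebra.Etale A B := by
  haveI := RegLoc6.isDomain_of_isRegularLocalRing A
  haveI : Algebra.FinitePresentation A B := Algebra.FinitePresentation.of_finiteType.mp inferInstance
  rw [← Algebra.etaleLocus_eq_univ_iff_etale, Set.eq_univ_iff_forall]
  suffices ∀ p : PrimeSpectrum A, ∀ q : PrimeSpectrum B,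
      PrimeSpectrum.comap (algebraMap A B) q = p → Algebra.IsEtaleAt A q.asIdeal from fun q => this _ q rfl
  intro p
  induction p using WellFounded.induction
    (InvImage.wf (fun p : PrimeSpectrum A => p.asIdeal.height) wellFounded_lt) with
  | h p ih =>
    intro q hq
    rcases le_or_gt p.asIdeal.height 1 with hp | hp
    · refine h q ?_
      rw [← hq] at hp
      exact hp
    let A' := Localization.AtPrime p.asIdeal
    let B' := A' ⊗[A] B
    letI : Algebra B B' := Algebra.TensorProduct.rightAlgebra
    haveI hloc : IsLocalization (Algebra.algebraMapSubmonoid B p.asIdeal.primeCompl) B' :=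
      IsLocalization.tensorRight (R := A) (S := B) (A := A') p.asIdeal.primeCompl
    haveI : IsScalarTower A B B' := IsScalarTower.of_algebraMap_eq fun x => by
      show algebraMap A B' x = (1 : A') ⊗ₜ[A] algebraMap A B x
      rw [Algebra.algebraMap_eq_smul_one (A := B), TensorProduct.tmul_smul, ← Algebra.TensorProduct.one_def,
        Algebra.algebraMap_eq_smul_one]
    haveI : IsRegularLocalRing A' := RegLoc6.isRegularLocalRing_localization A p.asIdeal
    have hM : Algebra.algebraMapSubmonoid B p.asIdeal.primeCompl ≤ nonZeroDivisors B := by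
      rintro _ ⟨a, ha, rfl⟩
      exact mem_nonZeroDivisors_of_ne_zero ((map_ne_zero_iff _ hinj).2 fun e => ha (e ▸ zero_mem _))
    haveI : IsDomain B' := IsLocalization.isDomain_of_le_nonZeroDivisors B' hM
    haveI : IsIntegrallyClosed B' :=
      isIntegrallyClosed_of_isLocalization (R := B) B' _ hM
    have hinj' : Function.Injective (algebraMap A' B') := by
      rw [injective_iff_map_eq_zero]
      intro x hx
      obtain ⟨a, s, rfl⟩ := IsLocalization.exists_mk'_eq p.asIdeal.primeCompl x
      rw [IsLocalization.mk'_eq_zero_iff]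
      have h0 : algebraMap A B' a = 0 := by
        rw [IsScalarTower.algebraMap_apply A A' B', ← IsLocalization.mk'_spec A' a s, map_mul, hx,
          zero_mul]
      rw [IsScalarTower.algebraMap_apply A B B',
        map_eq_zero_iff _ (IsLocalization.injective B' hM), map_eq_zero_iff _ hinj] at h0
      exact ⟨1, by simp [h0]⟩
    haveI : Algebra.Etale A' B' := by
      refine etale_of_etOff_normal A' ?_ B' hinj' fun g hg => ?_
      · rw [IsLocalization.AtPrime.ringKrullDim_eq_height p.asIdeal A']
        have h2 : (2 : ℕ∞) ≤ p.asIdeal.height := one_add_one_eq_two (R := ℕ∞) ▸ Order.add_one_le_of_lt hp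
        exact WithBot.coe_le_coe.2 h2
      haveI : Algebra.FinitePresentation A' B' := Algebra.FinitePresentation.of_finiteType.mp inferInstance
      unfold EtAway
      rw [← Algebra.basicOpen_subset_etaleLocus_iff_etale]
      intro q' hq'
      show Algebra.IsEtaleAt A' q'.asIdeal
      rw [formallyEtale_atPrime_comp (A := A) (B := B) p.asIdeal.primeCompl]
      have hcomap : (q'.asIdeal.comap (algebraMap B B')).comap (algebraMap A B) =
          (q'.asIdeal.comap (algebraMap A' B')).comap (algebraMap A A') := by
        rw [Ideal.comap_comap, Ideal.comap_comap, ← IsScalarTower.algebraMap_eq,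
          ← IsScalarTower.algebraMap_eq]
      refine ih ⟨(q'.asIdeal.comap (algebraMap A' B')).comap (algebraMap A A'), inferInstance⟩ ?_
        ⟨q'.asIdeal.comap (algebraMap B B'), inferInstance⟩ (PrimeSpectrum.ext hcomap)
      refine Ideal.height_strict_mono_of_isPrime (I := (q'.asIdeal.comap (algebraMap A' B')).comap (algebraMap A A')) ?_
      have hle := IsLocalRing.le_maximalIdeal (Ideal.IsPrime.ne_top'
        (I := q'.asIdeal.comap (algebraMap A' B')))
      refine lt_of_le_of_ne ?_ fun e => hq' ?_
      · exact (Ideal.comap_mono hle).trans_eq (Localization.AtPrime.under_maximalIdeal (I := p.asIdeal))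
      · show g ∈ q'.asIdeal.comap (algebraMap A' B')
        rw [← IsLocalization.map_comap p.asIdeal.primeCompl A' (q'.asIdeal.comap (algebraMap A' B'))]
        rw [show Ideal.under A (q'.asIdeal.comap (algebraMap A' B')) = p.asIdeal from e]
        rwa [Localization.AtPrime.map_eq_maximalIdeal]
    have hdisj : Disjoint (↑(Algebra.algebraMapSubmonoid B p.asIdeal.primeCompl) : Set B) (q.asIdeal : Set B) := by
      rw [Set.disjoint_left]
      rintro _ ⟨a, ha, rfl⟩ hm
      exact ha (by rw [← hq]; exact hm)
    haveI := IsLocalization.isPrime_of_isPrime_disjoint _ B' q.asIdeal q.2 hdisj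
    have h := (formallyEtale_atPrime_comp (A := A) (B := B) (A' := A') p.asIdeal.primeCompl
      (q.asIdeal.map (algebraMap B B'))).mp (by
        have := (Algebra.etaleLocus_eq_univ_iff_etale (R := A') (A := B')).mpr inferInstance
        exact Set.eq_univ_iff_forall.mp this ⟨q.asIdeal.map (algebraMap B B'), inferInstance⟩)
    have e := IsLocalization.comap_map_of_isPrime_disjoint _ B' q.2 hdisj
    simp only [e] at h
    exact h

end Groth.Agent.MiscTwoH99
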