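import Groth.Agent.MiscTwoH99.GaloisEtale
import Groth.Agent.MiscTwoH99.NormalPurity
import Groth.Agent.WQ7.Basic
import Groth.Agent.WQ7.Galois
import Groth.Agent.WQ7.Invariants
import Mathlib.RingTheory.Unramified.LocalRing

/-!
A finite group with regular invariant ring and trivial residue extension is generated by inertia in
height one.
-/

set_option autoImplicit false
universe u w

open IsLocalRing

namespace Groth.Agent.MiscTwoH99

/-- The height of a prime is at most the height of its contraction, along an integral extension. -/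
theorem height_le_height_comap {R A : Type u} [CommRing R] [CommRing A] [Algebra R A]
    [Algebra.IsIntegral R A] (P : Ideal A) [P.IsPrime] :
    P.height ≤ (P.comap (algebraMap R A)).height := by
  show (⟨P, inferInstance⟩ : PrimeSpectrum A).asIdeal.height ≤
    (PrimeSpectrum.comap (algebraMap R A) ⟨P, inferInstance⟩).asIdeal.height
  rw [PrimeSpectrum.height_eq_orderHeight, PrimeSpectrum.height_eq_orderHeight]
  refine Order.height_le_height_apply_of_strictMono
    (fun Q : PrimeSpectrum A => PrimeSpectrum.comap (algebraMap R A) Q) (fun a b hab => ?_)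
    (⟨P, inferInstance⟩ : PrimeSpectrum A)
  exact Ideal.comap_lt_comap_of_integral_mem_sdiff (I := a.asIdeal) hab.le
    (Set.nonempty_of_ssubset hab).some_mem (Algebra.IsIntegral.isIntegral _)

/-- A subgroup containing every height-one inertia group fixes only `R`. -/
theorem fixed_eq_base {R A : Type u} [CommRing R] [IsRegularLocalRing R]
    [CommRing A] [IsDomain A] [IsIntegrallyClosed A] [IsLocalRing A]
    [Algebra R A] [Module.Finite R A] (hinj : Function.Injective (algebraMap R A))
    (hres : Function.Surjective (IsLocalRing.residue A ∘ algebraMap R A))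
    {H : Type w} [Group H] [Finite H] [MulSemiringAction H A] [SMulCommClass H R A] [FaithfulSMul H A]
    (hfix : ∀ a : A, (∀ h : H, h • a = a) → a ∈ Set.range (algebraMap R A))
    (N : Subgroup H) [N.Normal] (hN : ∀ P : Ideal A, P.IsPrime → P.height = 1 → P.inertia H ≤ N)
    (a : A) (ha : ∀ g ∈ N, g • a = a) : a ∈ Set.range (algebraMap R A) := by
  haveI := RegLoc6.isDomain_of_isRegularLocalRing R
  let C : Subalgebra R A :=
    { carrier := {x | ∀ g ∈ N, g • x = x}
      mul_mem' := fun hx hy g hg => by rw [smul_mul', hx g hg, hy g hg]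
      add_mem' := fun hx hy g hg => by rw [smul_add, hx g hg, hy g hg]
      algebraMap_mem' := fun r g _ => smul_algebraMap g r }
  have stab : ∀ (h : H), ∀ c ∈ C, h • c ∈ C := fun h c hc g hg => by
    have := hc (h⁻¹ * g * h) (Subgroup.Normal.conj_mem' inferInstance g hg h)
    rw [mul_assoc, mul_smul, mul_smul, inv_smul_eq_iff] at this
    exact this
  let ρ : H →* (C ≃ₐ[R] C) :=
    { toFun := fun h =>
        { toFun := fun c => ⟨h • (c : A), stab h c c.2⟩
          invFun := fun c => ⟨h⁻¹ • (c : A), stab h⁻¹ c c.2⟩
          left_inv := fun c => Subtype.ext (inv_smul_smul h (c : A))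
          right_inv := fun c => Subtype.ext (smul_inv_smul h (c : A))
          map_mul' := fun c d => Subtype.ext (smul_mul' h (c : A) d)
          map_add' := fun c d => Subtype.ext (smul_add h (c : A) d)
          commutes' := fun r => Subtype.ext (smul_algebraMap h r) }
      map_one' := AlgEquiv.ext fun c => Subtype.ext (one_smul H (c : A))
      map_mul' := fun g h => AlgEquiv.ext fun c => Subtype.ext (mul_smul g h (c : A)) }
  let G := ρ.range
  haveI : Finite G := Finite.of_surjective _ ρ.rangeRestrict_surjective
  haveI : SMulCommClass G R C := ⟨fun g r c => map_smul g.1 r c⟩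
  haveI : Algebra.IsInvariant R C G := ⟨fun c hc => by
    obtain ⟨r, hr⟩ := hfix c fun h => congrArg Subtype.val (hc ⟨ρ h, h, rfl⟩)
    exact ⟨r, Subtype.ext hr⟩⟩
  haveI : FaithfulSMul R C := (faithfulSMul_iff_algebraMap_injective R C).2 fun x y h =>
    hinj (congrArg Subtype.val h)
  haveI : IsNoetherianRing R := inferInstance
  haveI : Module.Finite R C := Module.Finite.of_injective C.val.toLinearMap Subtype.val_injective
  haveI : IsIntegrallyClosed C := by
    refine @IsIntegrallyClosed.of_equiv (FixedPoints.subring A N) C _ _ ?_ (WQ7.isIntegrallyClosed_fixed)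
    exact
      { toFun := fun x => ⟨x.1, fun g hg => x.2 ⟨g, hg⟩⟩
        invFun := fun x => ⟨x.1, fun g => x.2 g.1 g.2⟩
        left_inv := fun _ => rfl
        right_inv := fun _ => rfl
        map_mul' := fun _ _ => rfl
        map_add' := fun _ _ => rfl }
  haveI : Algebra.IsIntegral C A := Algebra.IsIntegral.tower_top (R := R) (S := C) (T := A)
  haveI : Algebra.IsIntegral R A := Algebra.IsIntegral.of_finite R A
  have hinertia : ∀ q : Ideal R, q.IsPrime → q.height ≤ 1 → ∀ Q : Ideal C, Q.IsPrime →
      Q.comap (algebraMap R C) = q → Q.inertia G = ⊥ := by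
    intro q hq hq1 Q hQ hQq
    obtain ⟨P, -, hP, hPQ⟩ := Ideal.exists_ideal_over_prime_of_isIntegral Q (⊥ : Ideal A) (by
      rw [← RingHom.ker_eq_comap_bot, (RingHom.injective_iff_ker_eq_bot (algebraMap C A)).mp
        Subtype.val_injective]
      exact bot_le)
    have hPle : P.height ≤ 1 := by
      refine (height_le_height_comap (R := R) P).trans ?_
      rw [IsScalarTower.algebraMap_eq R C A, ← Ideal.comap_comap, hPQ, hQq]
      exact hq1
    have hPN : P.inertia H ≤ N := by
      rcases hPle.lt_or_eq with h0 | h1
      · have hbot : P = ⊥ := Ideal.height_eq_zero_iff_eq_bot.1 (ENat.lt_one_iff_eq_zero.1 h0)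
        intro g hg
        have : g = 1 := eq_of_smul_eq_smul (α := A) fun x => by
          rw [one_smul, ← sub_eq_zero]
          simpa [hbot] using hg x
        rw [this]
        exact N.one_mem
      · exact hN P hP h1
    rw [Subgroup.eq_bot_iff_forall]
    rintro ⟨_, h, rfl⟩ hh
    have hmem : h ∈ N := sup_eq_right.2 hPN ▸ WQ7.mem_inertia_sup N P h fun x hx => by
      have h1 := hh (⟨x, hx⟩ : C)
      rw [← hPQ] at h1
      exact h1
    exact Subtype.ext (AlgEquiv.ext fun c => Subtype.ext (c.2 h hmem))
  haveI : Algebra.Etale R C := by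
    refine etale_of_normal_of_codimOne (FaithfulSMul.algebraMap_injective R C) fun Q hQ => ?_
    obtain ⟨r, hr, het⟩ := exists_etale_away (R := R) (C := C) (G := G) (Q.asIdeal.comap (algebraMap R C))
      (hinertia _ inferInstance hQ)
    haveI : Algebra.FinitePresentation R C := Algebra.FinitePresentation.of_finiteType.mp inferInstance
    exact Algebra.basicOpen_subset_etaleLocus_iff_etale.2 het hr
  haveI : FaithfulSMul C A :=
    (faithfulSMul_iff_algebraMap_injective C A).2 Subtype.val_injective
  haveI := Algebra.IsIntegral.isLocalHom C A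
  have hunit : ∀ c : C, IsUnit (c : A) → IsUnit c := fun c hc =>
    IsUnit.of_map (algebraMap C A) c hc
  haveI : IsLocalRing C := IsLocalRing.of_nonunits_add fun x y hx hy => fun hxy => by
    rcases IsLocalRing.isUnit_or_isUnit_of_isUnit_add (hxy.map C.val) with h | h
    exacts [hx (hunit x h), hy (hunit y h)]
  haveI : Algebra.IsIntegral R C := Algebra.IsIntegral.of_finite R C
  haveI : IsLocalHom (algebraMap R C) := Algebra.IsIntegral.isLocalHom R C
  have hmax : (maximalIdeal R).map (algebraMap R C) = maximalIdeal C :=
    Algebra.FormallyUnramified.map_maximalIdeal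
  have htop : ⊤ ≤ LinearMap.range (Algebra.linearMap R C) ⊔ maximalIdeal R • (⊤ : Submodule R C) := by
    intro c _
    obtain ⟨r, hr⟩ := hres (residue A (c : A))
    have hc : c - algebraMap R C r ∈ maximalIdeal C := by
      rw [mem_maximalIdeal, mem_nonunits_iff]
      intro hu
      have h0 : residue A ((c : A) - algebraMap R A r) = 0 := by
        rw [map_sub, sub_eq_zero]; exact hr.symm
      exact (residue_eq_zero_iff _).1 h0 (hu.map C.val)
    rw [← hmax] at hc
    rw [← add_sub_cancel (algebraMap R C r) c]
    exact Submodule.add_mem_sup ⟨r, rfl⟩ (by rw [Ideal.smul_top_eq_map]; exact hc)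
  have hsurj : LinearMap.range (Algebra.linearMap R C) = ⊤ := top_le_iff.1
    (Submodule.le_of_le_smul_of_le_jacobson_bot Module.Finite.fg_top
      (maximalIdeal_le_jacobson _) htop)
  obtain ⟨r, hr⟩ : (⟨a, ha⟩ : C) ∈ LinearMap.range (Algebra.linearMap R C) := hsurj ▸ trivial
  exact ⟨r, congrArg Subtype.val hr⟩

/-- `H` is generated by the inertia groups of the height-one primes. -/
theorem iSup_inertia_eq_top {R : Type u} [CommRing R] [IsRegularLocalRing R]
    {A : Type*} [CommRing A] [IsDomain A] [IsIntegrallyClosed A] [IsLocalRing A]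
    [Algebra R A] [Module.Finite R A] (hinj : Function.Injective (algebraMap R A))
    (hres : Function.Surjective (IsLocalRing.residue A ∘ algebraMap R A))
    {H : Type w} [Group H] [Finite H] [MulSemiringAction H A] [SMulCommClass H R A] [FaithfulSMul H A]
    (hfix : ∀ a : A, (∀ h : H, h • a = a) → a ∈ Set.range (algebraMap R A)) :
    (⨆ P : {P : Ideal A // P.IsPrime ∧ P.height = 1}, P.1.inertia H) = ⊤ := by
  set N := ⨆ P : {P : Ideal A // P.IsPrime ∧ P.height = 1}, P.1.inertia H
  haveI : N.Normal := ⟨fun n hn g => by
    refine Subgroup.iSup_induction (C := fun x => g * x * g⁻¹ ∈ N) _ hn (fun P x hx => ?_) ?_ ?_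
    · let e : A ≃+* A := MulSemiringAction.toRingEquiv H A g⁻¹
      have := P.2.1
      refine Subgroup.mem_iSup_of_mem ⟨P.1.comap e, inferInstance, (e.height_comap P.1).trans P.2.2⟩
        fun a => ?_
      show e ((g * x * g⁻¹) • a - a) ∈ P.1
      have he : ∀ b, e b = g⁻¹ • b := fun _ => rfl
      rw [he, smul_sub, smul_smul, show g⁻¹ * (g * x * g⁻¹) = x * g⁻¹ by group, mul_smul]
      exact hx (g⁻¹ • a)
    · simp
    · intro x y hx hy
      have := N.mul_mem hx hy
      rwa [show g * x * g⁻¹ * (g * y * g⁻¹) = g * (x * y) * g⁻¹ by group] at this⟩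
  have hfixed : ∀ a : A, (∀ g ∈ N, g • a = a) → a ∈ Submodule.span R (Set.range fun _ : Unit => (1 : A)) := by
    intro a ha
    let R' : Subring A := (algebraMap R A).range
    let e : R ≃+* R' := RingEquiv.ofBijective (algebraMap R A).rangeRestrict
      ⟨fun a b h => hinj (congrArg Subtype.val h), (algebraMap R A).rangeRestrict_surjective⟩
    haveI : IsRegularLocalRing R' := IsRegularLocalRing.of_ringEquiv e
    have hc : ∀ r : R, ((e r : R') : A) = algebraMap R A r := fun r => rfl
    haveI : SMulCommClass H R' A := ⟨fun h r x => by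
      obtain ⟨r, rfl⟩ := e.surjective r
      show h • ((e r : A) * x) = (e r : A) * h • x
      rw [smul_mul', hc, smul_algebraMap]⟩
    haveI : Module.Finite R' A := by
      obtain ⟨T, hT⟩ := (inferInstance : Module.Finite R A).fg_top
      refine ⟨⟨T, eq_top_iff.mpr fun x hxt => ?_⟩⟩
      clear hxt
      have hx : x ∈ Submodule.span R (T : Set A) := hT ▸ trivial
      induction hx using Submodule.span_induction with
      | mem y hy => exact Submodule.subset_span hy
      | zero => exact zero_mem _
      | add y z _ _ hy hz => exact add_mem hy hz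
      | smul r y _ hy =>
        have := Submodule.smul_mem _ (e r) hy
        rwa [Subring.smul_def, smul_eq_mul, hc, ← Algebra.smul_def] at this
    obtain ⟨⟨_, r, rfl⟩, hr⟩ := fixed_eq_base (R := R') (A := A) (H := H) Subtype.val_injective
      (fun k => by
        obtain ⟨r, hr⟩ := hres k
        exact ⟨e r, hr⟩)
      (fun b hb => by
        obtain ⟨r, hr⟩ := hfix b hb
        exact ⟨e r, hr⟩)
      N (fun P hP h1 => le_iSup_of_le (⟨P, hP, h1⟩ : {P : Ideal A // P.IsPrime ∧ P.height = 1}) le_rfl) a ha
    rw [← hr]
    show algebraMap R A r ∈ _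
    rw [Algebra.algebraMap_eq_smul_one]
    exact Submodule.smul_mem _ r (Submodule.subset_span ⟨(), rfl⟩)
  haveI := RegLoc6.isDomain_of_isRegularLocalRing R
  have := (WQ7.index_le_card hinj hfix N _ hfixed).1
  simp only [Fintype.card_unit] at this
  exact Subgroup.index_eq_one.1 (le_antisymm this (Nat.one_le_iff_ne_zero.2 N.index_ne_zero_of_finite))

end Groth.Agent.MiscTwoH99
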