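import Mathlib.Algebra.MonoidAlgebra.MapDomain
import Mathlib.Algebra.MonoidAlgebra.Lift
import Mathlib.Tactic.LinearCombination
import Mathlib.RingTheory.Ideal.Quotient.Basic

/-!
The subring of a monoid algebra of a thickening on which taking the constant coefficient is multiplicative.
-/

universe u

open MonoidAlgebra

namespace Groth.Agent.MiscTwoH99.MagAvg

variable {C C₀ : Type u} [CommRing C] [CommRing C₀] (π : C →+* C₀) (G : Type) [CommMonoid G]

/-- The elements which are constant modulo the kernel. -/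
noncomputable abbrev rg : Subring (MonoidAlgebra C G) :=
  ((singleOneRingHom : C₀ →+* MonoidAlgebra C₀ G).range).comap (mapRingHom G π)

variable {G}

theorem map_eq_of_mem {f : MonoidAlgebra C G} (hf : f ∈ rg π G) :
    mapRingHom G π f = single 1 (π (f.coeff 1)) := by
  obtain ⟨c, hc⟩ := hf
  have h := congrArg (fun q : MonoidAlgebra C₀ G => q.coeff 1) hc
  simp only [coeff_mapRingHom] at h
  change (single (1 : G) c).coeff 1 = _ at h
  rw [coeff_single, Finsupp.single_eq_same] at h
  rw [← hc, ← h]
  rfl

theorem mul_eq_zero_of_map (hJ : ∀ a b : C, π a = 0 → π b = 0 → a * b = 0) {x y : MonoidAlgebra C G}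
    (hx : mapRingHom G π x = 0) (hy : mapRingHom G π y = 0) : x * y = 0 := by
  have hc : ∀ {z : MonoidAlgebra C G}, mapRingHom G π z = 0 → ∀ g, π (z.coeff g) = 0 := fun {z} hz g => by
    rw [← coeff_mapRingHom, hz]; rfl
  rw [← sum_coeff_single x, ← sum_coeff_single y, Finsupp.sum, Finsupp.sum, Finset.sum_mul_sum]
  refine Finset.sum_eq_zero fun i _ => Finset.sum_eq_zero fun j _ => ?_
  rw [single_mul_single, hJ _ _ (hc hx i) (hc hy j), single_zero]

theorem coeff_one_mul (hJ : ∀ a b : C, π a = 0 → π b = 0 → a * b = 0) {f g : MonoidAlgebra C G}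
    (hf : f ∈ rg π G) (hg : g ∈ rg π G) : (f * g).coeff 1 = f.coeff 1 * g.coeff 1 := by
  have h : ∀ {z : MonoidAlgebra C G}, z ∈ rg π G →
      mapRingHom G π (z - single 1 (z.coeff 1)) = 0 ∧ (z - single 1 (z.coeff 1)).coeff 1 = 0 := fun {z} hz =>
    ⟨by rw [map_sub, map_eq_of_mem π hz, mapRingHom_single, sub_self], by simp⟩
  have e : f * g = single 1 (f.coeff 1 * g.coeff 1) + single 1 (f.coeff 1) * (g - single 1 (g.coeff 1)) +
      (f - single 1 (f.coeff 1)) * single 1 (g.coeff 1) := by
    have := mul_eq_zero_of_map π hJ (h hf).1 (h hg).1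
    have h11 : (single 1 (f.coeff 1) * single 1 (g.coeff 1) : MonoidAlgebra C G) = single 1 (f.coeff 1 * g.coeff 1) := by
      rw [single_mul_single, _root_.one_mul]
    linear_combination this + h11
  rw [e]
  simp [coeff_single_one_mul, coeff_mul_single_one]

/-- The constant coefficient. -/
noncomputable def eps (hJ : ∀ a b : C, π a = 0 → π b = 0 → a * b = 0) : rg π G →+* C where
  toFun f := (f : MonoidAlgebra C G).coeff 1
  map_one' := coeff_one_one
  map_mul' f g := coeff_one_mul π hJ f.2 g.2
  map_zero' := rfl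
  map_add' f g := rfl

variable (G) in
/-- The constants. -/
noncomputable def cst : C →+* rg π G :=
  (singleOneRingHom : C →+* MonoidAlgebra C G).codRestrict _ fun c =>
    ⟨π c, (mapRingHom_single π 1 c).symm⟩

/-- The augmentation. -/
noncomputable def aug : MonoidAlgebra C₀ G →+* C₀ :=
  MonoidAlgebra.liftNCRingHom (RingHom.id C₀) 1 fun _ _ => Commute.all _ _

theorem aug_single (g : G) (c : C₀) : aug (single g c) = c :=
  (MonoidAlgebra.liftNCRingHom_single _ _ _ _ _).trans (mul_one c)

/-- The reduction. -/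
noncomputable def bet : rg π G →+* C₀ := (aug.comp (mapRingHom G π)).comp (rg π G).subtype

theorem bet_eq (f : rg π G) : bet π f = π ((f : MonoidAlgebra C G).coeff 1) := by
  show aug (mapRingHom G π f.1) = _
  rw [map_eq_of_mem π f.2, aug_single]

theorem eps_cst (hJ : ∀ a b : C, π a = 0 → π b = 0 → a * b = 0) (c : C) : eps π hJ (cst π G c) = c := by
  show (single (1 : G) c).coeff 1 = c
  rw [coeff_single, Finsupp.single_eq_same]

end Groth.Agent.MiscTwoH99.MagAvg
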