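import Groth.Agent.MiscTwoH99.MagAvg
import Groth.Agent.S1488
import Groth.Prelude.Def_Magnet3

/-! Equivariant lifting of morphisms to a smooth scheme with an action of a diagonalizable group. -/

universe u

open CategoryTheory CategoryTheory.Limits MonoidalCategory CartesianMonoidalCategory MonObj AlgebraicGeometry
open Magnet

namespace Groth.Agent.MiscTwoH99.MagLift

open H23.CharPts MagAvg

attribute [-instance] ULift.smulLeft

variable {S : Scheme.{u}} {M : Type} [AddCommGroup M]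

/-- The inverse of the group. -/
noncomputable abbrev gi (S : Scheme.{u}) (M : Type) [AddCommGroup M] : AMonS S M ⟶ AMonS S M :=
  AMonS.map S (-(AddMonoidHom.id M))

theorem inv_mul {T : Over S} (g : T ⟶ AMonS S M) : g ≫ gi S M * g = 1 := by
  refine chi_injective (MonoidHom.ext fun n => ?_)
  have h1 : IsUnit (chi (1 : T ⟶ AMonS S M) n) := (Group.isUnit n).map _
  have h2 : chi (1 : T ⟶ AMonS S M) n * chi (1 : T ⟶ AMonS S M) n = chi (1 : T ⟶ AMonS S M) n * 1 := by
    rw [← chi_mul, _root_.one_mul, _root_.mul_one]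
  rw [chi_mul, chi_map, ← map_mul, h1.mul_left_cancel h2]
  show chi g (AddMonoidHom.toMultiplicative (-(AddMonoidHom.id M)) n * n) = 1
  rw [show AddMonoidHom.toMultiplicative (-(AddMonoidHom.id M)) n * n = 1 from
    Multiplicative.toAdd.injective (neg_add_cancel n.toAdd), map_one]

theorem mul_inv_mul {T : Over S} (g h : T ⟶ AMonS S M) : h * (g * h) ≫ gi S M = g ≫ gi S M := by
  refine chi_injective (MonoidHom.ext fun n => ?_)
  have h1 := DFunLike.congr_fun (congrArg chi (inv_mul h)) n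
  rw [MonObj.mul_comp, chi_mul, chi_mul]
  rw [chi_mul] at h1
  have h2 : chi (1 : T ⟶ AMonS S M) n * chi (g ≫ gi S M) n = chi (g ≫ gi S M) n := by
    rw [← chi_mul, _root_.one_mul]
  linear_combination (chi (g ≫ gi S M) n) * h1 + h2

theorem act_cancel {X : Over S} (a : MonAct (AMonS S M) X) {T : Over S} (g : T ⟶ AMonS S M) (x : T ⟶ X) :
    lift (g ≫ gi S M) (lift g x ≫ a.act) ≫ a.act = x := by
  rw [← a.lift_mul_act, inv_mul, a.lift_one_act]

variable {C C₀ : Type u} [CommRing C] [CommRing C₀]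

/-- Equivariant lifting. -/
theorem exists_eqv_lift (str : Spec (CommRingCat.of C) ⟶ S) (π : C →+* C₀) (hπ : Function.Surjective π)
    (hJ : ∀ a b : C, π a = 0 → π b = 0 → a * b = 0) {X Y : Over S} (aX : MonAct (AMonS S M) X)
    (aY : MonAct (AMonS S M) Y) (F : X ⟶ Y) (hF : MonAct.IsEquivariant aX aY F) [Smooth F.left]
    (ρ : MonAct (AMonS S M) (W str)) (ρ₀ : AMonS S M ⊗ W₀ str π ⟶ W₀ str π)
    (hρ : AMonS S M ◁ red str π ≫ ρ.act = ρ₀ ≫ red str π) (x : W₀ str π ⟶ X)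
    (hx : ρ₀ ≫ x = AMonS S M ◁ x ≫ aX.act) (y : W str ⟶ Y) (hy : MonAct.IsEquivariant ρ aY y)
    (hxy : x ≫ F = red str π ≫ y) :
    ∃ l : W str ⟶ X, MonAct.IsEquivariant ρ aX l ∧ red str π ≫ l = x ∧ l ≫ F = y := by
  -- a lift which need not be equivariant
  obtain ⟨l₀, hl₀, hl₀F⟩ : ∃ l₀ : W str ⟶ X, red str π ≫ l₀ = x ∧ l₀ ≫ F = y := by
    let e := RingHom.quotientKerEquivOfSurjective hπ
    let ε : Spec (CommRingCat.of C₀) ⟶ Spec (CommRingCat.of (C ⧸ RingHom.ker π)) :=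
      Spec.map (CommRingCat.ofHom e.toRingHom)
    haveI : IsIso ε := inferInstanceAs (IsIso (Spec.map e.toCommRingCatIso.hom))
    have hε : ε ≫ Spec.map (CommRingCat.ofHom (Ideal.Quotient.mk (RingHom.ker π))) = (red str π).left := by
      show Spec.map _ ≫ Spec.map _ = Spec.map _
      rw [← Spec.map_comp]
      exact congrArg Spec.map (CommRingCat.hom_ext (RingHom.ext fun c => rfl))
    have hI : RingHom.ker π ^ 2 = ⊥ := by
      rw [pow_two, eq_bot_iff]
      refine Ideal.mul_le.mpr fun a ha b hb => ?_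
      rw [Ideal.mem_bot]
      exact hJ a b ha hb
    obtain ⟨l, hl, hl'⟩ := ((S1488.result F.left).mp ‹_›).2 C (RingHom.ker π) hI (inv ε ≫ x.left) y.left (by
      rw [← cancel_epi ε, ← Category.assoc, hε, Category.assoc, IsIso.hom_inv_id_assoc]
      exact (congrArg Over.Hom.left hxy).symm)
    refine ⟨Over.homMk l ?_, Over.OverMorphism.ext ?_, Over.OverMorphism.ext hl'⟩
    · rw [← Over.w F, ← Category.assoc, hl', Over.w]
    · show (red str π).left ≫ l = x.left
      rw [← hε, Category.assoc, hl, IsIso.hom_inv_id_assoc]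
  let Φ : AMonS S M ⊗ W str ⟶ X := lift (fst _ _ ≫ gi S M) (ρ.act ≫ l₀) ≫ aX.act
  have hΦ : ∀ (T : Over S) (g : T ⟶ AMonS S M) (w : T ⟶ W str),
      lift g w ≫ Φ = lift (g ≫ gi S M) (lift g w ≫ ρ.act ≫ l₀) ≫ aX.act := fun T g w => by
    rw [show Φ = _ from rfl, comp_lift_assoc, lift_fst_assoc]
  have hcompat : AMonS S M ◁ red str π ≫ Φ = snd _ _ ≫ x := by
    refine hom_ext_lift₂ fun T g w => ?_
    have e : lift g (w ≫ red str π) ≫ ρ.act ≫ l₀ = lift g (w ≫ x) ≫ aX.act := by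
      rw [← lift_whiskerLeft_assoc, reassoc_of% hρ, hl₀, hx, lift_whiskerLeft_assoc]
    rw [lift_whiskerLeft_assoc, hΦ, lift_snd_assoc, e, act_cancel]
  obtain ⟨l, hl⟩ := exists_isAvg (hJ := hJ) hπ Φ x hcompat
  refine ⟨l, ?_, ?_, ?_⟩
  · -- equivariance
    haveI := isIso_jQ (K := M) str
    show ρ.act ≫ l = AMonS S M ◁ l ≫ aX.act
    rw [← cancel_epi (jQ str), ← Category.assoc, ← Category.assoc (jQ str), jQ, lift_whiskerLeft]
    let φ : Q M str ⟶ W str := lift (qg str) (qpr str) ≫ ρ.act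
    let str₀ := Spec.map (CommRingCat.ofHom π) ≫ str
    let φ₀ : Q M str₀ ⟶ W₀ str π := lift (qg str₀) (qpr str₀) ≫ ρ₀
    obtain ⟨f, hf⟩ : ∃ f : C →+* MonoidAlgebra C (Multiplicative M), Spec.map (CommRingCat.ofHom f) = φ.left :=
      ⟨(Spec.preimage φ.left).hom, Spec.map_preimage _⟩
    obtain ⟨f₀, hf₀⟩ : ∃ f₀ : C₀ →+* MonoidAlgebra C₀ (Multiplicative M), Spec.map (CommRingCat.ofHom f₀) = φ₀.left :=
      ⟨(Spec.preimage φ₀.left).hom, Spec.map_preimage _⟩
    have hfπ : (MonoidAlgebra.mapRingHom (Multiplicative M) π).comp f = f₀.comp π := by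
      have h1 : (hm (MonoidAlgebra.mapRingHom (Multiplicative M) π) (qmap_aux π rfl) : Q M str₀ ⟶ Q M str) ≫ φ =
          φ₀ ≫ red str π := by
        show _ ≫ jQ str ≫ ρ.act = (jQ str₀ ≫ ρ₀) ≫ red str π
        rw [← Category.assoc, ← jQ_whiskerLeft π rfl _, Category.assoc, hρ, Category.assoc]
      have h2 : (hm (MonoidAlgebra.mapRingHom (Multiplicative M) π) (qmap_aux π rfl) : Q M str₀ ⟶ Q M str).left ≫ φ.left =
          φ₀.left ≫ (red str π).left := congrArg Over.Hom.left h1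
      rw [← hf, ← hf₀] at h2
      change Spec.map _ ≫ Spec.map _ = Spec.map _ ≫ Spec.map _ at h2
      rw [← Spec.map_comp, ← Spec.map_comp] at h2
      exact congrArg CommRingCat.Hom.hom (Spec.map_injective h2)
    have hfw : Spec.map (CommRingCat.ofHom f) ≫ str = (Q M str).hom := by
      rw [hf]; exact Over.w φ
    have hφ : (hm f hfw : Q M str ⟶ W str) = φ := Over.OverMorphism.ext hf
    have hJ' : ∀ a b : MonoidAlgebra C (Multiplicative M), MonoidAlgebra.mapRingHom _ π a = 0 →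
        MonoidAlgebra.mapRingHom _ π b = 0 → a * b = 0 := fun a b => mul_eq_zero_of_map π hJ
    have hπ' : Function.Surjective (MonoidAlgebra.mapRingHom (Multiplicative M) π) :=
      MonoidAlgebra.map_surjective π.toAddMonoidHom hπ
    have A1 := hl.map (hJ' := hJ') f f₀ hfπ hfw
    have A2 := ((isAvg_snd (π := MonoidAlgebra.mapRingHom (Multiplicative M) π) (hJ := hJ') (qg str)).lift
      ((hl.map (hJ' := hJ') (MonoidAlgebra.singleOneRingHom : C →+* MonoidAlgebra C (Multiplicative M))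
        MonoidAlgebra.singleOneRingHom
        (RingHom.ext fun c => MonoidAlgebra.mapRingHom_single π 1 c) rfl).shift (qg str))).comp aX.act
    rw [hφ] at A1
    refine IsAvg.unique hπ' A1 ?_
    convert A2 using 1
    refine hom_ext_lift₂ fun T g q => ?_
    have e : lift g (q ≫ φ) ≫ ρ.act ≫ l₀ = lift (g * q ≫ qg str) (q ≫ qpr str) ≫ ρ.act ≫ l₀ := by
      show lift g (q ≫ lift (qg str) (qpr str) ≫ ρ.act) ≫ ρ.act ≫ l₀ = _
      rw [comp_lift_assoc, ← Category.assoc, ← ρ.lift_mul_act, Category.assoc]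
    have k1 : lift g q ≫ snd (AMonS S M) (Q M str) = q := lift_snd _ _
    have k2 : lift g q ≫ fst (AMonS S M) (Q M str) = g := lift_fst _ _
    simp only [lift_whiskerLeft_assoc, hΦ, e, comp_lift_assoc, MonObj.comp_mul, reassoc_of% k1, reassoc_of% k2,
      k1, k2]
    rw [← aX.lift_mul_act]
    refine congrArg (fun v => lift v _ ≫ aX.act) ?_
    have k3 : lift g q ≫ (fst (AMonS S M) (Q M str) * snd (AMonS S M) (Q M str) ≫ qg str) = g * q ≫ qg str := by
      rw [MonObj.comp_mul, k2, reassoc_of% k1]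
    exact (mul_inv_mul g (q ≫ qg str)).symm.trans (congrArg (fun v => q ≫ qg str * v) (by rw [← Category.assoc, ← k3]))
  · rw [hl.red_comp, show (lift (1 : W₀ str π ⟶ AMonS S M) (red str π)) = lift 1 (𝟙 _) ≫ AMonS S M ◁ red str π by
      rw [lift_whiskerLeft, Category.id_comp], Category.assoc, hcompat, lift_snd_assoc, Category.id_comp]
  · refine IsAvg.unique hπ (hl.comp F) ?_
    convert isAvg_snd (π := π) (hJ := hJ) y using 1
    refine hom_ext_lift₂ fun T g w => ?_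
    rw [lift_snd_assoc, ← Category.assoc (lift g w) Φ, hΦ, Category.assoc, hF, lift_whiskerLeft_assoc,
      Category.assoc (lift g w), Category.assoc ρ.act, hl₀F, hy, lift_whiskerLeft_assoc, act_cancel]

/-- Equivariant lifting along an equivariant thickening of objects isomorphic to affine schemes. -/
theorem exists_eqv_lift_of_iso (str : Spec (CommRingCat.of C) ⟶ S) (π : C →+* C₀) (hπ : Function.Surjective π)
    (hJ : ∀ a b : C, π a = 0 → π b = 0 → a * b = 0) {X Y : Over S} (aX : MonAct (AMonS S M) X)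
    (aY : MonAct (AMonS S M) Y) (F : X ⟶ Y) (hF : MonAct.IsEquivariant aX aY F) [Smooth F.left]
    {B B₀ : Over S} (j : W str ⟶ B) [IsIso j] (j₀ : W₀ str π ⟶ B₀) [IsIso j₀] (t : B₀ ⟶ B)
    (hjt : red str π ≫ j = j₀ ≫ t) (β : MonAct (AMonS S M) B) (β₀ : AMonS S M ⊗ B₀ ⟶ B₀)
    (ht : β₀ ≫ t = AMonS S M ◁ t ≫ β.act) (x : B₀ ⟶ X) (hx : β₀ ≫ x = AMonS S M ◁ x ≫ aX.act)
    (y : B ⟶ Y) (hy : MonAct.IsEquivariant β aY y) (hxy : x ≫ F = t ≫ y) :
    ∃ l : B ⟶ X, MonAct.IsEquivariant β aX l ∧ t ≫ l = x ∧ l ≫ F = y := by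
  have hact : ∀ (T : Over S) (g : T ⟶ AMonS S M) (w : T ⟶ W str),
      lift g w ≫ (AMonS S M ◁ j ≫ β.act ≫ inv j) = lift g (w ≫ j) ≫ β.act ≫ inv j := fun T g w => by
    rw [lift_whiskerLeft_assoc]
  let ρ : MonAct (AMonS S M) (W str) := MonAct.mk' (AMonS S M ◁ j ≫ β.act ≫ inv j)
    (fun T w => by rw [hact, β.lift_one_act_assoc, Category.assoc, IsIso.hom_inv_id, Category.comp_id])
    (fun T g h w => by
      rw [hact, hact, hact]
      simp only [Category.assoc, IsIso.inv_hom_id, Category.comp_id]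
      rw [β.lift_mul_act_assoc])
  let ρ₀ : AMonS S M ⊗ W₀ str π ⟶ W₀ str π := AMonS S M ◁ j₀ ≫ β₀ ≫ inv j₀
  have hji : inv j₀ ≫ red str π = t ≫ inv j := by
    rw [IsIso.inv_comp_eq, ← Category.assoc, ← hjt, Category.assoc, IsIso.hom_inv_id, Category.comp_id]
  obtain ⟨l, hl, hl1, hl2⟩ := exists_eqv_lift str π hπ hJ aX aY F hF ρ ρ₀
    (by
      show AMonS S M ◁ red str π ≫ AMonS S M ◁ j ≫ β.act ≫ inv j = (AMonS S M ◁ j₀ ≫ β₀ ≫ inv j₀) ≫ red str π
      rw [← whiskerLeft_comp_assoc, hjt, whiskerLeft_comp_assoc, ← reassoc_of% ht, Category.assoc, Category.assoc, hji])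
    (j₀ ≫ x) (by
      show (AMonS S M ◁ j₀ ≫ β₀ ≫ inv j₀) ≫ j₀ ≫ x = _
      rw [Category.assoc, Category.assoc, IsIso.inv_hom_id_assoc, hx, whiskerLeft_comp_assoc])
    (j ≫ y) (by
      show (AMonS S M ◁ j ≫ β.act ≫ inv j) ≫ j ≫ y = AMonS S M ◁ (j ≫ y) ≫ aY.act
      rw [Category.assoc, Category.assoc, IsIso.inv_hom_id_assoc, hy, whiskerLeft_comp_assoc])
    (by rw [Category.assoc, hxy, reassoc_of% hjt])
  refine ⟨inv j ≫ l, ?_, ?_, ?_⟩
  · have h : (AMonS S M ◁ j ≫ β.act ≫ inv j) ≫ l = AMonS S M ◁ l ≫ aX.act := hl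
    show β.act ≫ inv j ≫ l = AMonS S M ◁ (inv j ≫ l) ≫ aX.act
    rw [whiskerLeft_comp_assoc, ← h]
    simp only [← whiskerLeft_comp_assoc, IsIso.inv_hom_id, MonoidalCategory.whiskerLeft_id, Category.id_comp,
      Category.assoc]
  · rw [← cancel_epi j₀, ← reassoc_of% hjt, IsIso.hom_inv_id_assoc, hl1]
  · rw [Category.assoc, hl2, IsIso.inv_hom_id_assoc]

end Groth.Agent.MiscTwoH99.MagLift
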