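import Mathlib.CategoryTheory.Abelian.Refinements
import Mathlib.CategoryTheory.Abelian.Exact
import Mathlib.CategoryTheory.Subobject.Limits
import Mathlib.CategoryTheory.Subobject.Basic
import Mathlib.Algebra.Homology.ShortComplex.ShortExact

set_option autoImplicit false
universe v u
open CategoryTheory CategoryTheory.Limits

namespace Groth.Agent.MiscTwoH99.NineDiagram

variable {C : Type u} [Category.{v} C] [Abelian C] {A₁ A₂ A₃ B₂ C₁ C₂ C₃ Z K : C}

theorem sections_bij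
    (i₁ : A₁ ⟶ A₂) (p₁ : A₂ ⟶ A₃) (wA : i₁ ≫ p₁ = 0) (hA : (ShortComplex.mk i₁ p₁ wA).ShortExact)
    (i₂ : A₂ ⟶ B₂) (π₂ : B₂ ⟶ C₂) (wB : i₂ ≫ π₂ = 0) [Mono i₂] [Epi π₂]
    (j : C₁ ⟶ C₂) (q : C₂ ⟶ C₃) (wC : j ≫ q = 0) [Mono j] [Epi q]
    (z : Z ⟶ B₂) [Mono z] (hz : z ≫ π₂ ≫ q = 0)
    (hlift : ∀ {T : C} (x : T ⟶ B₂), x ≫ π₂ ≫ q = 0 → ∃ x' : T ⟶ Z, x' ≫ z = x)
    (h : Z ⟶ K) [Epi h] (l : A₂ ⟶ Z) (hl : l ≫ z = i₂) (wl : (i₁ ≫ l) ≫ h = 0)
    (hex : (ShortComplex.mk (i₁ ≫ l) h wl).Exact)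
    (f : A₃ ⟶ K) (g : K ⟶ C₁) (hf : p₁ ≫ f = l ≫ h) (hg : h ≫ g ≫ j = z ≫ π₂)
    (wfg : f ≫ g = 0) (hfg : (ShortComplex.mk f g wfg).ShortExact) :
    (∀ B₁ : Subobject B₂,
      (∃ (a : A₁ ⟶ (B₁ : C)) (c : (B₁ : C) ⟶ C₁) (wac : a ≫ c = 0)
         (a' : A₃ ⟶ cokernel B₁.arrow) (c' : cokernel B₁.arrow ⟶ C₃) (wac' : a' ≫ c' = 0),
         a ≫ B₁.arrow = i₁ ≫ i₂ ∧ c ≫ j = B₁.arrow ≫ π₂ ∧ (ShortComplex.mk a c wac).ShortExact ∧
         p₁ ≫ a' = i₂ ≫ cokernel.π B₁.arrow ∧ cokernel.π B₁.arrow ≫ c' = π₂ ≫ q ∧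
         (ShortComplex.mk a' c' wac').ShortExact) ↔
      ∃ s : C₁ ⟶ K, s ≫ g = 𝟙 C₁ ∧
        (Subobject.map z).obj ((Subobject.pullback h).obj (imageSubobject s)) = B₁) ∧
    (∀ s s' : C₁ ⟶ K, s ≫ g = 𝟙 C₁ → s' ≫ g = 𝟙 C₁ →
      (Subobject.map z).obj ((Subobject.pullback h).obj (imageSubobject s)) =
        (Subobject.map z).obj ((Subobject.pullback h).obj (imageSubobject s')) → s = s') := by
  haveI : Mono i₁ := hA.mono_f
  haveI : Epi p₁ := hA.epi_g
  haveI : Mono f := hfg.mono_f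
  have hB : ∀ (s : C₁ ⟶ K) [Mono s], (Subobject.map z).obj ((Subobject.pullback h).obj (imageSubobject s)) =
      Subobject.mk (pullback.snd s h ≫ z) := by
    intro s _
    rw [imageSubobject_mono, Subobject.pullback_obj_mk (IsPullback.of_hasPullback s h), Subobject.map_mk]
  have hmono : ∀ s : C₁ ⟶ K, s ≫ g = 𝟙 C₁ → Mono s := fun s hs =>
    @SplitMono.mono _ _ _ _ s ⟨g, hs⟩
  refine ⟨fun B₁ => ⟨?_, ?_⟩, ?_⟩
  · rintro ⟨a, c, wac, -, -, -, ha, hc, hac, -, -, -⟩
    haveI : Epi c := hac.epi_g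
    obtain ⟨b, hb⟩ := hlift B₁.arrow (by rw [← reassoc_of% hc, wC, comp_zero])
    have hab : a ≫ b = i₁ ≫ l := by
      rw [← cancel_mono z, Category.assoc, Category.assoc, hb, hl, ha]
    let s : C₁ ⟶ K := hac.exact.desc (b ≫ h) (by
      show a ≫ b ≫ h = 0
      rw [reassoc_of% hab, ← Category.assoc, wl])
    have hs : c ≫ s = b ≫ h := hac.exact.g_desc _ _
    have hsg : s ≫ g = 𝟙 C₁ := by
      rw [← cancel_epi c, ← cancel_mono j]
      simp only [Category.assoc, Category.comp_id]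
      rw [reassoc_of% hs, hg, reassoc_of% hb, hc]
    haveI := hmono s hsg
    refine ⟨s, hsg, ?_⟩
    rw [hB s]
    refine le_antisymm ?_ (Subobject.le_mk_of_comm (pullback.lift c b hs) (by
      rw [pullback.lift_snd_assoc, hb]))
    refine Subobject.mk_le_of_comm (Abelian.monoLift B₁.arrow (pullback.snd s h ≫ z) ?_)
      (Abelian.monoLift_comp _ _ _)
    obtain ⟨T, e, he, y, hy⟩ := surjective_up_to_refinements_of_epi c (pullback.fst s h)
    have h0 : (e ≫ pullback.snd s h - y ≫ b) ≫ h = 0 := by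
      rw [Preadditive.sub_comp, Category.assoc, Category.assoc, ← pullback.condition, reassoc_of% hy, hs, sub_self]
    obtain ⟨T', e', he', w, hw⟩ := hex.exact_up_to_refinements _ h0
    dsimp at w hw
    rw [Preadditive.comp_sub, sub_eq_iff_eq_add, ← hab] at hw
    rw [← cancel_epi e, ← cancel_epi e', Category.assoc, reassoc_of% hw]
    simp [reassoc_of% hb]
  · rintro ⟨s, hsg, rfl⟩
    haveI := hmono s hsg
    rw [hB s]
    let e := Subobject.underlyingIso (pullback.snd s h ≫ z)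
    have hearr : e.hom ≫ pullback.snd s h ≫ z = (Subobject.mk (pullback.snd s h ≫ z)).arrow := Subobject.underlyingIso_hom_comp_eq_mk _
    let a : A₁ ⟶ ((Subobject.mk (pullback.snd s h ≫ z) : Subobject B₂) : C) :=
      pullback.lift 0 (i₁ ≫ l) (by rw [zero_comp, wl]) ≫ e.inv
    let c : ((Subobject.mk (pullback.snd s h ≫ z) : Subobject B₂) : C) ⟶ C₁ := e.hom ≫ pullback.fst s h
    have ha : a ≫ (Subobject.mk (pullback.snd s h ≫ z)).arrow = i₁ ≫ i₂ := by
      simp only [a, ← hearr, Category.assoc, Iso.inv_hom_id_assoc, pullback.lift_snd_assoc, hl]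
    have hc : c ≫ j = (Subobject.mk (pullback.snd s h ≫ z)).arrow ≫ π₂ := by
      simp only [c, ← hearr, Category.assoc, ← hg]
      rw [← pullback.condition_assoc, reassoc_of% hsg]
    have wac : a ≫ c = 0 := by
      simp [a, c]
      exact pullback.lift_fst _ _ _
    have hq : (Subobject.mk (pullback.snd s h ≫ z)).arrow ≫ π₂ ≫ q = 0 := by rw [← reassoc_of% hc, wC, comp_zero]
    let a' : A₃ ⟶ cokernel (Subobject.mk (pullback.snd s h ≫ z)).arrow := hA.exact.desc (i₂ ≫ cokernel.π _) (by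
      show i₁ ≫ i₂ ≫ cokernel.π _ = 0
      rw [← reassoc_of% ha, cokernel.condition, comp_zero])
    have ha' : p₁ ≫ a' = i₂ ≫ cokernel.π _ := hA.exact.g_desc _ _
    let c' : cokernel (Subobject.mk (pullback.snd s h ≫ z)).arrow ⟶ C₃ := cokernel.desc _ (π₂ ≫ q) hq
    have hc' : cokernel.π _ ≫ c' = π₂ ≫ q := cokernel.π_desc _ _ _
    have wac' : a' ≫ c' = 0 := by
      rw [← cancel_epi p₁, reassoc_of% ha', hc', reassoc_of% wB, zero_comp, comp_zero]
    refine ⟨a, c, wac, a', c', wac', ha, hc, ShortComplex.ShortExact.mk' ?_ ?_ ?_, ha', hc',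
      ShortComplex.ShortExact.mk' ?_ ?_ ?_⟩
    · rw [ShortComplex.exact_iff_exact_up_to_refinements]
      intro T x hx
      dsimp at x hx ⊢
      have h0 : (x ≫ e.hom ≫ pullback.snd s h) ≫ h = 0 := by
        simp only [Category.assoc, ← pullback.condition]
        simp only [c] at hx
        rw [reassoc_of% hx, zero_comp]
      obtain ⟨T', e', he', w, hw⟩ := hex.exact_up_to_refinements _ h0
      dsimp at w hw
      refine ⟨T', e', he', w, ?_⟩
      rw [← cancel_mono (Subobject.mk (pullback.snd s h ≫ z)).arrow, Category.assoc, Category.assoc, ha, ← hearr, ← hl]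
      simpa using congrArg (· ≫ z) hw
    · haveI : Mono (i₁ ≫ i₂) := inferInstance
      exact mono_of_mono_fac ha
    · show Epi c
      infer_instance
    · rw [ShortComplex.exact_iff_exact_up_to_refinements]
      intro T x hx
      dsimp at x hx ⊢
      obtain ⟨T₁, e₁, he₁, X, hX⟩ := surjective_up_to_refinements_of_epi (cokernel.π (Subobject.mk (pullback.snd s h ≫ z)).arrow) x
      obtain ⟨X', hX'⟩ := hlift X (by rw [← hc', ← reassoc_of% hX, hx, comp_zero])
      let v := X' ≫ h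
      have hv : (v - (v ≫ g) ≫ s) ≫ g = 0 := by simp [hsg]
      obtain ⟨T₂, e₂, he₂, a₃, ha₃⟩ := hfg.exact.exact_up_to_refinements _ hv
      dsimp at a₃ ha₃
      obtain ⟨T₃, e₃, he₃, a₂, ha₂⟩ := surjective_up_to_refinements_of_epi p₁ a₃
      let d := (e₃ ≫ e₂) ≫ X' - a₂ ≫ l
      have hd : ((e₃ ≫ e₂) ≫ v ≫ g) ≫ s = d ≫ h := by
        rw [Preadditive.comp_sub] at ha₃
        simp only [d, Preadditive.sub_comp, Category.assoc, ← hf, ← reassoc_of% ha₂, ← ha₃, Preadditive.comp_sub]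
        simp [v]
      refine ⟨T₃, e₃ ≫ e₂ ≫ e₁, inferInstance, a₂ ≫ p₁, ?_⟩
      simp only [Category.assoc, ha', hX]
      rw [← hX', ← sub_eq_zero]
      have h4 : d ≫ z ≫ cokernel.π (Subobject.mk (pullback.snd s h ≫ z)).arrow = 0 := by
        have h5 : pullback.lift _ d hd ≫ e.inv ≫ (Subobject.mk (pullback.snd s h ≫ z)).arrow = d ≫ z := by
          rw [← hearr, Iso.inv_hom_id_assoc, pullback.lift_snd_assoc]
        rw [← reassoc_of% h5, cokernel.condition, comp_zero, comp_zero]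
      simpa [d, reassoc_of% hl] using h4
    · rw [Preadditive.mono_iff_cancel_zero]
      intro T x hx
      dsimp at x hx ⊢
      obtain ⟨T', e', he', y, hy⟩ := surjective_up_to_refinements_of_epi p₁ x
      have h1 : (y ≫ i₂) ≫ cokernel.π (Subobject.mk (pullback.snd s h ≫ z)).arrow = 0 := by
        rw [Category.assoc, ← ha', ← reassoc_of% hy, hx, comp_zero]
      let u := Abelian.monoLift (Subobject.mk (pullback.snd s h ≫ z)).arrow (y ≫ i₂) h1
      have hu : u ≫ (Subobject.mk (pullback.snd s h ≫ z)).arrow = y ≫ i₂ := Abelian.monoLift_comp _ _ _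
      have hu' : u ≫ e.hom ≫ pullback.snd s h = y ≫ l := by
        rw [← cancel_mono z]
        simp only [Category.assoc, hl, ← hu, ← hearr]
      have h2 : (u ≫ c) ≫ s = e' ≫ x ≫ f := by
        simp only [c, Category.assoc, pullback.condition]
        rw [reassoc_of% hu', ← hf, reassoc_of% hy]
      have h3 : u ≫ c = 0 := by
        have := congrArg (· ≫ g) h2
        simpa [hsg, wfg] using this
      rw [h3, zero_comp] at h2
      rw [← cancel_mono f, ← cancel_epi e', ← h2]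
      simp
    · haveI : Epi (π₂ ≫ q) := epi_comp _ _
      exact epi_of_epi_fac hc'
  · intro s s' hs hs' he
    haveI := hmono s hs
    haveI := hmono s' hs'
    rw [hB s, hB s'] at he
    let φ := (Subobject.isoOfMkEqMk _ _ he).hom
    have hφ : φ ≫ pullback.snd s' h = pullback.snd s h := by
      rw [← cancel_mono z, Category.assoc]
      exact Subobject.ofMkLEMk_comp _
    have h1 : pullback.fst s h ≫ s = (φ ≫ pullback.fst s' h) ≫ s' := by
      rw [Category.assoc, pullback.condition, pullback.condition, reassoc_of% hφ]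
    have h2 : pullback.fst s h = φ ≫ pullback.fst s' h := by
      have := congrArg (· ≫ g) h1
      simpa [hs, hs'] using this
    rw [← h2] at h1
    exact (cancel_epi (pullback.fst s h)).1 h1

end Groth.Agent.MiscTwoH99.NineDiagram
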