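import Groth.Prelude.Def_FrobAlg
import Mathlib.FieldTheory.PerfectClosure
import Mathlib.RingTheory.TensorProduct.DirectLimitFG
import Mathlib.RingTheory.Flat.FaithfullyFlat.Algebra
import Mathlib.LinearAlgebra.DirectSum.Finsupp
import Mathlib.Algebra.Module.Projective

/-!
The perfect closure of a ring with projective Frobenius is a Mittag-Leffler module: tensoring with it
is compatible with products up to injectivity.
-/

set_option autoImplicit false
universe u v

open TensorProduct

namespace Groth.Agent.MiscTwoH99.PerfClos

/-- Tensoring a projective module with a product is injective into the product. -/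
theorem eq_zero_of_proj_lTensor {R : Type u} [CommRing R] {P : Type*} [AddCommGroup P] [Module R P]
    [Module.Projective R P] {κ : Type*} {N : κ → Type v} [∀ k, AddCommGroup (N k)] [∀ k, Module R (N k)]
    (z : P ⊗[R] (∀ k, N k)) (h : ∀ k, (LinearMap.proj k).lTensor P z = 0) : z = 0 := by
  classical
  obtain ⟨s, hs⟩ := (Module.projective_lifting_property (Finsupp.linearCombination R (id : P → P))
    LinearMap.id (fun x => ⟨Finsupp.single x 1, by simp⟩))
  have hsi : ∀ z : P ⊗[R] (∀ k, N k),
      (Finsupp.linearCombination R (id : P → P)).rTensor _ (s.rTensor _ z) = z := fun z => by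
    rw [← LinearMap.rTensor_comp_apply, hs, LinearMap.rTensor_id, LinearMap.id_apply]
  rw [← hsi z]
  suffices s.rTensor (∀ k, N k) z = 0 by rw [this, map_zero]
  apply (TensorProduct.finsuppScalarLeft R (∀ k, N k) P).injective
  rw [map_zero]
  refine Finsupp.ext fun i => funext fun k => ?_
  have key : ∀ w : (P →₀ R) ⊗[R] (∀ k, N k),
      TensorProduct.finsuppScalarLeft R (∀ k, N k) P w i k =
        TensorProduct.finsuppScalarLeft R (N k) P ((LinearMap.proj k).lTensor (P →₀ R) w) i := fun w => by
    induction w using TensorProduct.induction_on with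
    | zero => simp
    | tmul a b => simp
    | add x y hx hy => simp [hx, hy]
  rw [key]
  have : (LinearMap.proj k).lTensor (P →₀ R) (s.rTensor (∀ k, N k) z) =
      s.rTensor (N k) ((LinearMap.proj k).lTensor P z) := by
    rw [← LinearMap.comp_apply, ← LinearMap.comp_apply, LinearMap.lTensor_comp_rTensor,
      LinearMap.rTensor_comp_lTensor]
  rw [this, h k, map_zero, map_zero]
  rfl

variable (p : ℕ) [Fact p.Prime] (R : Type u) [CommRing R] [CharP R p]

/-- `R` as an algebra over itself through the `i`-th power of Frobenius. -/
def Stage (_p : ℕ) (R : Type u) (_i : ℕ) : Type u := R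

instance (i : ℕ) : CommRing (Stage p R i) := inferInstanceAs (CommRing R)

/-- The identity `Stage p R i → R`. -/
def val {i : ℕ} (x : Stage p R i) : R := x

/-- The identity `R → Stage p R i`. -/
def toStage (i : ℕ) : R →+* Stage p R i := RingHom.id R

instance (i : ℕ) : Algebra R (Stage p R i) := ((toStage p R i).comp (iterateFrobenius R p i)).toAlgebra

omit [CharP R p] [Fact p.Prime] in
theorem val_toStage (i : ℕ) (r : R) : val p R (toStage p R i r) = r := rfl

theorem algebraMap_stage (i : ℕ) (r : R) : val p R (algebraMap R (Stage p R i) r) = r ^ p ^ i :=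
  iterateFrobenius_def ..

/-- The transition map. -/
def step (i : ℕ) : Stage p R i →ₐ[R] Stage p R (i + 1) where
  toRingHom := ((toStage p R (i + 1)).comp (frobenius R p))
  commutes' r := by
    show (algebraMap R (Stage p R i) r : R) ^ p = val p R (algebraMap R (Stage p R (i + 1)) r)
    rw [algebraMap_stage, pow_succ, pow_mul]
    exact congrArg (· ^ p) (algebraMap_stage p R i r)

instance stepAlgebra (i : ℕ) : Algebra (Stage p R i) (Stage p R (i + 1)) := (step p R i).toRingHom.toAlgebra

instance (i : ℕ) : IsScalarTower R (Stage p R i) (Stage p R (i + 1)) :=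
  .of_algebraMap_eq fun r => ((step p R i).commutes r).symm

variable [hF : Module.Projective R (FrobAlg.Twist p R)]

instance projective_step (i : ℕ) : Module.Projective (Stage p R i) (Stage p R (i + 1)) := hF

theorem projective_trans (A M : Type*) [CommRing A] [Algebra R A] [AddCommGroup M] [Module A M]
    [Module R M] [IsScalarTower R A M] [Module.Projective R A] [Module.Projective A M] :
    Module.Projective R M := by
  obtain ⟨s, hs⟩ := (Module.projective_lifting_property (Finsupp.linearCombination A (id : M → M))
    LinearMap.id (fun x => ⟨Finsupp.single x 1, by simp⟩))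
  classical
  haveI : Module.Projective R (M →₀ A) :=
    Module.Projective.of_equiv (finsuppLequivDFinsupp R (ι := M) (M := A)).symm
  exact Module.Projective.of_split (s.restrictScalars R)
    ((Finsupp.linearCombination A (id : M → M)).restrictScalars R) (LinearMap.ext fun x => LinearMap.congr_fun hs x)

instance projective_stage : ∀ i : ℕ, Module.Projective R (Stage p R i)
  | 0 => Module.Projective.of_equiv (LinearEquiv.ofBijective (Algebra.linearMap R (Stage p R 0))
      ⟨fun a b h => by simpa [algebraMap_stage] using congrArg (val p R) h,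
        fun x => ⟨val p R x, by
          have := algebraMap_stage p R 0 (val p R x)
          rw [pow_zero, pow_one] at this
          exact this⟩⟩)
  | i + 1 => haveI := projective_stage i; projective_trans R (Stage p R i) (Stage p R (i + 1))

theorem faithfullyFlat_step (i : ℕ) : Module.FaithfullyFlat (Stage p R i) (Stage p R (i + 1)) := by
  haveI : Module.Flat (Stage p R i) (Stage p R (i + 1)) := inferInstance
  refine Module.FaithfullyFlat.of_comap_surjective fun P => ⟨⟨P.asIdeal, P.isPrime⟩, ?_⟩
  ext x
  exact ⟨fun h => P.isPrime.mem_of_pow_mem p h, fun h => Ideal.pow_mem_of_mem _ h p (Fact.out : p.Prime).pos⟩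

/-- The transition maps are universally injective. -/
theorem step_rTensor_injective (i : ℕ) (N : Type v) [AddCommGroup N] [Module R N] :
    Function.Injective ((step p R i).toLinearMap.rTensor N) := by
  haveI := faithfullyFlat_step p R i
  let e := TensorProduct.AlgebraTensorModule.cancelBaseChange R (Stage p R i) (Stage p R (i + 1))
    (Stage p R (i + 1)) N
  have h : ((step p R i).toLinearMap.rTensor N : _ → _) =
      e ∘ TensorProduct.mk (Stage p R i) (Stage p R (i + 1)) (Stage p R i ⊗[R] N) 1 := by
    funext z
    induction z using TensorProduct.induction_on with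
    | zero => simp
    | tmul a n =>
      simp only [LinearMap.rTensor_tmul, AlgHom.toLinearMap_apply, Function.comp_apply,
        TensorProduct.mk_apply]
      rw [TensorProduct.AlgebraTensorModule.cancelBaseChange_tmul, Algebra.smul_def, mul_one]
      rfl
    | add x y hx hy =>
      simp only [Function.comp_apply, TensorProduct.mk_apply, map_add] at hx hy ⊢
      rw [hx, hy]
  rw [h]
  exact e.injective.comp (Module.FaithfullyFlat.tensorProduct_mk_injective _)

theorem frob_injective : Function.Injective (frobenius R p) := fun a b h => by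
  haveI := faithfullyFlat_step p R 0
  exact FaithfulSMul.algebraMap_injective (Stage p R 0) (Stage p R 1) h

local instance : Algebra R (PerfectClosure R p) := (PerfectClosure.of R p).toAlgebra

/-- The inclusion of a stage in the perfect closure. -/
noncomputable def incl (i : ℕ) : Stage p R i →ₗ[R] PerfectClosure R p where
  toFun x := PerfectClosure.mk R p (i, val p R x)
  map_add' x y := by
    rw [PerfectClosure.mk_add_mk, PerfectClosure.mk_eq_iff]
    refine ⟨0, ?_⟩
    simp only [← coe_iterateFrobenius, iterateFrobenius_def, add_zero]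
    show (val p R x + val p R y) ^ p ^ (i + i) = _
    rw [← iterateFrobenius_def p i (val p R x), ← iterateFrobenius_def p i (val p R y), ← map_add,
      iterateFrobenius_def, ← pow_mul, ← pow_add]
  map_smul' r x := by
    rw [RingHom.id_apply, Algebra.smul_def, Algebra.smul_def]
    show PerfectClosure.mk R p (i, val p R (algebraMap R (Stage p R i) r) * val p R x) =
      PerfectClosure.mk R p (0, r) * PerfectClosure.mk R p (i, val p R x)
    rw [PerfectClosure.mk_mul_mk, algebraMap_stage]
    simp [← coe_iterateFrobenius, iterateFrobenius_def]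

omit hF in
theorem incl_step (i : ℕ) (x : Stage p R i) : incl p R (i + 1) (step p R i x) = incl p R i x :=
  PerfectClosure.mk_succ_pow R p i (val p R x)

theorem incl_injective (i : ℕ) : Function.Injective (incl p R i) := fun x y h => by
  obtain ⟨z, hz⟩ := (PerfectClosure.mk_eq_iff R p _ _).1 h
  exact (((frob_injective p R).iterate _)) hz

theorem range_le (i j : ℕ) (h : i ≤ j) : LinearMap.range (incl p R i) ≤ LinearMap.range (incl p R j) := by
  induction h with
  | refl => exact le_rfl
  | step _ ih => exact ih.trans fun _ ⟨x, hx⟩ => ⟨step p R _ x, (incl_step p R _ x).trans hx⟩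

theorem exists_le_range (P : Submodule R (PerfectClosure R p)) (hP : P.FG) :
    ∃ i, P ≤ LinearMap.range (incl p R i) := by
  classical
  obtain ⟨T, rfl⟩ := hP
  have : ∀ x : PerfectClosure R p, ∃ i, x ∈ LinearMap.range (incl p R i) := fun x => by
    obtain ⟨⟨i, r⟩, rfl⟩ := PerfectClosure.mk_surjective R p x
    exact ⟨i, toStage p R i r, rfl⟩
  choose f hf using this
  exact ⟨T.sup f, Submodule.span_le.2 fun x hx => range_le p R _ _ (Finset.le_sup hx) (hf x)⟩

theorem incl_rTensor_injective (i : ℕ) (N : Type v) [AddCommGroup N] [Module R N]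
    (z : Stage p R i ⊗[R] N) (hz : (incl p R i).rTensor N z = 0) : z = 0 := by
  obtain ⟨P, hP, s, rfl⟩ := TensorProduct.exists_of_fg (u := z)
  let Q := P.map (incl p R i)
  let t := ((incl p R i).submoduleMap P).rTensor N s
  have ht : Q.subtype.rTensor N t = 0 := by
    rw [← LinearMap.rTensor_comp_apply, ← hz, ← LinearMap.rTensor_comp_apply]
    rfl
  obtain ⟨Q', hQQ', hQ'fg, hzero⟩ := TensorProduct.eq_zero_of_fg_of_subtype_eq_zero (hP.map _) ht
  obtain ⟨j₀, hj₀⟩ := exists_le_range p R Q' hQ'fg
  let j := max i j₀
  have hj : Q' ≤ LinearMap.range (incl p R j) := hj₀.trans (range_le p R _ _ (le_max_right _ _))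
  let g : Q' →ₗ[R] Stage p R j :=
    (LinearEquiv.ofInjective (incl p R j) (incl_injective p R j)).symm.toLinearMap ∘ₗ Submodule.inclusion hj
  have hg : ∀ q : Q', incl p R j (g q) = q := fun q => by
    have := (LinearEquiv.ofInjective (incl p R j) (incl_injective p R j)).apply_symm_apply
      (Submodule.inclusion hj q)
    exact congrArg Subtype.val this
  have main : ∀ m, i ≤ m → ∃ f : Stage p R i →ₗ[R] Stage p R m,
      (∀ x, incl p R m (f x) = incl p R i x) ∧ Function.Injective (f.rTensor N) := by
    intro m hm
    induction hm with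
    | refl => exact ⟨LinearMap.id, fun _ => rfl, by rw [LinearMap.rTensor_id]; exact Function.injective_id⟩
    | step _ ih =>
      obtain ⟨f, hf, hfi⟩ := ih
      refine ⟨(step p R _).toLinearMap ∘ₗ f, fun x => (incl_step p R _ _).trans (hf x), ?_⟩
      rw [LinearMap.rTensor_comp]
      exact (step_rTensor_injective p R _ N).comp hfi
  obtain ⟨f, hf, hfi⟩ := main j (le_max_left _ _)
  apply hfi
  rw [map_zero, ← map_zero (g.rTensor N), ← hzero, ← LinearMap.rTensor_comp_apply, ← LinearMap.rTensor_comp_apply,
    ← LinearMap.rTensor_comp_apply]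
  congr 2
  ext q
  refine incl_injective p R j ?_
  show incl p R j (f q) = incl p R j (g _)
  rw [hf, hg]
  rfl

/-- The main statement. -/
theorem injective_pi {κ : Type*} {N : κ → Type v} [∀ k, AddCommGroup (N k)] [∀ k, Module R (N k)]
    (L : Submodule R (∀ k, N k)) :
    Function.Injective (LinearMap.pi fun k =>
      ((LinearMap.proj k).comp L.subtype).lTensor (PerfectClosure R p) :
        PerfectClosure R p ⊗[R] L →ₗ[R] ∀ k, PerfectClosure R p ⊗[R] N k) := by
  rw [injective_iff_map_eq_zero]
  intro z hz
  obtain ⟨P, hP, s, rfl⟩ := TensorProduct.exists_of_fg (u := z)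
  obtain ⟨i, hi⟩ := exists_le_range p R P hP
  let g : P →ₗ[R] Stage p R i :=
    (LinearEquiv.ofInjective (incl p R i) (incl_injective p R i)).symm.toLinearMap ∘ₗ Submodule.inclusion hi
  have hg : incl p R i ∘ₗ g = P.subtype := LinearMap.ext fun q =>
    congrArg Subtype.val ((LinearEquiv.ofInjective (incl p R i) (incl_injective p R i)).apply_symm_apply
      (Submodule.inclusion hi q))
  rw [← hg, LinearMap.rTensor_comp_apply] at hz ⊢
  suffices g.rTensor L s = 0 by rw [this, map_zero]
  refine (Module.Flat.lTensor_preserves_injective_linearMap L.subtype L.subtype_injective) ?_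
  rw [map_zero]
  refine eq_zero_of_proj_lTensor _ fun k => ?_
  rw [← LinearMap.lTensor_comp_apply]
  refine incl_rTensor_injective p R i (N k) _ ?_
  have := congrFun hz k
  rw [LinearMap.pi_apply, ← LinearMap.comp_apply, LinearMap.lTensor_comp_rTensor,
    ← LinearMap.rTensor_comp_lTensor, LinearMap.comp_apply] at this
  exact this

end Groth.Agent.MiscTwoH99.PerfClos
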