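import Mathlib.RingTheory.MvPolynomial.Ideal
import Mathlib.RingTheory.Smooth.Basic
import Mathlib.RingTheory.GradedAlgebra.Basic
import Mathlib.RingTheory.Ideal.Cotangent
import Mathlib.LinearAlgebra.SymmetricAlgebra.Basic
import Mathlib.LinearAlgebra.DirectSum.Finsupp
import Mathlib.Algebra.TrivSqZeroExt.Basic
import Mathlib.RingTheory.FiniteType
import Mathlib.Data.Finsupp.PWO

/-!
A smooth algebra graded by a fine sharp monoid is the symmetric algebra of the conormal module of its
degree zero part.
-/

set_option autoImplicit false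
universe u v

open DirectSum

namespace Groth.Agent.MiscTwoH99.SmoothGraded

/-- A fine sharp monoid carries a strictly additive rank. -/
theorem exists_rank (N : Type v) [AddCommMonoid N] [AddMonoid.FG N] [IsCancelAdd N]
    (hsharp : ∀ n : N, IsAddUnit n → n = 0) :
    ∃ D : N → ℕ, ∀ i j : N, j ≠ 0 → D i < D (i + j) := by
  classical
  have hz : ∀ x y : N, x + y = 0 → x = 0 := fun x y h =>
    hsharp x ⟨⟨x, y, h, by rw [add_comm]; exact h⟩, rfl⟩
  obtain ⟨S, hS⟩ : ∃ S : Finset N, AddSubmonoid.closure (S : Set N) = ⊤ := AddMonoid.fg_def.mp ‹_›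
  let T := S.erase 0
  let φ : (T →₀ ℕ) →+ N := Finsupp.liftAddHom fun s => multiplesHom N (s : N)
  have hφ1 : ∀ s : T, φ (Finsupp.single s 1) = (s : N) := fun s => by
    simp [φ, Finsupp.liftAddHom_apply_single]
  have hsurj : Function.Surjective φ := by
    rw [← AddMonoidHom.mrange_eq_top, eq_top_iff, ← hS, AddSubmonoid.closure_le]
    intro x hx
    by_cases h0 : x = 0
    · exact ⟨0, by simp [h0]⟩
    · exact ⟨Finsupp.single ⟨x, Finset.mem_erase.2 ⟨h0, hx⟩⟩ 1, hφ1 _⟩
  have hzero : ∀ c, φ c = 0 → c = 0 := fun c hc => by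
    by_contra h0
    obtain ⟨s, hs⟩ := Finsupp.ne_iff.1 h0
    have hle : Finsupp.single s 1 ≤ c := Finsupp.single_le_iff.2 (Nat.one_le_iff_ne_zero.2 hs)
    rw [← add_tsub_cancel_of_le hle, map_add, hφ1] at hc
    exact (Finset.mem_erase.1 s.2).1 (hz _ _ hc)
  have hfin : ∀ n : N, {v | φ v = n}.Finite := fun n => by
    refine WellQuasiOrderedLE.finite_of_isAntichain ?_
    intro v hv w hw hne hle
    refine hne ?_
    have h2 : φ (w - v) = 0 := by
      have h3 : φ v + φ (w - v) = φ v + 0 := by
        rw [← map_add, add_tsub_cancel_of_le hle, add_zero, show φ v = n from hv]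
        exact hw
      exact add_left_cancel h3
    exact le_antisymm hle (tsub_eq_zero_iff_le.1 (hzero _ h2))
  let deg : (T →₀ ℕ) →+ ℕ := Finsupp.liftAddHom fun _ => AddMonoidHom.id ℕ
  let D : N → ℕ := fun n => (hfin n).toFinset.sup deg
  refine ⟨D, fun i j hj => ?_⟩
  obtain ⟨v, hv, hvD⟩ := Finset.exists_mem_eq_sup _
    (⟨(hsurj i).choose, (hfin i).mem_toFinset.2 (hsurj i).choose_spec⟩ : (hfin i).toFinset.Nonempty) deg
  obtain ⟨w, hw⟩ := hsurj j
  have hw0 : 0 < deg w := by
    rw [pos_iff_ne_zero]
    intro h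
    refine hj ?_
    have : w = 0 := Finsupp.ext fun s => by
      have := h
      simp only [deg, Finsupp.liftAddHom_apply, AddMonoidHom.id_apply, Finsupp.sum,
        Finset.sum_eq_zero_iff] at this
      by_contra hs
      exact hs (this s (Finsupp.mem_support_iff.2 hs))
    rw [← hw, this, map_zero]
  show (hfin i).toFinset.sup deg < _
  rw [hvD]
  refine lt_of_lt_of_le (Nat.lt_add_of_pos_right hw0) ?_
  rw [← map_add]
  exact Finset.le_sup (f := deg) ((hfin _).mem_toFinset.2 (by
    show φ (v + w) = i + j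
    rw [map_add, hw, show φ v = i from (hfin i).mem_toFinset.1 hv]))

section Augmented

variable {R A₀ A : Type u} [CommRing R] [CommRing A₀] [CommRing A] [Algebra R A₀] [Algebra R A]
  [Algebra A₀ A] [IsScalarTower R A₀ A] (π : A →ₐ[A₀] A₀)

/-- The augmentation ideal. -/
abbrev aug : Ideal A := RingHom.ker π

theorem aug_fg [Algebra.FiniteType R A] : (aug π).FG := by
  obtain ⟨G, hG⟩ := (inferInstance : Algebra.FiniteType R A).out
  classical
  refine ⟨G.image fun g => g - algebraMap A₀ A (π g), le_antisymm (Ideal.span_le.2 ?_) ?_⟩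
  · intro x hx
    obtain ⟨g, -, rfl⟩ := Finset.mem_image.1 hx
    show π _ = 0
    simp
  · intro a haI
    have key : a - algebraMap A₀ A (π a) ∈
        Ideal.span ((G.image fun g => g - algebraMap A₀ A (π g) : Finset A) : Set A) := by
      have ha : a ∈ Algebra.adjoin R (G : Set A) := hG ▸ trivial
      clear haI
      induction ha using Algebra.adjoin_induction with
      | mem x hx => exact Ideal.subset_span (Finset.mem_coe.2 (Finset.mem_image_of_mem _ hx))
      | algebraMap r =>
        rw [IsScalarTower.algebraMap_apply R A₀ A, AlgHom.commutes, Algebra.algebraMap_self,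
          RingHom.id_apply, sub_self]
        exact zero_mem _
      | add x y _ _ hx hy => rw [map_add, map_add, add_sub_add_comm]; exact add_mem hx hy
      | mul x y _ _ hx hy =>
        rw [map_mul, map_mul, show x * y - algebraMap A₀ A (π x) * algebraMap A₀ A (π y) =
          (x - algebraMap A₀ A (π x)) * y + algebraMap A₀ A (π x) * (y - algebraMap A₀ A (π y)) by ring]
        exact add_mem (Ideal.mul_mem_right _ _ hx) (Ideal.mul_mem_left _ _ hy)
    rwa [show π a = 0 from haI, map_zero, sub_zero] at key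

theorem smul_cotangent (a : A) (c : (aug π).Cotangent) : a • c = π a • c := by
  rw [← algebraMap_smul A (π a) c, ← sub_eq_zero, ← sub_smul]
  refine Ideal.Cotangent.smul_eq_zero_of_mem ?_ c
  show π _ = 0
  simp

theorem cotangent_finite [Algebra.FiniteType R A] : Module.Finite A₀ (aug π).Cotangent := by
  haveI : Module.Finite A (aug π) := Module.Finite.iff_fg.2 (aug_fg (R := R) π)
  obtain ⟨T, hT⟩ := (Module.Finite.of_surjective (aug π).toCotangent
    (aug π).toCotangent_surjective).fg_top
  refine ⟨⟨T, eq_top_iff.2 fun x hxt => ?_⟩⟩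
  have hx : x ∈ Submodule.span A (T : Set (aug π).Cotangent) := hT ▸ trivial
  clear hxt
  induction hx using Submodule.span_induction with
  | mem y hy => exact Submodule.subset_span hy
  | zero => exact zero_mem _
  | add y z _ _ hy hz => exact add_mem hy hz
  | smul r y _ hy => rw [smul_cotangent]; exact Submodule.smul_mem _ _ hy

theorem cotangent_projective [Algebra.FormallySmooth R A] :
    Module.Projective A₀ (aug π).Cotangent := by
  refine Module.Projective.of_lifting_property'' fun f hf => ?_
  -- lift `A → A₀ ⊕ cotangent` to `A → A₀ ⊕ F`, `F` free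
  letI : Module A₀ᵐᵒᵖ (aug π).Cotangent :=
    Module.compHom _ ((RingHom.id A₀).fromOpposite mul_comm)
  haveI : IsCentralScalar A₀ (aug π).Cotangent := ⟨fun _ _ => rfl⟩
  let d : A → (aug π).Cotangent := fun a =>
    (aug π).toCotangent ⟨a - algebraMap A₀ A (π a), by show π _ = 0; simp⟩
  have dadd : ∀ a b, d (a + b) = d a + d b := fun a b => by
    simp only [d, ← map_add]
    refine congrArg _ (Subtype.ext ?_)
    simp [sub_add_sub_comm]
  have dmul : ∀ a b, d (a * b) = π a • d b + π b • d a := fun a b => by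
    simp only [d, ← LinearMap.map_smul_of_tower, ← map_add]
    rw [Ideal.toCotangent_eq]
    show (a * b - algebraMap A₀ A (π (a * b))) - (π a • (b - algebraMap A₀ A (π b)) +
      π b • (a - algebraMap A₀ A (π a))) ∈ _
    rw [show (a * b - algebraMap A₀ A (π (a * b))) - (π a • (b - algebraMap A₀ A (π b)) +
      π b • (a - algebraMap A₀ A (π a))) =
      (a - algebraMap A₀ A (π a)) * (b - algebraMap A₀ A (π b)) by
        simp only [map_mul, Algebra.smul_def]; ring, pow_two]
    exact Ideal.mul_mem_mul (by show π _ = 0; simp) (by show π _ = 0; simp)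
  have dalg : ∀ r : A₀, d (algebraMap A₀ A r) = 0 := fun r => by
    rw [(aug π).toCotangent_eq_zero]
    simp
  let β : A →ₐ[R] TrivSqZeroExt A₀ (aug π).Cotangent :=
    { toFun := fun a => TrivSqZeroExt.inl (π a) + TrivSqZeroExt.inr (d a)
      map_one' := TrivSqZeroExt.ext (by simp) (by
        simp only [TrivSqZeroExt.snd_add, TrivSqZeroExt.snd_inl, TrivSqZeroExt.snd_inr, zero_add,
          TrivSqZeroExt.snd_one]
        rw [← map_one (algebraMap A₀ A), dalg])
      map_mul' := fun a b => TrivSqZeroExt.ext (by simp) (by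
        simp [TrivSqZeroExt.snd_mul, dmul])
      map_zero' := TrivSqZeroExt.ext (by simp) (by
        simp only [TrivSqZeroExt.snd_add, TrivSqZeroExt.snd_inl, TrivSqZeroExt.snd_inr, zero_add,
          TrivSqZeroExt.snd_zero]
        rw [← map_zero (algebraMap A₀ A), dalg])
      map_add' := fun a b => TrivSqZeroExt.ext (by simp) (by simp [dadd])
      commutes' := fun r => TrivSqZeroExt.ext (by
          simp [IsScalarTower.algebraMap_apply R A₀ A, TrivSqZeroExt.algebraMap_eq_inl']) (by
          simp [IsScalarTower.algebraMap_apply R A₀ A, dalg, TrivSqZeroExt.algebraMap_eq_inl']) }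
  let F : TrivSqZeroExt A₀ ((aug π).Cotangent →₀ A₀) →ₐ[R] TrivSqZeroExt A₀ (aug π).Cotangent :=
    (TrivSqZeroExt.map f).restrictScalars R
  have hFsurj : Function.Surjective F := fun x => by
    obtain ⟨m, hm⟩ := hf x.snd
    exact ⟨TrivSqZeroExt.inl x.fst + TrivSqZeroExt.inr m,
      TrivSqZeroExt.ext (by simp [F]) (by simp [F, hm])⟩
  have hFnil : IsNilpotent (RingHom.ker (F : TrivSqZeroExt A₀ ((aug π).Cotangent →₀ A₀) →+* TrivSqZeroExt A₀ (aug π).Cotangent)) := by
    refine ⟨2, ?_⟩
    refine le_bot_iff.1 ?_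
    rw [Submodule.pow_succ, Submodule.pow_one]
    refine Ideal.mul_le.2 ?_
    intro x hx y hy
    have h1 : x.fst = 0 := by simpa [F] using congrArg TrivSqZeroExt.fst (show F x = 0 from hx)
    have h2 : y.fst = 0 := by simpa [F] using congrArg TrivSqZeroExt.fst (show F y = 0 from hy)
    exact TrivSqZeroExt.ext (by simp [h1]) (by simp [h1, h2])
  let ρ := Algebra.FormallySmooth.liftOfSurjective β F hFsurj hFnil
  have hρ : ∀ a, F (ρ a) = β a := Algebra.FormallySmooth.liftOfSurjective_apply β F hFsurj hFnil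
  have hfst : ∀ a, (ρ a).fst = π a := fun a => by
    simpa [F, β] using congrArg TrivSqZeroExt.fst (hρ a)
  let g₀ : aug π →ₗ[A₀] ((aug π).Cotangent →₀ A₀) :=
    { toFun := fun x => (ρ x).snd
      map_add' := fun x y => by simp
      map_smul' := fun r x => by
        show (ρ (r • (x : A))).snd = r • (ρ x).snd
        rw [Algebra.smul_def, map_mul, TrivSqZeroExt.snd_mul, hfst, hfst, show π (x : A) = 0 from x.2]
        simp }
  have hker : LinearMap.ker ((aug π).toCotangent.restrictScalars A₀) ≤ LinearMap.ker g₀ := by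
    intro x hx
    have hx' : (x : A) ∈ (aug π) ^ 2 := ((aug π).toCotangent_eq_zero x).1 hx
    show (ρ x).snd = 0
    rw [pow_two] at hx'
    refine Submodule.mul_induction_on hx' (fun m hm n hn => ?_) fun y z hy hz => by
      rw [map_add, TrivSqZeroExt.snd_add, hy, hz, add_zero]
    rw [map_mul, TrivSqZeroExt.snd_mul, hfst, hfst, show π m = 0 from hm, show π n = 0 from hn]
    simp
  let g : (aug π).Cotangent →ₗ[A₀] ((aug π).Cotangent →₀ A₀) := (Submodule.liftQ _ g₀ hker).comp
    (LinearMap.quotKerEquivOfSurjective ((aug π).toCotangent.restrictScalars A₀)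
      (aug π).toCotangent_surjective).symm.toLinearMap
  refine ⟨g, LinearMap.ext fun c => ?_⟩
  obtain ⟨x, rfl⟩ := (aug π).toCotangent_surjective c
  have hg : g ((aug π).toCotangent x) = (ρ x).snd := by
    simp only [g, LinearMap.comp_apply, LinearEquiv.coe_coe]
    rw [show (LinearMap.quotKerEquivOfSurjective ((aug π).toCotangent.restrictScalars A₀)
      (aug π).toCotangent_surjective).symm ((aug π).toCotangent x) = Submodule.Quotient.mk x from
        (LinearEquiv.symm_apply_eq _).2 rfl]
    rfl
  show f (g _) = _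
  rw [hg]
  have := congrArg TrivSqZeroExt.snd (hρ x)
  simp only [F, β] at this
  simpa [d, show π (x : A) = 0 from x.2] using this

omit [IsScalarTower R A₀ A] in
/-- The powers of the augmentation ideal of the symmetric algebra of a projective module are
separated. -/
theorem eq_zero_of_forall_mem_pow {P : Type u} [AddCommGroup P] [Module A₀ P] [Module.Projective A₀ P]
    (x : SymmetricAlgebra A₀ P)
    (hx : ∀ m : ℕ, x ∈ RingHom.ker (SymmetricAlgebra.algebraMapInv (R := A₀) (M := P)) ^ m) :
    x = 0 := by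
  obtain ⟨s, hs⟩ := (Module.projective_lifting_property (Finsupp.linearCombination A₀ (id : P → P))
    LinearMap.id (fun y => ⟨Finsupp.single y 1, by simp⟩))
  let toPoly : SymmetricAlgebra A₀ P →ₐ[A₀] MvPolynomial P A₀ :=
    SymmetricAlgebra.lift ((Finsupp.linearCombination A₀ (fun y : P => MvPolynomial.X y)).comp s)
  let back : MvPolynomial P A₀ →ₐ[A₀] SymmetricAlgebra A₀ P :=
    MvPolynomial.aeval fun y => SymmetricAlgebra.ι A₀ P y
  have hb : back.comp toPoly = AlgHom.id _ _ := by
    refine SymmetricAlgebra.algHom_ext (LinearMap.ext fun y => ?_)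
    have h := LinearMap.congr_fun hs y
    simp only [LinearMap.comp_apply, LinearMap.id_apply] at h
    show back (toPoly (SymmetricAlgebra.ι A₀ P y)) = SymmetricAlgebra.ι A₀ P y
    conv_rhs => rw [← h]
    simp [toPoly, back, Finsupp.linearCombination_apply, Finsupp.sum, map_sum]
  have hle : (RingHom.ker (SymmetricAlgebra.algebraMapInv (R := A₀) (M := P))).map toPoly ≤
      MvPolynomial.idealOfVars P A₀ := by
    rw [Ideal.map_le_iff_le_comap]
    intro y hy
    have e : MvPolynomial.constantCoeff (toPoly y) = SymmetricAlgebra.algebraMapInv y := by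
      have : (MvPolynomial.aeval (0 : P → A₀)).comp toPoly = SymmetricAlgebra.algebraMapInv := by
        refine SymmetricAlgebra.algHom_ext (LinearMap.ext fun z => ?_)
        simp [toPoly, Finsupp.linearCombination_apply, Finsupp.sum,
          SymmetricAlgebra.algebraMapInv_ι]
      rw [← this]
      simp [MvPolynomial.aeval_zero]
    rw [Ideal.mem_comap, ← pow_one (MvPolynomial.idealOfVars P A₀),
      MvPolynomial.mem_pow_idealOfVars_iff']
    intro m hm
    have : m = 0 := (Finsupp.degree_eq_zero_iff m).1 (Nat.lt_one_iff.1 hm)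
    rw [this, ← MvPolynomial.constantCoeff_eq, e]
    exact hy
  have h0 : toPoly x = 0 := MvPolynomial.ext _ _ fun m => by
    have h1 : toPoly x ∈ MvPolynomial.idealOfVars P A₀ ^ (m.degree + 1) :=
      Ideal.pow_right_mono hle _ (by rw [← Ideal.map_pow]; exact Ideal.mem_map_of_mem _ (hx _))
    rw [MvPolynomial.coeff_zero]
    exact (MvPolynomial.mem_pow_idealOfVars_iff' _ _).1 h1 m (Nat.lt_succ_self _)
  have := AlgHom.congr_fun hb x
  rw [AlgHom.comp_apply, h0, map_zero] at this
  exact this.symm

/-- A surjection `Sym (I/I²) → A` extending a section is injective when `A` is formally smooth. -/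
theorem injective_lift [Algebra.FormallySmooth R A] (s : (aug π).Cotangent →ₗ[A₀] A)
    (hs : ∀ c, ∃ h : s c ∈ aug π, (aug π).toCotangent ⟨s c, h⟩ = c) :
    Function.Injective (SymmetricAlgebra.lift s) := by
  haveI := cotangent_projective (R := R) π
  let φ : (SymmetricAlgebra A₀ (aug π).Cotangent) →ₐ[A₀] A := SymmetricAlgebra.lift s
  let J : Ideal (SymmetricAlgebra A₀ (aug π).Cotangent) := RingHom.ker (SymmetricAlgebra.algebraMapInv (R := A₀) (M := (aug π).Cotangent))
  have hι : ∀ c, SymmetricAlgebra.ι A₀ (aug π).Cotangent c ∈ J := SymmetricAlgebra.algebraMapInv_ι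
  have hπφ : ∀ x, π (φ x) = SymmetricAlgebra.algebraMapInv x := AlgHom.congr_fun
    (show π.comp φ = SymmetricAlgebra.algebraMapInv from SymmetricAlgebra.algHom_ext (LinearMap.ext fun c => by
      obtain ⟨h, -⟩ := hs c
      show π (φ (SymmetricAlgebra.ι A₀ _ c)) = SymmetricAlgebra.algebraMapInv (SymmetricAlgebra.ι A₀ _ c)
      rw [SymmetricAlgebra.algebraMapInv_ι]
      show π (SymmetricAlgebra.lift s (SymmetricAlgebra.ι A₀ _ c)) = 0
      rw [SymmetricAlgebra.lift_ι_apply]
      exact h))
  let d : A → (aug π).Cotangent := fun a =>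
    (aug π).toCotangent ⟨a - algebraMap A₀ A (π a), by show π _ = 0; simp⟩
  have dadd : ∀ a b, d (a + b) = d a + d b := fun a b => by
    simp only [d, ← map_add]
    refine congrArg _ (Subtype.ext ?_)
    simp [sub_add_sub_comm]
  have dmul : ∀ a b, d (a * b) = π a • d b + π b • d a := fun a b => by
    simp only [d, ← LinearMap.map_smul_of_tower, ← map_add]
    rw [Ideal.toCotangent_eq]
    show (a * b - algebraMap A₀ A (π (a * b))) - (π a • (b - algebraMap A₀ A (π b)) +
      π b • (a - algebraMap A₀ A (π a))) ∈ _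
    rw [show (a * b - algebraMap A₀ A (π (a * b))) - (π a • (b - algebraMap A₀ A (π b)) +
      π b • (a - algebraMap A₀ A (π a))) =
      (a - algebraMap A₀ A (π a)) * (b - algebraMap A₀ A (π b)) by
        simp only [map_mul, Algebra.smul_def]; ring, pow_two]
    exact Ideal.mul_mem_mul (by show π _ = 0; simp) (by show π _ = 0; simp)
  have dalg : ∀ r : A₀, d (algebraMap A₀ A r) = 0 := fun r => by
    rw [(aug π).toCotangent_eq_zero]
    simp
  let κ : A → (SymmetricAlgebra A₀ (aug π).Cotangent) ⧸ J ^ 2 := fun a =>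
    Ideal.Quotient.mk (J ^ 2) (algebraMap A₀ (SymmetricAlgebra A₀ (aug π).Cotangent) (π a) + SymmetricAlgebra.ι A₀ _ (d a))
  let β : A →ₐ[A₀] (SymmetricAlgebra A₀ (aug π).Cotangent) ⧸ J ^ 2 := AlgHom.ofLinearMap
    { toFun := κ
      map_add' := fun a b => by simp only [κ, map_add, dadd]; abel
      map_smul' := fun r a => by
        simp only [κ, Algebra.smul_def, RingHom.id_apply, map_mul, AlgHom.commutes, dmul, dalg, smul_zero,
          add_zero, Algebra.algebraMap_self, map_add, map_smul]
        rw [show algebraMap A₀ ((SymmetricAlgebra A₀ (aug π).Cotangent) ⧸ J ^ 2) r = Ideal.Quotient.mk (J ^ 2) (algebraMap A₀ (SymmetricAlgebra A₀ (aug π).Cotangent) r) from rfl]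
        exact (mul_add _ _ _).symm }
    (by simp only [LinearMap.coe_mk, AddHom.coe_mk, κ, map_one]
        rw [← map_one (algebraMap A₀ A), dalg]
        simp)
    (fun a b => by
      simp only [LinearMap.coe_mk, AddHom.coe_mk, κ, map_mul, dmul, ← map_mul]
      rw [Ideal.Quotient.mk_eq_mk_iff_sub_mem, pow_two]
      convert neg_mem (Ideal.mul_mem_mul (hι (d a)) (hι (d b))) using 1
      simp only [map_add, map_smul, Algebra.smul_def, map_mul π, map_mul (algebraMap A₀ (SymmetricAlgebra A₀ (aug π).Cotangent))]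
      ring)
  have hβφ : ∀ x, β (φ x) = Ideal.Quotient.mk (J ^ 2) x := AlgHom.congr_fun
    (show β.comp φ = Ideal.Quotient.mkₐ A₀ (J ^ 2) from SymmetricAlgebra.algHom_ext (LinearMap.ext fun c => by
      obtain ⟨h, hc⟩ := hs c
      show κ (φ (SymmetricAlgebra.ι A₀ _ c)) = Ideal.Quotient.mk (J ^ 2) (SymmetricAlgebra.ι A₀ _ c)
      simp only [φ, SymmetricAlgebra.lift_ι_apply, κ, show π (s c) = 0 from h, map_zero, zero_add, d]
      simp only [show π (s c) = 0 from h, map_zero, sub_zero]
      rw [hc]))
  have step : ∀ m, RingHom.ker φ ≤ J ^ m := by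
    intro m
    rcases m with _ | m
    · simp [Ideal.one_eq_top]
    -- lift `β` to `(SymmetricAlgebra A₀ (aug π).Cotangent) ⧸ J ^ (m + 2)`
    let n := m + 2
    let F : (SymmetricAlgebra A₀ (aug π).Cotangent) ⧸ J ^ n →ₐ[R] (SymmetricAlgebra A₀ (aug π).Cotangent) ⧸ J ^ 2 :=
      (Ideal.Quotient.factorₐ A₀ (Ideal.pow_le_pow_right (by omega : 2 ≤ n))).restrictScalars R
    have hFs : Function.Surjective F := fun y => by
      obtain ⟨x, rfl⟩ := Ideal.Quotient.mk_surjective y
      exact ⟨Ideal.Quotient.mk _ x, rfl⟩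
    have hFk : IsNilpotent (RingHom.ker (F : (SymmetricAlgebra A₀ (aug π).Cotangent) ⧸ J ^ n →+* (SymmetricAlgebra A₀ (aug π).Cotangent) ⧸ J ^ 2)) := by
      refine ⟨n, ?_⟩
      have hle : RingHom.ker (F : (SymmetricAlgebra A₀ (aug π).Cotangent) ⧸ J ^ n →+* (SymmetricAlgebra A₀ (aug π).Cotangent) ⧸ J ^ 2) ≤ J.map (Ideal.Quotient.mk (J ^ n)) := by
        intro y hy
        obtain ⟨x, rfl⟩ := Ideal.Quotient.mk_surjective y
        exact Ideal.mem_map_of_mem _ (Ideal.pow_le_self two_ne_zero (Ideal.Quotient.eq_zero_iff_mem.1 hy))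
      rw [Ideal.zero_eq_bot, eq_bot_iff]
      refine (Ideal.pow_right_mono hle n).trans ?_
      rw [← Ideal.map_pow, Ideal.map_quotient_self]
    let ρ := Algebra.FormallySmooth.liftOfSurjective (β.restrictScalars R) F hFs hFk
    have hρ : ∀ a, F (ρ a) = β a :=
      Algebra.FormallySmooth.liftOfSurjective_apply (β.restrictScalars R) F hFs hFk
    -- `ρ ∘ φ` agrees with the quotient map on every graded piece
    have h2 : ∀ x, ∃ e ∈ J ^ 2, ρ (φ x) = Ideal.Quotient.mk (J ^ n) (x + e) := fun x => by
      obtain ⟨y, hy⟩ := Ideal.Quotient.mk_surjective (ρ (φ x))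
      refine ⟨y - x, ?_, by rw [add_sub_cancel, hy]⟩
      have := hρ (φ x)
      rw [← hy, hβφ] at this
      exact Ideal.Quotient.eq.1 this
    have hgr : ∀ j x, x ∈ J ^ j → ∃ e ∈ J ^ (j + 1), ρ (φ x) = Ideal.Quotient.mk (J ^ n) (x + e) := by
      intro j
      induction j with
      | zero =>
        intro x _
        obtain ⟨e, he, hxe⟩ := h2 x
        exact ⟨e, Ideal.pow_le_pow_right (by omega) he, hxe⟩
      | succ j ih =>
        intro x hx
        rw [pow_succ] at hx
        refine Submodule.mul_induction_on hx (fun a ha b hb => ?_) (fun a b ha hb => ?_)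
        · obtain ⟨ea, hea, hae⟩ := ih a ha
          obtain ⟨eb, heb, hbe⟩ := h2 b
          refine ⟨a * eb + ea * b + ea * eb, ?_, ?_⟩
          · refine add_mem (add_mem ?_ ?_) ?_
            · exact (pow_add J j 2 ▸ Ideal.mul_mem_mul ha heb : a * eb ∈ J ^ (j + 2))
            · exact (pow_succ J (j + 1)).symm ▸ Ideal.mul_mem_mul hea hb
            · exact Ideal.pow_le_pow_right (by omega : j + 1 + 1 ≤ j + 1 + 2)
                (pow_add J (j + 1) 2 ▸ Ideal.mul_mem_mul hea heb)
          · rw [map_mul, map_mul, hae, hbe, ← map_mul]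
            congr 1
            ring
        · obtain ⟨ea, hea, hae⟩ := ha
          obtain ⟨eb, heb, hbe⟩ := hb
          exact ⟨ea + eb, add_mem hea heb, by rw [map_add, map_add, hae, hbe, ← map_add]; congr 1; abel⟩
    intro x hx
    have : ∀ j, j ≤ m + 1 → x ∈ J ^ j := by
      intro j
      induction j with
      | zero => simp [Ideal.one_eq_top]
      | succ j ih =>
        intro hj
        obtain ⟨e, he, hxe⟩ := hgr j x (ih (by omega))
        rw [show φ x = 0 from hx, map_zero, eq_comm, Ideal.Quotient.eq_zero_iff_mem] at hxe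
        have := sub_mem (Ideal.pow_le_pow_right (by omega : j + 1 ≤ n) hxe) he
        rwa [add_sub_cancel_right] at this
    exact this (m + 1) le_rfl
  rw [injective_iff_map_eq_zero]
  exact fun x hx => eq_zero_of_forall_mem_pow x fun m => step m hx

end Augmented

section Graded

variable {R A : Type u} [CommRing R] [CommRing A] [Algebra R A]
  {N : Type v} [AddCommMonoid N] [DecidableEq N] [IsCancelAdd N]
  (𝒜 : N → Submodule R A) [GradedAlgebra 𝒜]

instance : IsScalarTower R (𝒜 0) A := IsScalarTower.of_algebraMap_eq fun _ => rfl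

local instance cancelMonoid : AddCancelCommMonoid N :=
  { (inferInstance : AddCommMonoid N) with
    add_left_cancel := fun a _ _ h => add_left_cancel (a := a) h }

/-- The projection onto the degree zero part. -/
def projZero (hz : ∀ x y : N, x + y = 0 → x = 0) : A →ₐ[𝒜 0] 𝒜 0 where
  toFun a := decompose 𝒜 a 0
  map_one' := by
    rw [decompose_one]
    exact DirectSum.of_eq_same _ _
  map_mul' x y := by
    induction x using DirectSum.Decomposition.inductionOn 𝒜 with
    | zero => simp
    | add a b ha hb =>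
      rw [add_mul, decompose_add, DirectSum.add_apply, ha, hb, decompose_add, DirectSum.add_apply, add_mul]
    | @homogeneous i a =>
      induction y using DirectSum.Decomposition.inductionOn 𝒜 with
      | zero => simp
      | add c d hc hd =>
        rw [mul_add, decompose_add, DirectSum.add_apply, hc, hd, decompose_add, DirectSum.add_apply, mul_add]
      | @homogeneous j b =>
        apply Subtype.ext
        rw [SetLike.GradeZero.coe_mul]
        by_cases hi : i = 0
        · subst hi
          rw [decompose_coe, DirectSum.of_eq_same]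
          have := coe_decompose_mul_add_of_left_mem 𝒜 (i := (0 : N)) (j := (0 : N)) (b := (b : A)) a.2
          rwa [zero_add] at this
        · have h1 : (decompose 𝒜 ((a : A) * b) 0 : A) = 0 :=
            decompose_of_mem_ne 𝒜 (SetLike.mul_mem_graded a.2 b.2) fun h => hi (hz i j h)
          rw [h1, decompose_of_mem_ne 𝒜 a.2 hi, zero_mul]
  map_zero' := by simp
  map_add' := by simp
  commutes' r := by
    show decompose 𝒜 ((r : 𝒜 0) : A) 0 = r
    rw [decompose_coe, DirectSum.of_eq_same]

variable (hz : ∀ x y : N, x + y = 0 → x = 0)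

theorem mem_aug_iff (a : A) : a ∈ aug (projZero 𝒜 hz) ↔ decompose 𝒜 a 0 = 0 := Iff.rfl

theorem mem_aug_of_mem_ne {n : N} {a : A} (ha : a ∈ 𝒜 n) (hn : n ≠ 0) : a ∈ aug (projZero 𝒜 hz) :=
  Subtype.ext (decompose_of_mem_ne 𝒜 ha hn)

/-- A homogeneous section of the conormal module generating the algebra. -/
theorem exists_section [AddMonoid.FG N] (hsharp : ∀ n : N, IsAddUnit n → n = 0)
    [Algebra.Smooth R A] :
    ∃ s : (aug (projZero 𝒜 hz)).Cotangent →ₗ[𝒜 0] A,
      (∀ c, ∃ h : s c ∈ aug (projZero 𝒜 hz), (aug (projZero 𝒜 hz)).toCotangent ⟨s c, h⟩ = c) ∧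
      Function.Surjective (SymmetricAlgebra.lift s) := by
  classical
  set π := projZero 𝒜 hz with hπ
  set I := aug π with hI
  haveI : Algebra.FiniteType R A := inferInstance
  haveI := cotangent_projective (R := R) π
  have hcomp : ∀ (n : N) (a : A), a ∈ I → (decompose 𝒜 a n : A) ∈ I := fun n a ha => by
    by_cases hn : n = 0
    · subst hn
      rw [show decompose 𝒜 a 0 = 0 from ha]
      exact zero_mem _
    · exact mem_aug_of_mem_ne 𝒜 hz (SetLike.coe_mem _) hn
  let pr : N → (I →ₗ[𝒜 0] I) := fun n =>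
    { toFun := fun a => ⟨decompose 𝒜 (a : A) n, hcomp n a a.2⟩
      map_add' := fun a b => Subtype.ext (by simp)
      map_smul' := fun r a => Subtype.ext (by
        show (decompose 𝒜 ((r : A) * (a : A)) n : A) = (r : A) * (decompose 𝒜 (a : A) n : A)
        have := coe_decompose_mul_add_of_left_mem 𝒜 (i := (0 : N)) (j := n) (b := (a : A)) r.2
        rwa [zero_add] at this) }
  have hpr2 : ∀ (n : N) (a : A), a ∈ I ^ 2 → (decompose 𝒜 a n : A) ∈ I ^ 2 := fun n a ha => by
    rw [pow_two] at ha ⊢
    refine Submodule.mul_induction_on ha (fun x hx y hy => ?_) fun x y hx hy => by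
      rw [decompose_add, DirectSum.add_apply, Submodule.coe_add]; exact add_mem hx hy
    rw [decompose_mul, coe_mul_apply]
    exact sum_mem fun ij _ => Ideal.mul_mem_mul (hcomp _ _ hx) (hcomp _ _ hy)
  let πq : N → (I.Cotangent →ₗ[𝒜 0] I.Cotangent) := fun n =>
    (Submodule.liftQ (LinearMap.ker (I.toCotangent.restrictScalars (𝒜 0)))
        ((I.toCotangent.restrictScalars (𝒜 0)).comp (pr n)) (fun x hx =>
          (I.toCotangent_eq_zero _).2 (hpr2 n x ((I.toCotangent_eq_zero x).1 hx)))).comp
      (LinearMap.quotKerEquivOfSurjective (I.toCotangent.restrictScalars (𝒜 0))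
        I.toCotangent_surjective).symm.toLinearMap
  have hπq : ∀ (n : N) (x : I), πq n (I.toCotangent x) = I.toCotangent (pr n x) := fun n x => by
    simp only [πq, LinearMap.comp_apply, LinearEquiv.coe_coe]
    rw [show (LinearMap.quotKerEquivOfSurjective (I.toCotangent.restrictScalars (𝒜 0))
      I.toCotangent_surjective).symm (I.toCotangent x) = Submodule.Quotient.mk x from
        (LinearEquiv.symm_apply_eq _).2 rfl]
    rfl
  obtain ⟨G, hG⟩ := aug_fg (R := R) π
  let T : Finset N := G.biUnion fun g => DFinsupp.support (decompose 𝒜 g)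
  have hsum : ∀ c, ∑ n ∈ T, πq n c = c := by
    intro c
    obtain ⟨⟨x, hx⟩, rfl⟩ := I.toCotangent_surjective c
    have hx' : x ∈ Ideal.span (G : Set A) := by rw [hG]; exact hx
    induction hx' using Submodule.span_induction with
    | mem g hg =>
      rw [Finset.sum_congr rfl fun n _ => hπq n ⟨g, hx⟩, ← map_sum]
      refine congrArg _ (Subtype.ext ?_)
      rw [Submodule.coe_sum]
      show ∑ n ∈ T, (decompose 𝒜 g n : A) = g
      conv_rhs => rw [← sum_support_decompose 𝒜 g]
      refine (Finset.sum_subset (Finset.subset_biUnion_of_mem (fun g => DFinsupp.support (decompose 𝒜 g))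
        (Finset.mem_coe.1 hg)) fun n _ hn => ?_).symm
      rw [DFinsupp.notMem_support_iff] at hn
      rw [hn]; rfl
    | zero =>
      rw [show (⟨0, hx⟩ : I) = 0 from rfl, map_zero]
      simp
    | add a b ha hb iha ihb =>
      rw [show (⟨a + b, hx⟩ : I) = ⟨a, hG.le ha⟩ + ⟨b, hG.le hb⟩ from rfl, map_add]
      simp only [map_add, Finset.sum_add_distrib, iha, ihb]
    | smul r a ha iha =>
      rw [show (⟨r • a, hx⟩ : I) = r • ⟨a, hG.le ha⟩ from rfl, map_smul, smul_cotangent π r]
      simp only [map_smul, ← Finset.smul_sum, iha]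
  obtain ⟨s₀, hs₀⟩ := Module.projective_lifting_property (I.toCotangent.restrictScalars (𝒜 0))
    LinearMap.id I.toCotangent_surjective
  let s' : I.Cotangent →ₗ[𝒜 0] I := ∑ n ∈ T, (pr n).comp (s₀.comp (πq n))
  let s : I.Cotangent →ₗ[𝒜 0] A := (I.subtype.restrictScalars (𝒜 0)).comp s'
  have hidem : ∀ n c, πq n (πq n c) = πq n c := fun n c => by
    obtain ⟨x, rfl⟩ := I.toCotangent_surjective c
    rw [hπq, hπq]
    refine congrArg _ (Subtype.ext ?_)
    show (decompose 𝒜 (decompose 𝒜 (x : A) n : A) n : A) = _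
    rw [decompose_coe, DirectSum.of_eq_same]
    rfl
  have hsq : ∀ c, I.toCotangent (s' c) = c := fun c => by
    simp only [s', LinearMap.sum_apply, map_sum, LinearMap.comp_apply]
    conv_rhs => rw [← hsum c]
    refine Finset.sum_congr rfl fun n _ => ?_
    rw [← hπq, show I.toCotangent (s₀ (πq n c)) = πq n c from LinearMap.congr_fun hs₀ _, hidem]
  refine ⟨s, fun c => ⟨(s' c).2, hsq c⟩, ?_⟩
  obtain ⟨D, hD⟩ := exists_rank N hsharp
  set B := (SymmetricAlgebra.lift s).range with hB
  suffices ∀ (d : ℕ) (n : N), D n = d → ∀ a ∈ 𝒜 n, a ∈ B by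
    intro a
    have : a ∈ B := by
      rw [← sum_support_decompose 𝒜 a]
      exact sum_mem fun n _ => this _ n rfl _ (SetLike.coe_mem _)
    exact this
  intro d
  induction d using Nat.strong_induction_on with
  | _ d ih =>
    intro n hn a ha
    by_cases hn0 : n = 0
    · subst hn0
      exact B.algebraMap_mem (⟨a, ha⟩ : 𝒜 0)
    have haI : a ∈ I := mem_aug_of_mem_ne 𝒜 hz ha hn0
    let c := I.toCotangent ⟨a, haI⟩
    have hπc : ∀ m, m ≠ n → πq m c = 0 := fun m hm => by
      rw [hπq, show pr m ⟨a, haI⟩ = 0 from Subtype.ext (decompose_of_mem_ne 𝒜 ha (Ne.symm hm)), map_zero]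
    have hsc : s c ∈ 𝒜 n := by
      show ((s' c : I) : A) ∈ 𝒜 n
      simp only [s', LinearMap.sum_apply, LinearMap.comp_apply]
      rw [Submodule.coe_sum]
      refine sum_mem fun m _ => ?_
      by_cases hm : m = n
      · subst hm; exact SetLike.coe_mem _
      · rw [hπc m hm, map_zero, map_zero]; exact zero_mem _
    have hscB : s c ∈ B := ⟨SymmetricAlgebra.ι _ _ c, SymmetricAlgebra.lift_ι_apply _ c⟩
    have hdiff : a - s c ∈ I ^ 2 := by
      have := (I.toCotangent_eq (x := ⟨a, haI⟩) (y := s' c)).1 (hsq c).symm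
      exact this
    have key : ∀ z ∈ I ^ 2, (decompose 𝒜 z n : A) ∈ B := fun z hzI => by
      rw [pow_two] at hzI
      refine Submodule.mul_induction_on hzI (fun x hx y hy => ?_) fun x y hx hy => by
        rw [decompose_add, DirectSum.add_apply, Submodule.coe_add]; exact add_mem hx hy
      rw [decompose_mul, coe_mul_apply]
      refine sum_mem fun ij hij => ?_
      obtain ⟨hij, hsum'⟩ := Finset.mem_filter.1 hij
      obtain ⟨h1, h2⟩ := Finset.mem_product.1 hij
      have hi : ij.1 ≠ 0 := fun h => (DFinsupp.mem_support_iff.1 h1) (by rw [h]; exact hx)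
      have hj : ij.2 ≠ 0 := fun h => (DFinsupp.mem_support_iff.1 h2) (by rw [h]; exact hy)
      exact mul_mem (ih _ (hn ▸ hsum' ▸ hD ij.1 ij.2 hj) _ rfl _ (SetLike.coe_mem _))
        (ih _ (hn ▸ hsum' ▸ (add_comm ij.2 ij.1 ▸ hD ij.2 ij.1 hi)) _ rfl _ (SetLike.coe_mem _))
    have := key _ hdiff
    rw [decompose_of_mem_same 𝒜 (sub_mem ha hsc)] at this
    have h' := add_mem this hscB
    rwa [sub_add_cancel] at h'

end Graded

end Groth.Agent.MiscTwoH99.SmoothGraded
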